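import Cfsg.Agent.Lib.Transfer.Fusion
import Mathlib.NumberTheory.Basic
import Mathlib.RingTheory.PrincipalIdealDomain
import Mathlib.RingTheory.Coprime.Lemmas
import Mathlib.Data.Nat.Prime.Int
import Mathlib.Algebra.EuclideanDomain.Int

/-!
# Burnside's theorem and abelian or cyclic Sylow subgroups

* `hasNormalPComplement_of_normalizer_le_centralizer`: Burnside.
* `inf_pResidual_eq_commutator_normalizer`: for abelian `P`, `P ∩ O^p(G) = [P, N_G(P)]`.
* `exists_surjective_inf_centralizer_normalizer`: for abelian `P`, `P = [P, N(P)] × C_P(N(P))`.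
* `hasNormalPComplement_or_pResidual_eq_top_of_isCyclic`.
-/

set_option linter.style.haveILetI false

namespace Cfsg.Agent.Transfer

open scoped Pointwise commutatorElement

variable {G : Type*} [Group G] [Finite G] {p : ℕ} [Fact p.Prime]

/-- Burnside: if `N_G(P) ≤ C_G(P)` then `G` has a normal `p`-complement. -/
theorem hasNormalPComplement_of_normalizer_le_centralizer (P : Sylow p G)
    (h : Subgroup.normalizer (P : Set G) ≤ Subgroup.centralizer (P : Set G)) :
    Cfsg.HasNormalPComplement p G :=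
  ⟨P, _, inferInstance, MonoidHom.ker_transferSylow_isComplement' P h⟩

theorem commutator_le_left_of_le_normalizer {A B : Subgroup G}
    (h : B ≤ Subgroup.normalizer (A : Set G)) : ⁅A, B⁆ ≤ A := by
  rw [Subgroup.commutator_le]
  intro a ha b hb
  have h1 := (Subgroup.mem_normalizer_iff.mp (h hb) _).mp (inv_mem ha)
  rw [commutatorElement_def]
  simpa [mul_assoc] using mul_mem ha h1

theorem pResidual_le_centralizer_of_central_sylow (P : Sylow p G)
    (h : (P : Subgroup G) ≤ Subgroup.center G) : (P : Subgroup G) ⊓ Cfsg.pResidual p G = ⊥ := by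
  refine (hasNormalPComplement_iff_inf_eq_bot P).mp
    (hasNormalPComplement_of_normalizer_le_centralizer P fun x _ => ?_)
  rw [Subgroup.mem_centralizer_iff]
  exact fun y hy => (Subgroup.mem_center_iff.mp (h hy) x).symm

/-- For an abelian Sylow subgroup, `P ∩ O^p(G) = [P, N_G(P)]`. -/
theorem inf_pResidual_eq_commutator_normalizer (P : Sylow p G) (hP : IsMulCommutative P) :
    (P : Subgroup G) ⊓ Cfsg.pResidual p G =
      ⁅(P : Subgroup G), Subgroup.normalizer (P : Set G)⁆ := by
  set N := Subgroup.normalizer (P : Set G) with hN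
  have hPN : (P : Subgroup G) ≤ N := Subgroup.le_normalizer
  rw [inf_pResidual_eq_of_controlsElementFusion P hPN
    (controlsElementFusion_normalizer_of_isMulCommutative P hP)]
  set Q : Sylow p N := P.subtype hPN
  haveI hQn : (Q : Subgroup N).Normal := by
    rw [Sylow.coe_subtype]
    exact Subgroup.normal_in_normalizer
  have hQc : ∀ a ∈ (Q : Subgroup N), ∀ b ∈ (Q : Subgroup N), a * b = b * a := by
    intro a ha b hb
    apply Subtype.ext
    have h := congrArg Subtype.val (hP.is_comm.comm (⟨(a : G), ha⟩ : (P : Subgroup G)) ⟨(b : G), hb⟩)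
    exact h
  haveI := pResidual_normal (G := N) p
  have key : (Q : Subgroup N) ⊓ Cfsg.pResidual p N = ⁅(Q : Subgroup N), (⊤ : Subgroup N)⁆ := by
    set M := ⁅(Q : Subgroup N), (⊤ : Subgroup N)⁆ with hM
    haveI : M.Normal := Subgroup.commutator_normal _ _
    apply le_antisymm
    · set Q' : Sylow p (N ⧸ M) := Q.mapSurjective (QuotientGroup.mk'_surjective M)
      have hc : (Q' : Subgroup (N ⧸ M)) ≤ Subgroup.center (N ⧸ M) := by
        rintro _ ⟨a, ha, rfl⟩
        rw [Subgroup.mem_center_iff]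
        intro y
        obtain ⟨b, rfl⟩ := QuotientGroup.mk_surjective y
        have : ⁅a, b⁆ ∈ M := Subgroup.commutator_mem_commutator ha (Subgroup.mem_top b)
        have h1 : ((⁅a, b⁆ : N) : N ⧸ M) = 1 := (QuotientGroup.eq_one_iff _).mpr this
        rw [QuotientGroup.mk'_apply] at *
        rw [commutatorElement_def, QuotientGroup.mk_mul, QuotientGroup.mk_mul, QuotientGroup.mk_mul,
          QuotientGroup.mk_inv, QuotientGroup.mk_inv] at h1
        exact (commutatorElement_eq_one_iff_mul_comm.mp (by rw [commutatorElement_def]; exact h1)).symm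
      have h0 := pResidual_le_centralizer_of_central_sylow Q' hc
      rintro x ⟨hxQ, hxR⟩
      have hx' : QuotientGroup.mk' M x ∈ (Q' : Subgroup (N ⧸ M)) ⊓ Cfsg.pResidual p (N ⧸ M) :=
        ⟨⟨x, hxQ, rfl⟩, map_residual_le _ p ⟨x, hxR, rfl⟩⟩
      rw [h0, Subgroup.mem_bot] at hx'
      exact (QuotientGroup.eq_one_iff x).mp hx'
    · refine le_inf (commutator_le_left_of_le_normalizer (Subgroup.normalizer_eq_top_iff.mpr hQn).ge) ?_
      rw [Subgroup.commutator_le]
      intro a ha b _
      have htop : (Q : Subgroup N) ⊔ Cfsg.pResidual p N = ⊤ := sylow_sup_pResidual_eq_top Q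
      obtain ⟨z, hz, o, ho, rfl⟩ := Subgroup.mem_sup_of_normal_right.mp
        (htop ▸ Subgroup.mem_top b)
      have hconj := (inferInstance : (Cfsg.pResidual p N).Normal).conj_mem
      have h2 : a * o * a⁻¹ * o⁻¹ ∈ Cfsg.pResidual p N :=
        mul_mem (hconj o ho a) (inv_mem ho)
      have h3 := hconj _ h2 z
      have : ⁅a, z * o⁆ = z * (a * o * a⁻¹ * o⁻¹) * z⁻¹ := by
        rw [commutatorElement_def]
        calc a * (z * o) * a⁻¹ * (z * o)⁻¹ = (a * z) * o * a⁻¹ * o⁻¹ * z⁻¹ := by group
          _ = (z * a) * o * a⁻¹ * o⁻¹ * z⁻¹ := by rw [hQc a ha z hz]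
          _ = z * (a * o * a⁻¹ * o⁻¹) * z⁻¹ := by group
      rw [this]
      exact h3
  have h1 := congrArg (Subgroup.map N.subtype) key
  rw [Subgroup.map_inf _ _ _ N.subtype_injective, Subgroup.map_commutator,
    ← MonoidHom.range_eq_map, Subgroup.range_subtype, Sylow.coe_subtype,
    Subgroup.map_subgroupOf_eq_of_le hPN] at h1
  exact h1

/-- For abelian `P`, every element of `P` is congruent to an element of `C_P(N_G(P))`
modulo the focal subgroup. -/
theorem exists_mem_centralizer_normalizer_mul_focal (P : Sylow p G) (hP : IsMulCommutative P)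
    {t : G} (ht : t ∈ P) :
    ∃ c ∈ (P : Subgroup G) ⊓ Subgroup.centralizer (Subgroup.normalizer (P : Set G) : Set G),
      c⁻¹ * t ∈ (P : Subgroup G).focalSubgroup := by
  classical
  haveI : IsMulCommutative (P : Subgroup G) := hP
  open scoped IsMulCommutative in
  set N := Subgroup.normalizer (P : Set G) with hN
  open scoped IsMulCommutative in
  let φ : N →* MulAut (P : Subgroup G) := Subgroup.normalizerMonoidHom _
  set M := (P : Subgroup G).subgroupOf N with hM
  haveI : M.Normal := Subgroup.normal_in_normalizer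
  have hker : M ≤ φ.ker := by
    rw [Subgroup.normalizerMonoidHom_ker, hM]
    exact Subgroup.comap_mono (Subgroup.le_centralizer _)
  let ψ : N ⧸ M →* MulAut (P : Subgroup G) := QuotientGroup.lift M φ hker
  haveI : Fintype (N ⧸ M) := Fintype.ofFinite _
  have hco : Nat.Coprime (Nat.card (P : Subgroup G)) (Nat.card (N ⧸ M)) := by
    rw [← Subgroup.index_eq_card]
    exact (sylow_coprime P).coprime_dvd_right (Subgroup.relIndex_dvd_index_of_le Subgroup.le_normalizer)
  open scoped IsMulCommutative in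
  obtain ⟨s, hs⟩ := (powCoprime hco).surjective ⟨t, ht⟩
  have hs' : s ^ Nat.card (N ⧸ M) = ⟨t, ht⟩ := hs
  open scoped IsMulCommutative in
  refine ⟨((∏ q : N ⧸ M, ψ q s : (P : Subgroup G)) : G), ⟨SetLike.coe_mem _, ?_⟩, ?_⟩
  · open scoped IsMulCommutative in
    show _ ∈ Subgroup.centralizer _
    rw [Subgroup.mem_centralizer_iff]
    intro n hn
    have key : ψ ((⟨n, hn⟩ : N) : N ⧸ M) (∏ q : N ⧸ M, ψ q s) = ∏ q : N ⧸ M, ψ q s := by
      rw [map_prod]
      refine Fintype.prod_equiv (Equiv.mulLeft ((⟨n, hn⟩ : N) : N ⧸ M)) _ _ fun q => ?_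
      simp only [Equiv.coe_mulLeft, map_mul, MulAut.mul_apply]
    have h2 : n * ((∏ q : N ⧸ M, ψ q s : (P : Subgroup G)) : G) * n⁻¹ =
        ((∏ q : N ⧸ M, ψ q s : (P : Subgroup G)) : G) := congrArg Subtype.val key
    exact mul_inv_eq_iff_eq_mul.mp h2
  · open scoped IsMulCommutative in
    have key : (∏ q : N ⧸ M, ψ q s)⁻¹ * (⟨t, ht⟩ : (P : Subgroup G)) ∈
        (P : Subgroup G).focalSubgroupOf := by
      rw [← hs', Nat.card_eq_fintype_card, ← Finset.card_univ, ← Finset.prod_const,
        ← Finset.prod_inv_distrib, ← Finset.prod_mul_distrib]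
      refine Subgroup.prod_mem _ fun q _ => ?_
      obtain ⟨n, rfl⟩ := QuotientGroup.mk_surjective q
      rw [Subgroup.focalSubgroupOf_eq_closure]
      refine Subgroup.subset_closure ⟨(n : G) * (s⁻¹ : (P : Subgroup G)) * (n : G)⁻¹, ?_,
        (n : G)⁻¹, ?_⟩
      · exact (φ n s⁻¹).2
      · show ((n : G) * s * (n : G)⁻¹)⁻¹ * (s : G) = _
        simp [commutatorElement_def, mul_assoc]
    exact key

theorem inf_centralizer_normalizer_inf_commutator_eq_bot (P : Sylow p G)
    (hP : IsMulCommutative P) :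
    (P : Subgroup G) ⊓ Subgroup.centralizer (Subgroup.normalizer (P : Set G) : Set G) ⊓
      _root_.commutator G = ⊥ := by
  rw [eq_bot_iff]
  rintro x ⟨⟨hxP, hxC⟩, hxG⟩
  haveI : IsMulCommutative (P : Subgroup G) := hP
  set N := Subgroup.normalizer (P : Set G) with hN
  have hPN : (P : Subgroup G) ≤ N := Subgroup.le_normalizer
  have hx : x ∈ ⁅N, N⁆ ⊓ (P : Subgroup G) := by
    rw [← commutator_inf_eq_of_controlsElementFusion (sylow_coprime P) hPN
      (controlsElementFusion_normalizer_of_isMulCommutative P hP)]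
    exact ⟨hxG, hxP⟩
  rw [← Subgroup.map_subtype_commutator] at hx
  obtain ⟨⟨y, hy, rfl⟩, -⟩ := hx
  set Q := (P : Subgroup G).subgroupOf N
  haveI : IsMulCommutative Q := ⟨⟨fun a b => by
    apply Subtype.ext
    apply Subtype.ext
    have h := congrArg Subtype.val
      (hP.is_comm.comm (⟨((a : N) : G), a.2⟩ : (P : Subgroup G)) ⟨((b : N) : G), b.2⟩)
    exact h⟩⟩
  open scoped IsMulCommutative in
  let V : N →* Q := MonoidHom.transfer (MonoidHom.id Q)
  open scoped IsMulCommutative in
  have h1 : V y = 1 := Abelianization.commutator_subset_ker V hy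
  have key : ∀ (k : ℕ) (g₀ : N), g₀⁻¹ * y ^ k * g₀ ∈ Q → g₀⁻¹ * y ^ k * g₀ = y ^ k := by
    intro k g₀ _
    apply Subtype.ext
    have hc := (Subgroup.mem_centralizer_iff.mp (pow_mem hxC k)) _ g₀.2
    simp only [Subgroup.coe_subtype] at hc
    simp only [Subgroup.coe_mul, Subgroup.coe_inv, Subgroup.coe_pow, mul_assoc]
    rw [inv_mul_eq_iff_eq_mul]
    exact hc.symm
  open scoped IsMulCommutative in
  have h2 := (MonoidHom.transfer_eq_pow (MonoidHom.id Q) y key).symm.trans h1
  have h3 : y ^ Q.index = 1 := congrArg Subtype.val h2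
  have hyQ : y ∈ Q := hxP
  have hy1 : orderOf y = 1 := by
    refine Nat.eq_one_of_dvd_coprimes ?_ (Subgroup.orderOf_dvd_natCard Q hyQ)
      (orderOf_dvd_of_pow_eq_one h3)
    exact coprime_card_index_subgroupOf hPN (sylow_coprime P)
  rw [orderOf_eq_one_iff] at hy1
  simp [hy1]

/-- An abelian Sylow subgroup gives an abelian quotient `≅ P ∩ Z(N_G(P))`. -/
theorem exists_surjective_inf_centralizer_normalizer (P : Sylow p G) (hP : IsMulCommutative P) :
    ∃ f : G →* ((P : Subgroup G) ⊓
        Subgroup.centralizer (Subgroup.normalizer (P : Set G) : Set G) : Subgroup G),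
      Function.Surjective f := by
  haveI : IsMulCommutative (P : Subgroup G) := hP
  set C := (P : Subgroup G) ⊓ Subgroup.centralizer (Subgroup.normalizer (P : Set G) : Set G)
  let j : C →* (P : Subgroup G) ⧸ (P : Subgroup G).focalSubgroupOf :=
    (QuotientGroup.mk' _).comp (Subgroup.inclusion inf_le_left)
  have hbij : Function.Bijective j := by
    constructor
    · rw [← MonoidHom.ker_eq_bot_iff, eq_bot_iff]
      intro c hc
      have hc' : (c : G) ∈ (P : Subgroup G).focalSubgroup :=
        Subgroup.mem_subgroupOf.mp ((QuotientGroup.eq_one_iff (Subgroup.inclusion inf_le_left c : (P : Subgroup G))).mp hc)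
      have := (inf_centralizer_normalizer_inf_commutator_eq_bot P hP).le
        ⟨c.2, (P : Subgroup G).focalSubgroup_le_commutator hc'⟩
      exact Subtype.ext this
    · intro y
      obtain ⟨⟨t, ht⟩, rfl⟩ := QuotientGroup.mk_surjective y
      obtain ⟨c, hc, hct⟩ := exists_mem_centralizer_normalizer_mul_focal P hP ht
      exact ⟨⟨c, hc⟩, QuotientGroup.eq.mpr (Subgroup.mem_subgroupOf.mpr hct)⟩
  refine ⟨(MulEquiv.ofBijective j hbij).symm.toMonoidHom.comp (P : Subgroup G).transferFocal, ?_⟩
  exact (MulEquiv.ofBijective j hbij).symm.surjective.comp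
    (Subgroup.transferFocal_surjective P)

/-- A cyclic Sylow subgroup: normal `p`-complement or `O^p(G) = G`. -/
theorem hasNormalPComplement_or_pResidual_eq_top_of_isCyclic (P : Sylow p G) (hP : IsCyclic P) :
    Cfsg.HasNormalPComplement p G ∨ Cfsg.pResidual p G = ⊤ := by
  have hpp : p.Prime := Fact.out
  have hPc : IsMulCommutative P := by
    haveI := hP
    exact ⟨⟨fun a b => by
      obtain ⟨g, hg⟩ := IsCyclic.exists_generator (α := P)
      obtain ⟨i, rfl⟩ := Subgroup.mem_zpowers_iff.mp (hg a)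
      obtain ⟨j, rfl⟩ := Subgroup.mem_zpowers_iff.mp (hg b)
      exact ((Commute.refl g).zpow_zpow i j)⟩⟩
  by_cases hle : (P : Subgroup G) ≤ Cfsg.pResidual p G
  · exact Or.inr (by rw [← sylow_sup_pResidual_eq_top P, sup_eq_right.mpr hle])
  refine Or.inl (hasNormalPComplement_of_normalizer_le_centralizer P ?_)
  set N := Subgroup.normalizer (P : Set G) with hN
  have hPN : (P : Subgroup G) ≤ N := Subgroup.le_normalizer
  obtain ⟨x, hxgen⟩ := IsCyclic.exists_generator (α := P)
  have hxP : (x : G) ∈ P := x.2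
  -- elements of order prime to `p` in `N` centralize `x`
  have key : ∀ n ∈ N, Nat.Coprime (orderOf n) p → Commute n (x : G) := by
    intro n hn hcop
    have hy : n * (x : G) * n⁻¹ ∈ (P : Subgroup G) :=
      (Subgroup.mem_normalizer_iff.mp hn _).mp hxP
    obtain ⟨a, ha⟩ := Subgroup.mem_zpowers_iff.mp (hxgen ⟨_, hy⟩)
    have ha' : (x : G) ^ a = n * (x : G) * n⁻¹ := by
      have := congrArg Subtype.val ha
      simpa using this
    have hiter : ∀ m : ℕ, n ^ m * (x : G) * (n ^ m)⁻¹ = (x : G) ^ (a ^ m) := by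
      intro m
      induction m with
      | zero => simp
      | succ m ih =>
        rw [pow_succ', pow_succ a m, mul_comm (a ^ m) a, zpow_mul, ha', conj_zpow, ← ih]
        group
    have hpa : (p : ℤ) ∣ a - 1 := by
      by_contra hna
      apply hle
      have hmem : (x : G) ^ (a - 1) ∈ Cfsg.pResidual p G := by
        have h1 : ⁅(x : G)⁻¹, n⁆⁻¹ = ⁅n, (x : G)⁻¹⁆ := commutatorElement_inv _ _
        have h2 : (x : G) ^ (a - 1) ∈ ⁅(P : Subgroup G), N⁆ := by
          have h3 : ⁅(x : G), n⁆⁻¹ ∈ ⁅(P : Subgroup G), N⁆ :=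
            inv_mem (Subgroup.commutator_mem_commutator hxP hn)
          rw [commutatorElement_inv, commutatorElement_def] at h3
          rw [zpow_sub, zpow_one, ha']
          exact h3
        rw [← inf_pResidual_eq_commutator_normalizer P hPc] at h2
        exact h2.2
      obtain ⟨k, hk⟩ := P.2.exists_card_eq
      have hcop' : IsCoprime (a - 1) ((p : ℤ) ^ k) :=
        (((Nat.prime_iff_prime_int).mp hpp).coprime_iff_not_dvd.mpr hna).symm.pow_right
      obtain ⟨u, v, huv⟩ := hcop'
      have hxk : (x : G) ^ ((p : ℤ) ^ k) = 1 := by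
        rw [← Nat.cast_pow, zpow_natCast, ← hk]
        exact orderOf_dvd_iff_pow_eq_one.mp (Subgroup.orderOf_dvd_natCard _ hxP)
      have hx : (x : G) ∈ Cfsg.pResidual p G := by
        have h4 : (x : G) = ((x : G) ^ (a - 1)) ^ u := by
          conv_lhs => rw [← zpow_one (x : G), ← huv, zpow_add, mul_comm u, zpow_mul, mul_comm v,
            zpow_mul, hxk, one_zpow, mul_one]
        rw [h4]
        exact zpow_mem hmem u
      intro z hz
      obtain ⟨i, hi⟩ := Subgroup.mem_zpowers_iff.mp (hxgen ⟨z, hz⟩)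
      have : (x : G) ^ i = z := by simpa using congrArg Subtype.val hi
      exact this ▸ zpow_mem hx i
    obtain ⟨k, hk⟩ := P.2.exists_card_eq
    have h5 : (p : ℤ) ^ (k + 1) ∣ a ^ p ^ k - 1 := by
      have := dvd_sub_pow_of_dvd_sub (p := p) hpa k
      rwa [one_pow] at this
    have h6 : n ^ p ^ k * (x : G) * (n ^ p ^ k)⁻¹ = x := by
      rw [hiter]
      obtain ⟨c, hc⟩ := (pow_dvd_pow (p : ℤ) k.le_succ).trans h5
      have h7 : a ^ p ^ k = (p : ℤ) ^ k * c + 1 := by rw [← hc]; ring
      rw [h7, zpow_add, zpow_one, zpow_mul, ← Nat.cast_pow, zpow_natCast, ← hk,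
        orderOf_dvd_iff_pow_eq_one.mp (Subgroup.orderOf_dvd_natCard _ hxP), one_zpow, one_mul]
    have h8 : Commute (n ^ p ^ k) (x : G) := mul_inv_eq_iff_eq_mul.mp h6
    have h9 : n ∈ Subgroup.zpowers (n ^ p ^ k) := mem_zpowers_pow_iff.mpr (hcop.pow_right k).symm
    obtain ⟨i, hi⟩ := Subgroup.mem_zpowers_iff.mp h9
    exact hi ▸ h8.zpow_left i
  intro n hn
  have htop : (P.subtype hPN : Subgroup N) ⊔ Cfsg.pResidual p N = ⊤ :=
    sylow_sup_pResidual_eq_top _
  suffices h : ⊤ ≤ (Subgroup.centralizer {(x : G)}).comap N.subtype by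
    have h1 : n ∈ Subgroup.centralizer {(x : G)} := h (Subgroup.mem_top ⟨n, hn⟩)
    rw [Subgroup.mem_centralizer_iff]
    intro z hz
    obtain ⟨i, hi⟩ := Subgroup.mem_zpowers_iff.mp (hxgen ⟨z, hz⟩)
    have : (x : G) ^ i = z := by simpa using congrArg Subtype.val hi
    rw [← this]
    exact (Commute.zpow_right (Subgroup.mem_centralizer_singleton_iff.mp h1 : Commute n (x : G)) i).symm
  rw [← htop, sup_le_iff]
  constructor
  · intro z hz
    show (z : G) ∈ Subgroup.centralizer {(x : G)}
    rw [Subgroup.mem_centralizer_singleton_iff]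
    exact congrArg Subtype.val (hPc.is_comm.comm ⟨(z : G), hz⟩ x)
  · rw [Cfsg.pResidual, Subgroup.closure_le]
    intro z hz
    show (z : G) ∈ Subgroup.centralizer {(x : G)}
    rw [Subgroup.mem_centralizer_singleton_iff]
    exact key z z.2 (by rw [Subgroup.orderOf_coe]; exact hz)

end Cfsg.Agent.Transfer
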