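import Cfsg.Agent.Lib.Transfer.Alperin
import Cfsg.Agent.Lib.Transfer.Burnside

/-!
# Frobenius' normal `p`-complement theorem

* `hasNormalPComplement_of_centralizer`: if for every `Q ≤ P` the elements of `N_G(Q)` of order
  prime to `p` centralise `Q`, then `G` has a normal `p`-complement.
* `hasNormalPComplement_of_normalizer_hasNormalPComplement`: the local form.
-/

set_option linter.style.haveILetI false

namespace Cfsg.Agent.Transfer

open scoped commutatorElement

variable {G : Type*} [Group G] [Finite G] {p : ℕ} [Fact p.Prime]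

/-- If the `p'`-elements of `N_G(D)` centralise `D`, every conjugation by an element of `N_G(D)` is
induced by an element of any subgroup of `p`-prime index in `N_G(D)`. -/
theorem exists_conj_eq_of_coprime_centralize {D S : Subgroup G}
    (hS : ¬ p ∣ S.relIndex (Subgroup.normalizer (D : Set G)))
    (h : ∀ g ∈ Subgroup.normalizer (D : Set G), Nat.Coprime (orderOf g) p →
      g ∈ Subgroup.centralizer (D : Set G))
    {x : G} (hx : x ∈ Subgroup.normalizer (D : Set G)) :
    ∃ y ∈ S, ∀ d ∈ D, y⁻¹ * d * y = x⁻¹ * d * x := by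
  set N := Subgroup.normalizer (D : Set G)
  haveI := pResidual_normal (G := N) p
  have htop : S.subgroupOf N ⊔ Cfsg.pResidual p N = ⊤ :=
    sup_residual_eq_top _ p ((Nat.Prime.coprime_iff_not_dvd Fact.out).mpr hS)
  obtain ⟨o, ho, y, hy, hoy⟩ : ∃ o ∈ Cfsg.pResidual p N, ∃ y ∈ S.subgroupOf N,
      o * y = (⟨x, hx⟩ : N) :=
    Subgroup.mem_sup_of_normal_left.mp (sup_comm (S.subgroupOf N) _ ▸ htop ▸ Subgroup.mem_top _)
  have hoy' : (o : G) * (y : G) = x := congrArg Subtype.val hoy
  have hoC : (o : G) ∈ Subgroup.centralizer (D : Set G) := by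
    have hle : Cfsg.pResidual p N ≤ (Subgroup.centralizer (D : Set G)).subgroupOf N := by
      rw [Cfsg.pResidual, Subgroup.closure_le]
      intro z hz
      exact h z z.2 (by rw [Subgroup.orderOf_coe]; exact hz)
    exact hle ho
  refine ⟨y, hy, fun d hd => ?_⟩
  have h1 : d * (o : G) = o * d := (Subgroup.mem_centralizer_iff.mp hoC) d hd
  rw [← hoy']
  calc (y : G)⁻¹ * d * y = (y : G)⁻¹ * ((o : G)⁻¹ * (o * d)) * y := by group
    _ = (y : G)⁻¹ * ((o : G)⁻¹ * (d * o)) * y := by rw [h1]
    _ = ((o : G) * y)⁻¹ * d * (o * y) := by group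

/-- **Frobenius' normal `p`-complement theorem**. -/
theorem hasNormalPComplement_of_centralizer (P : Sylow p G)
    (h : ∀ Q : Subgroup G, Q ≤ (P : Subgroup G) → ∀ g ∈ Subgroup.normalizer (Q : Set G),
      Nat.Coprime (orderOf g) p → g ∈ Subgroup.centralizer (Q : Set G)) :
    Cfsg.HasNormalPComplement p G := by
  refine hasNormalPComplement_of_own_fusion P (controlsElementFusion_of_tame P _ ?_)
  intro D hD x hx
  have hDP := hD.le
  obtain ⟨Q, -, hP, -⟩ := hD
  obtain ⟨y, hy, he⟩ := exists_conj_eq_of_coprime_centralize hP (h D hDP) hx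
  exact ⟨y, hy.1, he⟩

/-- A `p'`-element normalising a `p`-subgroup in a group with a normal `p`-complement centralises
it. -/
theorem mem_centralizer_of_hasNormalPComplement {Q : Subgroup G}
    (hQ : IsPGroup p Q) (h : Cfsg.HasNormalPComplement p (Subgroup.normalizer (Q : Set G)))
    {g : G} (hg : g ∈ Subgroup.normalizer (Q : Set G)) (hco : Nat.Coprime (orderOf g) p) :
    g ∈ Subgroup.centralizer (Q : Set G) := by
  rw [Subgroup.mem_centralizer_iff]
  intro q hq
  set N := Subgroup.normalizer (Q : Set G)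
  have hgK : (⟨g, hg⟩ : N) ∈ Cfsg.pResidual p N :=
    (mem_pResidual_iff h _).mpr (by rwa [Subgroup.orderOf_mk])
  have h1 : ⁅q, g⁆ ∈ Q := by
    have h2 := (Subgroup.mem_normalizer_iff.mp hg q⁻¹).mp (inv_mem hq)
    simpa [commutatorElement_def, mul_assoc] using mul_mem hq h2
  have h3 : (⟨q, Subgroup.le_normalizer hq⟩ : N) * ⟨g, hg⟩ * ⟨q, Subgroup.le_normalizer hq⟩⁻¹ *
      (⟨g, hg⟩ : N)⁻¹ ∈ Cfsg.pResidual p N :=
    mul_mem ((pResidual_normal (G := N) p).conj_mem _ hgK _) (inv_mem hgK)
  have h4 := (mem_pResidual_iff h _).mp h3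
  rw [← Subgroup.orderOf_coe] at h4
  have h5 : Nat.Coprime (orderOf ⁅q, g⁆) p := h4
  have h6 : orderOf ⁅q, g⁆ = 1 := by
    obtain ⟨k, hk⟩ := hQ.exists_card_eq
    exact Nat.eq_one_of_dvd_coprimes (h5.pow_right k) dvd_rfl
      (hk ▸ Subgroup.orderOf_dvd_natCard Q h1)
  exact commutatorElement_eq_one_iff_mul_comm.mp (orderOf_eq_one_iff.mp h6)

theorem coprime_orderOf_centralize_iff (P : Sylow p G) :
    (∀ Q : Subgroup G, Q ≤ (P : Subgroup G) → ∀ g ∈ Subgroup.normalizer (Q : Set G),
      Nat.Coprime (orderOf g) p → g ∈ Subgroup.centralizer (Q : Set G)) ↔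
      Cfsg.HasNormalPComplement p G :=
  ⟨hasNormalPComplement_of_centralizer P, fun h Q hQ _ hg hco =>
    mem_centralizer_of_hasNormalPComplement (P.2.to_le hQ) (HasNormalPComplement_subgroup h _)
      hg hco⟩

/-- **Frobenius' criterion, local form**. -/
theorem hasNormalPComplement_of_normalizer_hasNormalPComplement
    (h : ∀ Q : Subgroup G, IsPGroup p Q → Q ≠ ⊥ →
      Cfsg.HasNormalPComplement p (Subgroup.normalizer (Q : Set G))) :
    Cfsg.HasNormalPComplement p G := by
  obtain ⟨P⟩ := (inferInstance : Nonempty (Sylow p G))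
  refine hasNormalPComplement_of_centralizer P fun Q hQ g hg hco => ?_
  by_cases hb : Q = ⊥
  · subst hb
    simp [Subgroup.mem_centralizer_iff]
  · exact mem_centralizer_of_hasNormalPComplement (P.2.to_le hQ) (h Q (P.2.to_le hQ) hb) hg hco

theorem hasNormalPComplement_iff_normalizer :
    Cfsg.HasNormalPComplement p G ↔ ∀ Q : Subgroup G, IsPGroup p Q → Q ≠ ⊥ →
      Cfsg.HasNormalPComplement p (Subgroup.normalizer (Q : Set G)) :=
  ⟨fun h _ _ _ => HasNormalPComplement_subgroup h _,
    hasNormalPComplement_of_normalizer_hasNormalPComplement⟩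

end Cfsg.Agent.Transfer
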