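import Cfsg.Prelude.Def_Transfer
import Mathlib.GroupTheory.Transfer
import Mathlib.GroupTheory.QuotientGroup.Basic

/-!
# The residual `O^n(G)` and normal `p`-complements

`residual n G` is the subgroup generated by the elements of order prime to `n`; for a prime `p` it is
definitionally `Cfsg.pResidual p G = O^p(G)`, for `n = |H|` (`H` a Hall π-subgroup) it is `O^π(G)`.
-/

set_option linter.style.haveILetI false

namespace Cfsg.Agent.Transfer

open scoped Pointwise

universe u

variable {G : Type*} [Group G] {H : Type*} [Group H]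

/-- The subgroup generated by the elements of order prime to `n`. -/
def residual (n : ℕ) (G : Type u) [Group G] : Subgroup G :=
  Subgroup.closure {g : G | Nat.Coprime (orderOf g) n}

theorem pResidual_eq_residual (p : ℕ) : Cfsg.pResidual p G = residual p G := rfl

theorem mem_residual_of_coprime {n : ℕ} {g : G} (h : Nat.Coprime (orderOf g) n) :
    g ∈ residual n G :=
  Subgroup.subset_closure h

/-- Split a natural number into a part built from primes of `n` and a part prime to `n`. -/
theorem exists_mul_coprime_dvd_pow (n : ℕ) : ∀ o : ℕ, 0 < o →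
    ∃ a b : ℕ, o = a * b ∧ Nat.Coprime b n ∧ a ∣ n ^ o := by
  intro o
  induction o using Nat.strong_induction_on with
  | _ o ih =>
    intro ho
    by_cases hc : Nat.Coprime o n
    · exact ⟨1, o, (one_mul o).symm, hc, one_dvd _⟩
    · obtain ⟨q, hq, hqo, hqn⟩ := Nat.Prime.not_coprime_iff_dvd.mp hc
      obtain ⟨o', rfl⟩ := hqo
      have ho' : 0 < o' := pos_of_mul_pos_right ho (Nat.zero_le q)
      have hlt : o' < q * o' := (lt_mul_iff_one_lt_left ho').mpr hq.one_lt
      obtain ⟨a, b, hab, hb, ha⟩ := ih o' hlt ho'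
      refine ⟨q * a, b, by rw [hab, mul_assoc], hb, ?_⟩
      calc q * a ∣ n * n ^ o' := Nat.mul_dvd_mul hqn ha
        _ = n ^ (o' + 1) := (pow_succ' n o').symm
        _ ∣ n ^ (q * o') := pow_dvd_pow n hlt

theorem map_residual_le (f : G →* H) (n : ℕ) : (residual n G).map f ≤ residual n H := by
  rw [residual, MonoidHom.map_closure, Subgroup.closure_le]
  rintro _ ⟨g, hg, rfl⟩
  exact mem_residual_of_coprime (Nat.Coprime.coprime_dvd_left (orderOf_map_dvd f g) hg)

theorem map_residual_subtype_le (K : Subgroup G) (n : ℕ) :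
    (residual n K).map K.subtype ≤ residual n G :=
  map_residual_le _ n

theorem map_residual_mulEquiv (e : G ≃* H) (n : ℕ) :
    (residual n G).map e.toMonoidHom = residual n H := by
  refine le_antisymm (map_residual_le _ n) ?_
  intro x hx
  have h2 := map_residual_le e.symm.toMonoidHom n ⟨x, hx, rfl⟩
  exact ⟨e.symm x, h2, e.apply_symm_apply x⟩

instance residual_characteristic (n : ℕ) : (residual n G).Characteristic :=
  Subgroup.characteristic_iff_map_le.mpr fun φ => map_residual_le φ.toMonoidHom n

theorem residual_normal (n : ℕ) : (residual n G).Normal := inferInstance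

theorem pResidual_normal (p : ℕ) : (Cfsg.pResidual p G).Normal := residual_normal p

theorem pResidual_characteristic (p : ℕ) : (Cfsg.pResidual p G).Characteristic :=
  residual_characteristic p

/-- Every element has a power, with exponent dividing a power of `n`, in `O^n(G)`. -/
theorem exists_dvd_pow_mem_residual [Finite G] (n : ℕ) (x : G) :
    ∃ a k : ℕ, a ∣ n ^ k ∧ x ^ a ∈ residual n G := by
  obtain ⟨a, b, hab, hb, ha⟩ := exists_mul_coprime_dvd_pow n _ (orderOf_pos x)
  refine ⟨a, _, ha, mem_residual_of_coprime ?_⟩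
  have hb' : orderOf (x ^ a) ∣ b := by
    apply orderOf_dvd_of_pow_eq_one
    rw [← pow_mul, ← hab, pow_orderOf_eq_one]
  exact hb.coprime_dvd_left hb'

theorem exists_pow_mem_residual [Finite G] (n : ℕ) (x : G) :
    ∃ k : ℕ, x ^ (n ^ k) ∈ residual n G := by
  obtain ⟨a, k, ⟨c, hc⟩, ha⟩ := exists_dvd_pow_mem_residual n x
  refine ⟨k, ?_⟩
  rw [hc, pow_mul]
  exact pow_mem ha c

theorem isPGroup_quotient_pResidual [Finite G] (p : ℕ) :
    haveI := pResidual_normal (G := G) p
    IsPGroup p (G ⧸ Cfsg.pResidual p G) := by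
  intro x
  haveI := pResidual_normal (G := G) p
  obtain ⟨x, rfl⟩ := QuotientGroup.mk_surjective x
  obtain ⟨k, hk⟩ := exists_pow_mem_residual p x
  exact ⟨k, by rw [← QuotientGroup.mk_pow]; exact (QuotientGroup.eq_one_iff _).mpr hk⟩

/-- If all elements of the image of `f` have `n`-power exponent, `O^n(G) ≤ ker f`. -/
theorem residual_le_ker (f : G →* H) (n : ℕ) (h : ∀ x, ∃ k : ℕ, f x ^ (n ^ k) = 1) :
    residual n G ≤ f.ker := by
  rw [residual, Subgroup.closure_le]
  intro g hg
  obtain ⟨k, hk⟩ := h g
  rw [SetLike.mem_coe, MonoidHom.mem_ker, ← orderOf_eq_one_iff]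
  refine Nat.eq_one_of_dvd_coprimes (Nat.Coprime.pow_right k hg)
    (orderOf_map_dvd f g) (orderOf_dvd_of_pow_eq_one hk)

theorem residual_le_ker_of_card (f : G →* H) (n : ℕ) {k : ℕ} (h : Nat.card H ∣ n ^ k) :
    residual n G ≤ f.ker := by
  refine residual_le_ker f n fun x => ⟨k, ?_⟩
  obtain ⟨c, hc⟩ := (orderOf_dvd_natCard (f x)).trans h
  rw [hc, pow_mul, pow_orderOf_eq_one, one_pow]

theorem pResidual_le_ker {p : ℕ} (f : G →* H) (h : IsPGroup p H) :
    Cfsg.pResidual p G ≤ f.ker :=
  residual_le_ker f p fun x => h (f x)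

/-- `O^p(G)` is the smallest normal subgroup with quotient a `p`-group. -/
theorem pResidual_le_of_isPGroup_quotient {p : ℕ} (N : Subgroup G) [N.Normal]
    (h : IsPGroup p (G ⧸ N)) : Cfsg.pResidual p G ≤ N := by
  simpa using pResidual_le_ker (QuotientGroup.mk' N) h

theorem index_pResidual_eq_pow [Finite G] (p : ℕ) [Fact p.Prime] :
    ∃ k, (Cfsg.pResidual p G).index = p ^ k := by
  haveI := pResidual_normal (G := G) p
  exact (isPGroup_quotient_pResidual (G := G) p).exists_card_eq

theorem residual_residual (n : ℕ) : residual n (residual n G) = ⊤ := by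
  have key : (residual n (residual n G)).map (residual n G).subtype = residual n G := by
    refine le_antisymm (Subgroup.map_subtype_le _) ?_
    conv_lhs => rw [residual]
    rw [Subgroup.closure_le]
    intro g hg
    exact ⟨⟨g, mem_residual_of_coprime hg⟩, mem_residual_of_coprime
      (show Nat.Coprime (orderOf _) n by rw [← Subgroup.orderOf_coe]; exact hg), rfl⟩
  apply Subgroup.map_injective (residual n G).subtype_injective
  rw [key, ← MonoidHom.range_eq_map, Subgroup.range_subtype]

theorem pResidual_pResidual (p : ℕ) : Cfsg.pResidual p (Cfsg.pResidual p G) = ⊤ :=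
  residual_residual p

theorem map_residual_of_surjective [Finite G] (f : G →* H) (hf : Function.Surjective f) (n : ℕ) :
    (residual n G).map f = residual n H := by
  refine le_antisymm (map_residual_le f n) ?_
  rw [residual, Subgroup.closure_le]
  intro y hy
  obtain ⟨x, rfl⟩ := hf y
  obtain ⟨a, k, hak, ha⟩ := exists_dvd_pow_mem_residual n x
  have hco : Nat.Coprime a (orderOf (f x)) :=
    ((Nat.Coprime.pow_right k hy).symm.coprime_dvd_left hak)
  have h1 : f x ^ a ∈ (residual n G).map f := ⟨x ^ a, ha, map_pow f x a⟩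
  have h2 : f x ∈ Subgroup.zpowers (f x ^ a) :=
    mem_zpowers_pow_iff.mpr hco
  exact Subgroup.zpowers_le.mpr h1 h2

theorem map_pResidual_of_surjective [Finite G] (f : G →* H) (hf : Function.Surjective f) (p : ℕ) :
    (Cfsg.pResidual p G).map f = Cfsg.pResidual p H :=
  map_residual_of_surjective f hf p

/-- A subgroup whose index is prime to `n` ... together with `O^n(G)` it is everything. -/
theorem sup_residual_eq_top [Finite G] (K : Subgroup G) (n : ℕ) (h : Nat.Coprime n K.index) :
    K ⊔ residual n G = ⊤ := by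
  haveI := residual_normal (G := G) n
  set M := (K ⊔ residual n G).map (QuotientGroup.mk' (residual n G))
  have hidx : M.index = (K ⊔ residual n G).index :=
    Subgroup.index_map_eq _ (QuotientGroup.mk'_surjective _) (by simp)
  rw [← Subgroup.index_eq_one, ← hidx]
  by_contra hne
  obtain ⟨q, hq, hqd⟩ := Nat.exists_prime_and_dvd hne
  haveI := Fact.mk hq
  obtain ⟨y, hy⟩ := exists_prime_orderOf_dvd_card' q
    (hqd.trans (Subgroup.index_dvd_card M))
  obtain ⟨x, rfl⟩ := QuotientGroup.mk_surjective y
  obtain ⟨k, hk⟩ := exists_pow_mem_residual n x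
  have h2 : q ∣ n ^ k := by
    rw [← hy]
    apply orderOf_dvd_of_pow_eq_one
    rw [← QuotientGroup.mk_pow]
    exact (QuotientGroup.eq_one_iff _).mpr hk
  have h3 : q ∣ K.index :=
    (hidx ▸ hqd).trans (Subgroup.index_dvd_of_le le_sup_left)
  exact hq.not_dvd_one (h ▸ Nat.dvd_gcd (hq.dvd_of_dvd_pow h2) h3)

theorem sylow_sup_pResidual_eq_top [Finite G] {p : ℕ} [Fact p.Prime] (P : Sylow p G) :
    (P : Subgroup G) ⊔ Cfsg.pResidual p G = ⊤ :=
  sup_residual_eq_top _ p
    ((Nat.Prime.coprime_iff_not_dvd Fact.out).mpr P.not_dvd_index)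

/-! ### Normal `p`-complements -/

section NormalPComplement

variable [Finite G] {p : ℕ} [Fact p.Prime]

theorem coprime_card_of_isComplement'_sylow (P : Sylow p G) {N : Subgroup G}
    (hc : N.IsComplement' (P : Subgroup G)) : Nat.Coprime (Nat.card N) p := by
  rw [← hc.index_eq_card]
  exact ((Nat.Prime.coprime_iff_not_dvd Fact.out).mpr P.not_dvd_index).symm

theorem pResidual_le_of_isComplement'_sylow (P : Sylow p G) {N : Subgroup G} [N.Normal]
    (hc : N.IsComplement' (P : Subgroup G)) : Cfsg.pResidual p G ≤ N := by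
  refine pResidual_le_of_isPGroup_quotient N ?_
  obtain ⟨k, hk⟩ := P.2.exists_card_eq
  exact IsPGroup.of_card (n := k) (by
    rw [← Subgroup.index_eq_card, hc.symm.index_eq_card, hk])

theorem eq_pResidual_of_isComplement'_sylow (P : Sylow p G) {N : Subgroup G} [N.Normal]
    (hc : N.IsComplement' (P : Subgroup G)) : N = Cfsg.pResidual p G := by
  refine le_antisymm (fun x hx => mem_residual_of_coprime ?_)
    (pResidual_le_of_isComplement'_sylow P hc)
  exact (coprime_card_of_isComplement'_sylow P hc).coprime_dvd_left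
    (Subgroup.orderOf_dvd_natCard N hx)

/-- If `O^p(G)` has order prime to `p` it is a complement of every Sylow `p`-subgroup. -/
theorem isComplement'_pResidual (P : Sylow p G) (h : ¬ p ∣ Nat.card (Cfsg.pResidual p G)) :
    (Cfsg.pResidual p G).IsComplement' (P : Subgroup G) := by
  haveI := pResidual_normal (G := G) p
  have hdisj : Disjoint (Cfsg.pResidual p G) (P : Subgroup G) := by
    rw [disjoint_iff, ← Subgroup.card_eq_one]
    obtain ⟨k, hk⟩ := (P.2.to_le (inf_le_right (a := Cfsg.pResidual p G))).exists_card_eq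
    rcases k with _ | k
    · simpa using hk
    · exact absurd (((dvd_pow_self p k.succ_ne_zero).trans hk.symm.dvd).trans
        (Subgroup.card_dvd_of_le inf_le_left)) h
  apply Subgroup.isComplement'_of_disjoint_and_mul_eq_univ hdisj
  rw [← Subgroup.normal_mul, sup_comm, sylow_sup_pResidual_eq_top P, Subgroup.coe_top]

theorem hasNormalPComplement_of_coprime (h : ¬ p ∣ Nat.card (Cfsg.pResidual p G)) :
    Cfsg.HasNormalPComplement p G :=
  ⟨default, _, pResidual_normal p, isComplement'_pResidual _ h⟩

theorem hasNormalPComplement_iff :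
    Cfsg.HasNormalPComplement p G ↔ ¬ p ∣ Nat.card (Cfsg.pResidual p G) := by
  refine ⟨?_, hasNormalPComplement_of_coprime⟩
  rintro ⟨P, N, hN, hc⟩
  haveI := hN
  rw [← eq_pResidual_of_isComplement'_sylow P hc]
  exact (Nat.Prime.coprime_iff_not_dvd Fact.out).mp (coprime_card_of_isComplement'_sylow P hc).symm

theorem hasNormalPComplement_iff_exists (P : Sylow p G) :
    Cfsg.HasNormalPComplement p G ↔
      ∃ N : Subgroup G, N.Normal ∧ N.IsComplement' (P : Subgroup G) :=
  ⟨fun h => ⟨_, pResidual_normal p, isComplement'_pResidual P (hasNormalPComplement_iff.mp h)⟩,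
    fun ⟨N, hN, hc⟩ => ⟨P, N, hN, hc⟩⟩

theorem hasNormalPComplement_iff_inf_eq_bot (P : Sylow p G) :
    Cfsg.HasNormalPComplement p G ↔ (P : Subgroup G) ⊓ Cfsg.pResidual p G = ⊥ := by
  rw [hasNormalPComplement_iff]
  constructor
  · intro h
    rw [inf_comm]
    exact disjoint_iff.mp (isComplement'_pResidual P h).disjoint
  · intro h hd
    haveI := pResidual_normal (G := G) p
    obtain ⟨y, hy⟩ := exists_prime_orderOf_dvd_card' (G := Cfsg.pResidual p G) p hd
    have hy' : orderOf (y : G) = p := by rwa [Subgroup.orderOf_coe]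
    have hz : IsPGroup p (Subgroup.zpowers (y : G)) :=
      IsPGroup.of_card (n := 1) (by rw [Nat.card_zpowers, hy', pow_one])
    obtain ⟨Q, hQ⟩ := hz.exists_le_sylow
    obtain ⟨g, rfl⟩ := MulAction.exists_smul_eq G P Q
    have hyQ : (y : G) ∈ (g • P : Sylow p G) := hQ (Subgroup.mem_zpowers _)
    obtain ⟨z, hzP, hzy⟩ := hyQ
    have hzy' : g * z * g⁻¹ = (y : G) := hzy
    have hzN : z ∈ Cfsg.pResidual p G := by
      have := (pResidual_normal (G := G) p).conj_mem _ y.2 g⁻¹
      rw [← hzy'] at this
      simpa [mul_assoc] using this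
    have : z = 1 := by
      have hmem : z ∈ (P : Subgroup G) ⊓ Cfsg.pResidual p G := ⟨hzP, hzN⟩
      rwa [h, Subgroup.mem_bot] at hmem
    rw [this] at hzy'
    simp only [mul_one, mul_inv_cancel] at hzy'
    rw [← hzy', orderOf_one] at hy'
    exact (Fact.out : p.Prime).ne_one hy'.symm

/-- In a group with a normal `p`-complement the complement is the set of `p`-regular elements. -/
theorem mem_pResidual_iff (h : Cfsg.HasNormalPComplement p G) (x : G) :
    x ∈ Cfsg.pResidual p G ↔ Nat.Coprime (orderOf x) p := by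
  refine ⟨fun hx => ?_, fun hx => mem_residual_of_coprime hx⟩
  exact ((Nat.Prime.coprime_iff_not_dvd Fact.out).mpr
    (hasNormalPComplement_iff.mp h)).symm.coprime_dvd_left (Subgroup.orderOf_dvd_natCard _ hx)

theorem HasNormalPComplement_subgroup (h : Cfsg.HasNormalPComplement p G) (K : Subgroup G) :
    Cfsg.HasNormalPComplement p K := by
  rw [hasNormalPComplement_iff] at h ⊢
  intro hd
  apply h
  refine hd.trans ?_
  rw [← Subgroup.card_map_of_injective K.subtype_injective]
  exact Subgroup.card_dvd_of_le (map_residual_subtype_le K p)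

theorem hasNormalPComplement_of_injective [Finite H] (f : H →* G) (hf : Function.Injective f)
    (h : Cfsg.HasNormalPComplement p G) : Cfsg.HasNormalPComplement p H := by
  rw [hasNormalPComplement_iff] at h ⊢
  intro hd
  apply h
  refine hd.trans ?_
  rw [← Subgroup.card_map_of_injective hf]
  exact Subgroup.card_dvd_of_le (map_residual_le f p)

theorem hasNormalPComplement_of_surjective [Finite H] (f : G →* H) (hf : Function.Surjective f)
    (h : Cfsg.HasNormalPComplement p G) : Cfsg.HasNormalPComplement p H := by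
  rw [hasNormalPComplement_iff] at h ⊢
  rw [← map_pResidual_of_surjective f hf]
  exact fun hd => h (hd.trans (Subgroup.card_map_dvd _ f))

theorem hasNormalPComplement_quotient (h : Cfsg.HasNormalPComplement p G) (N : Subgroup G)
    [N.Normal] : Cfsg.HasNormalPComplement p (G ⧸ N) :=
  hasNormalPComplement_of_surjective _ (QuotientGroup.mk'_surjective N) h

theorem hasNormalPComplement_congr [Finite H] (e : G ≃* H) :
    Cfsg.HasNormalPComplement p G ↔ Cfsg.HasNormalPComplement p H :=
  ⟨hasNormalPComplement_of_injective e.symm.toMonoidHom e.symm.injective,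
    hasNormalPComplement_of_injective e.toMonoidHom e.injective⟩

theorem hasNormalPComplement_of_le {K L : Subgroup G} (hKL : K ≤ L)
    (h : Cfsg.HasNormalPComplement p L) : Cfsg.HasNormalPComplement p K :=
  hasNormalPComplement_of_injective (Subgroup.inclusion hKL) (Subgroup.inclusion_injective hKL) h

theorem hasNormalPComplement_of_isPGroup (h : IsPGroup p G) :
    Cfsg.HasNormalPComplement p G := by
  rw [hasNormalPComplement_iff]
  have h0 : Cfsg.pResidual p G ≤ (⊥ : Subgroup G) := by
    have := pResidual_le_ker (MonoidHom.id G) h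
    simpa [MonoidHom.ker_id] using this
  rw [le_bot_iff.mp h0, Subgroup.card_bot]
  exact (Fact.out : p.Prime).not_dvd_one

theorem hasNormalPComplement_of_not_dvd (h : ¬ p ∣ Nat.card G) :
    Cfsg.HasNormalPComplement p G :=
  hasNormalPComplement_of_coprime fun hd => h (hd.trans (Subgroup.card_subgroup_dvd_card _))

end NormalPComplement

end Cfsg.Agent.Transfer
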