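import Cfsg.Agent.Lib.Transfer.FunctorBasic

/-!
# Conjugacy functors: strong fusion, from local to global

* `IsGoodPred`, `isGoodPred_fullyNormalized`, `isGoodPred_wellPlaced`;
* `familyControlsStrongFusionIn_top_of_local`;
* `controlsStrongFusionIn_iff_singleton`, `controlsStrongFusionIn_top_iff`;
* `exists_wellPlaced_of_not_weaklyClosed`.
-/

set_option linter.style.haveILetI false

namespace Cfsg.Agent.Transfer

open scoped commutatorElement

variable {G : Type*} [Group G]

variable [Finite G] {p : ℕ} [Fact p.Prime]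

/-! ### Local to global -/

section LocalGlobal

variable (S : Sylow p G) {𝓦 : Set (Subgroup G → Subgroup G)} (Good : Subgroup G → Prop)

/-- What is asked of a predicate `Good` on subgroups of `S`. -/
structure IsGoodPred : Prop where
  relIndex : ∀ E, Good E → ¬ p ∣
    ((S : Subgroup G) ⊓ Subgroup.normalizer (E : Set G)).relIndex (Subgroup.normalizer (E : Set G))
  exists_conj : ∀ U : Subgroup G, U ≤ (S : Subgroup G) →
    ∃ m : G, conjMap m ((S : Subgroup G) ⊓ Subgroup.normalizer (U : Set G)) ≤ (S : Subgroup G) ∧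
      conjMap m U ≤ (S : Subgroup G) ∧ Good (conjMap m U)
  top : Good (S : Subgroup G)

theorem relIndex_inf_normalizer_self :
    ¬ p ∣ ((S : Subgroup G) ⊓ Subgroup.normalizer ((S : Subgroup G) : Set G)).relIndex
      (Subgroup.normalizer ((S : Subgroup G) : Set G)) := by
  rw [inf_eq_left.mpr Subgroup.le_normalizer]
  exact fun h => S.not_dvd_index (h.trans (Subgroup.relIndex_dvd_index_of_le Subgroup.le_normalizer))

theorem isGoodPred_fullyNormalized : IsGoodPred S fun E => ¬ p ∣
    ((S : Subgroup G) ⊓ Subgroup.normalizer (E : Set G)).relIndex (Subgroup.normalizer (E : Set G)) :=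
  ⟨fun _ h => h, fun _ hU => exists_fullyNormalized_conj S hU, relIndex_inf_normalizer_self S⟩

theorem isGoodPred_wellPlaced {W : Subgroup G → Subgroup G} (hW : Cfsg.IsConjugacyFunctor p W) :
    IsGoodPred S fun E => Cfsg.IsWellPlaced p W (S : Subgroup G) E :=
  ⟨fun _ h => h.2 0, fun U hU => by
    obtain ⟨m, h1, h2⟩ := exists_wellPlaced_conj hW S U hU
    exact ⟨m, h1, h2.1, h2⟩,
   isWellPlaced_of_normal hW S le_rfl Subgroup.le_normalizer⟩

variable {S Good}

theorem lchain_of_good (hgood : IsGoodPred S Good) (h𝓦 : ∀ W ∈ 𝓦, Cfsg.IsConjugacyFunctor p W)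
    (hloc : ∀ E : Subgroup G, E ≤ (S : Subgroup G) → E ≠ ⊥ → Good E →
      Cfsg.FamilyControlsStrongFusionIn p 𝓦 (Subgroup.normalizer (E : Set G))) :
    ∀ k, ∀ U : Subgroup G, U ≤ (S : Subgroup G) → U ≠ ⊥ →
      Nat.card (S : Subgroup G) - Nat.card ↥((S : Subgroup G) ⊓ Subgroup.normalizer (U : Set G)) = k →
      ∀ y ∈ Subgroup.normalizer (U : Set G), ∀ A : Set G,
        (∀ a ∈ A, a ∈ (S : Subgroup G) ⊓ Subgroup.normalizer (U : Set G)) →
        (∀ a ∈ A, y * a * y⁻¹ ∈ (S : Subgroup G) ⊓ Subgroup.normalizer (U : Set G)) →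
        LChain (functorNormalizers 𝓦 ⊤ (S : Subgroup G)) (S : Subgroup G) A y := by
  intro k
  induction k using Nat.strong_induction_on with
  | _ k IH =>
  -- good subgroups
  have hgoodcase : ∀ E : Subgroup G, E ≤ (S : Subgroup G) → E ≠ ⊥ → Good E →
      Nat.card (S : Subgroup G) -
        Nat.card ↥((S : Subgroup G) ⊓ Subgroup.normalizer (E : Set G)) ≤ k →
      ∀ y ∈ Subgroup.normalizer (E : Set G), ∀ A : Set G,
        (∀ a ∈ A, a ∈ (S : Subgroup G) ⊓ Subgroup.normalizer (E : Set G)) →
        (∀ a ∈ A, y * a * y⁻¹ ∈ (S : Subgroup G) ⊓ Subgroup.normalizer (E : Set G)) →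
        LChain (functorNormalizers 𝓦 ⊤ (S : Subgroup G)) (S : Subgroup G) A y := by
    intro E hES hE hEg hEk y hy A hA hAy
    set T := (S : Subgroup G) ⊓ Subgroup.normalizer (E : Set G) with hT
    have hTp : IsPGroup p T := S.2.to_le inf_le_left
    refine LChain.lift inf_le_left ?_ (lchain_of_familyControlsStrongFusionIn h𝓦 inf_le_right hTp
      (hgood.relIndex E hEg) (hloc E hES hE hEg) hy hA hAy) hA
    rintro _ ⟨W, hW, rfl⟩ z hz B hB hBz
    rcases eq_or_lt_of_le (show T ≤ (S : Subgroup G) from inf_le_left) with hTS | hTS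
    · exact LChain.single ⟨W, hW, rfl⟩ ⟨Subgroup.mem_top z, hTS ▸ hz.2⟩ fun b hb => (hBz b hb).1
    · have hlt : Nat.card T <
          Nat.card ↥((S : Subgroup G) ⊓ Subgroup.normalizer ((W T : Subgroup G) : Set G)) :=
        lt_functor_normalizer (h𝓦 W hW) S hTS
      have hTne : T ≠ ⊥ := fun h0 =>
        hE (le_bot_iff.mp (h0 ▸ le_inf hES Subgroup.le_normalizer))
      have hTN : T ≤ (S : Subgroup G) ⊓ Subgroup.normalizer ((W T : Subgroup G) : Set G) :=
        le_inf hTS.le (self_le_normalizer_functor (h𝓦 W hW) hTp)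
      refine IH _ ?_ (W T) ((h𝓦 W hW T hTp).1.trans hTS.le) ((h𝓦 W hW T hTp).2.1 hTne) rfl z hz.2
        B (fun b hb => hTN (hB b hb)) (fun b hb => hTN (hBz b hb))
      have := Subgroup.card_le_of_le
        (inf_le_left : (S : Subgroup G) ⊓ Subgroup.normalizer ((W T : Subgroup G) : Set G) ≤ _)
      omega
  intro U hU hUne hk y hy A hA hAy
  obtain ⟨m, hm1, hm2, hmg⟩ := hgood.exists_conj U hU
  set T := (S : Subgroup G) ⊓ Subgroup.normalizer (U : Set G) with hT
  have hUT : U ≤ T := le_inf hU Subgroup.le_normalizer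
  have hTne : T ≠ ⊥ := fun h0 => hUne (le_bot_iff.mp (h0 ▸ hUT))
  have hSne : (S : Subgroup G) ≠ ⊥ := fun h0 => hUne (le_bot_iff.mp (h0 ▸ hU))
  -- the transporting element
  have hmchain : ∀ B : Set G, (∀ b ∈ B, b ∈ T) →
      LChain (functorNormalizers 𝓦 ⊤ (S : Subgroup G)) (S : Subgroup G) B m := by
    have hch := (alperin S (T : Set G) m⁻¹ (fun a ha => ha.1) (fun a ha => by
      rw [inv_inv]; exact hm1 ⟨a, ha, rfl⟩)).strengthen (Nat.card T)
        (Nat.card_coe_set_eq (T : Set G)).le
    have hconv : ∀ (C : Set G) (g : G),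
        FusionChain (fun E => IsTame S E ∧ Nat.card T ≤ Nat.card E) C g →
        ∀ B : Set G, B ⊆ C → (∀ b ∈ B, b ∈ (S : Subgroup G)) →
          LChain (functorNormalizers 𝓦 ⊤ (S : Subgroup G)) (S : Subgroup G) B g⁻¹ := by
      intro C g hc
      induction hc with
      | one C => exact fun B _ _ => LChain.one fun a _ => by simp
      | @step C D x g hD hC hx _ ih =>
        intro B hB hBS
        rw [mul_inv_rev]
        have hx' := inv_mem hx
        have hDS := hD.1.le
        have hmem : ∀ b ∈ B, x⁻¹ * b * x⁻¹⁻¹ ∈ D := fun b hb => by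
          rw [inv_inv]
          exact (Subgroup.mem_normalizer_iff''.mp hx b).mp (hC (hB hb))
        refine LChain.trans ?_ g⁻¹ (ih _ (fun z hz => ?_) (fun z hz => ?_))
        · rcases eq_or_lt_of_le hDS with rfl | hlt
          · refine hgoodcase _ le_rfl hSne hgood.top ?_ _ hx' B
              (fun b hb => le_inf le_rfl Subgroup.le_normalizer (hC (hB hb)))
              (fun b hb => le_inf le_rfl Subgroup.le_normalizer (hmem b hb))
            rw [inf_eq_left.mpr Subgroup.le_normalizer]
            omega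
          · have h1 := card_lt_inf_normalizer S hlt
            have h2 := hD.2
            have hDne : D ≠ ⊥ := by
              intro h0
              have : 1 < Nat.card T := (Subgroup.one_lt_card_iff_ne_bot T).mpr hTne
              rw [h0, Subgroup.card_bot] at h2
              omega
            refine IH _ ?_ D hDS hDne rfl _ hx' B
              (fun b hb => le_inf hDS Subgroup.le_normalizer (hC (hB hb)))
              (fun b hb => le_inf hDS Subgroup.le_normalizer (hmem b hb))
            have := Subgroup.card_le_of_le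
              (inf_le_left : (S : Subgroup G) ⊓ Subgroup.normalizer (D : Set G) ≤ _)
            omega
        · obtain ⟨b, hb, rfl⟩ := hz
          exact ⟨b, hB hb, by simp⟩
        · obtain ⟨b, hb, rfl⟩ := hz
          exact hDS (hmem b hb)
    intro B hB
    simpa using hconv _ _ hch B hB fun b hb => (hB b hb).1
  have hyE : m * y * m⁻¹ ∈ Subgroup.normalizer ((conjMap m U : Subgroup G) : Set G) := by
    rw [normalizer_conjMap]
    exact conj_mem_conjMap hy
  have hTE : ∀ a ∈ T, m * a * m⁻¹ ∈
      (S : Subgroup G) ⊓ Subgroup.normalizer ((conjMap m U : Subgroup G) : Set G) := fun a ha =>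
    ⟨hm1 ⟨a, ha, rfl⟩, by
      show m * a * m⁻¹ ∈ Subgroup.normalizer ((conjMap m U : Subgroup G) : Set G)
      rw [normalizer_conjMap]
      exact conj_mem_conjMap ha.2⟩
  have hmne : conjMap m U ≠ ⊥ := by
    rw [Ne, ← Subgroup.card_eq_one, card_conjMap, Subgroup.card_eq_one]
    exact hUne
  have hcardE : Nat.card T ≤
      Nat.card ↥((S : Subgroup G) ⊓ Subgroup.normalizer ((conjMap m U : Subgroup G) : Set G)) := by
    rw [← card_conjMap m T]
    refine Subgroup.card_le_of_le ?_
    rintro _ ⟨a, ha, rfl⟩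
    exact hTE a ha
  have h1 := hmchain A hA
  have h2 := hgoodcase (conjMap m U) hm2 hmne hmg (by omega) _ hyE ((fun a => m * a * m⁻¹) '' A)
    (by rintro _ ⟨a, ha, rfl⟩; exact hTE a (hA a ha))
    (by
      rintro _ ⟨a, ha, rfl⟩
      convert hTE _ (hAy a ha) using 1
      group)
  have h3 := (hmchain ((fun a => y * a * y⁻¹) '' A)
    (by rintro _ ⟨a, ha, rfl⟩; exact hAy a ha)).inv
    (by rintro _ ⟨a, ha, rfl⟩; exact (hAy a ha).1)
  refine ((h1.trans _ h2).trans _ ?_).congr' (g := m⁻¹ * (m * y * m⁻¹ * m))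
    (fun a _ => by group)
  convert h3 using 1
  rw [Set.image_image]
  exact Set.image_congr fun a _ => by group

/-- **Local to global control of strong fusion**. -/
theorem familyControlsStrongFusionIn_top_of_local (hgood : IsGoodPred S Good)
    (h𝓦 : ∀ W ∈ 𝓦, Cfsg.IsConjugacyFunctor p W)
    (hloc : ∀ E : Subgroup G, E ≤ (S : Subgroup G) → E ≠ ⊥ → Good E →
      Cfsg.FamilyControlsStrongFusionIn p 𝓦 (Subgroup.normalizer (E : Set G))) :
    Cfsg.FamilyControlsStrongFusionIn p 𝓦 ⊤ := by
  refine familyControlsStrongFusionIn_of_lchain le_top S.2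
    (by rw [Subgroup.relIndex_top_right]; exact S.not_dvd_index) fun A g _ hA hAg => ?_
  have hch := alperin S A g⁻¹ hA (fun a ha => by rw [inv_inv]; exact hAg a ha)
  have hconv : ∀ (C : Set G) (x : G), FusionChain (IsTame S) C x →
      (∀ a ∈ C, a ∈ (S : Subgroup G)) →
      LChain (functorNormalizers 𝓦 ⊤ (S : Subgroup G)) (S : Subgroup G) C x⁻¹ := by
    intro C x hc
    induction hc with
    | one C => exact fun _ => LChain.one fun a _ => by simp
    | @step C D x g hD hC hx _ ih =>
      intro hCS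
      rw [mul_inv_rev]
      have hmem : ∀ b ∈ C, x⁻¹ * b * x⁻¹⁻¹ ∈ D := fun b hb => by
        rw [inv_inv]
        exact (Subgroup.mem_normalizer_iff''.mp hx b).mp (hC hb)
      refine LChain.trans ?_ g⁻¹ ?_
      · by_cases hDb : D = ⊥
        · subst hDb
          exact LChain.one fun a ha => by simp [Subgroup.mem_bot.mp (hC ha)]
        · exact lchain_of_good hgood h𝓦 hloc _ D hD.le hDb rfl _ (inv_mem hx) C
            (fun b hb => le_inf hD.le Subgroup.le_normalizer (hC hb))
            (fun b hb => le_inf hD.le Subgroup.le_normalizer (hmem b hb))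
      · have e : (fun a => x⁻¹ * a * x⁻¹⁻¹) '' C = (fun a => x⁻¹ * a * x) '' C := by simp
        rw [e]
        refine ih ?_
        rintro _ ⟨b, hb, rfl⟩
        simpa using hD.le (hmem b hb)
  simpa using hconv A g⁻¹ hch hA

end LocalGlobal

/-! ### A single functor -/

theorem lchain_singleton_exists {W : Subgroup G → Subgroup G} {H T : Subgroup G} {A : Set G}
    {g : G} (h : LChain (functorNormalizers {W} H T) T A g) :
    ∃ x ∈ H ⊓ Subgroup.normalizer ((W T : Subgroup G) : Set G),
      ∀ a ∈ A, x * a * x⁻¹ = g * a * g⁻¹ := by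
  induction h with
  | @one A g h1 => exact ⟨1, one_mem _, fun a ha => by simpa using (h1 a ha).symm⟩
  | @step A g y h L hL hy _ _ hg ih =>
    obtain ⟨W', hW', rfl⟩ := hL
    obtain rfl : W' = W := hW'
    obtain ⟨x, hx, he⟩ := ih
    refine ⟨x * y, mul_mem hx hy, fun a ha => ?_⟩
    rw [hg a ha, ← he _ ⟨a, ha, rfl⟩]
    group

theorem controlsStrongFusionIn_iff_singleton {W : Subgroup G → Subgroup G} {H : Subgroup G} :
    Cfsg.ControlsStrongFusionIn p W H ↔ Cfsg.FamilyControlsStrongFusionIn p {W} H := by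
  constructor
  · rintro ⟨T, h1, h2, h3, hc⟩
    refine familyControlsStrongFusionIn_of_lchain h1 h2 h3 fun A g hg hA hAg => ?_
    obtain ⟨x, hx, he⟩ := hc A g hg hA (by rintro _ ⟨a, ha, rfl⟩; exact hAg a ha)
    refine (LChain.single (𝓛 := functorNormalizers {W} H T) (L := H ⊓ Subgroup.normalizer ((W T : Subgroup G) : Set G))
      ⟨W, rfl, rfl⟩ hx fun a ha => ?_).congr' fun a ha => (he a ha).symm
    rw [he a ha]
    exact hAg a ha
  · rintro ⟨T, h1, h2, h3, hc⟩
    refine ⟨T, h1, h2, h3, fun A g hg hA hAg => ?_⟩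
    obtain ⟨n, c, h0, hs, hT, hl⟩ := hc A g hg hA hAg
    obtain ⟨x, hx, he⟩ := lchain_singleton_exists (LChain.of_fin n c h0
      (fun i => by obtain ⟨W', hW', hi⟩ := hs i; exact ⟨_, ⟨W', hW', rfl⟩, hi⟩)
      fun i a ha => hT i ⟨a, ha, rfl⟩)
    exact ⟨x, hx, fun a ha => (he a ha).trans (hl a ha)⟩

/-- Strong fusion control in `G` in factorization form. -/
theorem controlsStrongFusionIn_top_iff (S : Sylow p G) {W : Subgroup G → Subgroup G}
    (hW : Cfsg.IsConjugacyFunctor p W) :
    Cfsg.ControlsStrongFusionIn p W ⊤ ↔ ∀ (T : Subgroup G) (g : G), T ≤ (S : Subgroup G) →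
      conjMap g T ≤ (S : Subgroup G) →
      ∃ n ∈ Subgroup.normalizer ((W (S : Subgroup G) : Subgroup G) : Set G),
        ∃ c ∈ Subgroup.centralizer (T : Set G), g = n * c := by
  have hSi : ¬ p ∣ (S : Subgroup G).relIndex ⊤ := by
    rw [Subgroup.relIndex_top_right]; exact S.not_dvd_index
  constructor
  · intro h T g hT hg
    obtain ⟨x, hx, he⟩ := lchain_singleton_exists (lchain_of_familyControlsStrongFusionIn
      (fun W' hW' => by obtain rfl : W' = W := hW'; exact hW) le_top S.2 hSi
      (controlsStrongFusionIn_iff_singleton.mp h) (A := (T : Set G)) (g := g) (Subgroup.mem_top g)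
      (fun a ha => hT ha) (fun a ha => hg ⟨a, ha, rfl⟩))
    refine ⟨x, hx.2, x⁻¹ * g, Subgroup.mem_centralizer_iff.mpr fun t ht => ?_, by group⟩
    have h1 := he t ht
    calc t * (x⁻¹ * g) = x⁻¹ * (x * t * x⁻¹) * g := by group
      _ = x⁻¹ * g * t := by rw [h1]; group
  · intro h
    refine ⟨(S : Subgroup G), le_top, S.2, hSi, fun A g _ hA hAg => ?_⟩
    obtain ⟨n, hn, c, hc, rfl⟩ := h (Subgroup.closure A) g ((Subgroup.closure_le _).mpr hA) (by
      rw [conjMap, MonoidHom.map_closure, Subgroup.closure_le]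
      exact hAg)
    refine ⟨n, ⟨Subgroup.mem_top n, hn⟩, fun a ha => ?_⟩
    have h1 := Subgroup.mem_centralizer_iff.mp hc a (Subgroup.subset_closure ha)
    calc n * a * n⁻¹ = n * (a * c) * c⁻¹ * n⁻¹ := by group
      _ = n * (c * a) * c⁻¹ * n⁻¹ := by rw [h1]
      _ = n * c * a * (n * c)⁻¹ := by group

/-- A central subgroup normalized by `N(W S)` that is not weakly closed is moved inside the
normalizer of a well placed subgroup. -/
theorem exists_wellPlaced_of_not_weaklyClosed (S : Sylow p G) {W : Subgroup G → Subgroup G}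
    (hW : Cfsg.IsConjugacyFunctor p W)
    (hWZ : ∀ P : Subgroup G, IsPGroup p ↥P → P ⊓ Subgroup.centralizer (P : Set G) ≤ W P)
    {A : Subgroup G}
    (hAZ : A ≤ (S : Subgroup G) ⊓ Subgroup.centralizer ((S : Subgroup G) : Set G))
    (hAN : Subgroup.normalizer ((W (S : Subgroup G) : Subgroup G) : Set G) ≤
      Subgroup.normalizer (A : Set G))
    (hnwc : ¬ Cfsg.IsWeaklyClosed A (S : Subgroup G)) :
    ∃ T : Subgroup G, Cfsg.IsWellPlaced p W (S : Subgroup G) T ∧ A ≤ T ∧
      Subgroup.normalizer
          ((W ((S : Subgroup G) ⊓ Subgroup.normalizer (T : Set G)) : Subgroup G) : Set G) ≤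
        Subgroup.normalizer (A : Set G) ∧
      A ≤ Subgroup.centralizer (((S : Subgroup G) ⊓ Subgroup.normalizer (T : Set G) : Subgroup G) : Set G) ∧
      ∃ g ∈ Subgroup.normalizer (T : Set G),
        conjMap g A ≤ (S : Subgroup G) ⊓ Subgroup.normalizer (T : Set G) ∧ conjMap g A ≠ A := by
  have hAS : A ≤ (S : Subgroup G) := hAZ.trans inf_le_left
  -- the bad subgroups
  let bad : Set (Subgroup G) := {U | U ≤ (S : Subgroup G) ∧ A ≤ U ∧
    ¬ Subgroup.normalizer (U : Set G) ≤ Subgroup.normalizer (A : Set G)}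
  have hbad : bad.Nonempty := by
    by_contra hb
    rw [Set.not_nonempty_iff_eq_empty] at hb
    apply hnwc
    refine ⟨hAS, fun g hg => ?_⟩
    have hch := alperin S (A : Set G) g⁻¹ hAS (fun a ha => by
      rw [inv_inv]; exact hg ⟨a, ha, rfl⟩)
    have : ∀ (C : Set G) (x : G), FusionChain (IsTame S) C x → C = (A : Set G) →
        x ∈ Subgroup.normalizer (A : Set G) := by
      intro C x hc
      induction hc with
      | one C => exact fun _ => one_mem _
      | @step C D x h hD hC hx _ ih =>
        intro hCA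
        subst hCA
        have hxA : x ∈ Subgroup.normalizer (A : Set G) := by
          by_contra hxA
          exact (Set.eq_empty_iff_forall_notMem.mp hb D) ⟨hD.le, hC, fun hle => hxA (hle hx)⟩
        refine mul_mem hxA (ih ?_)
        ext a
        constructor
        · rintro ⟨b, hbA, rfl⟩
          exact (Subgroup.mem_normalizer_iff''.mp hxA b).mp hbA
        · intro ha
          exact ⟨x * a * x⁻¹, (Subgroup.mem_normalizer_iff.mp hxA a).mp ha, by group⟩
    have hgA : g ∈ Subgroup.normalizer (A : Set G) := by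
      simpa using this _ _ hch rfl
    exact mem_normalizer_iff_conjMap.mp hgA
  obtain ⟨U, ⟨hUS, hAU, hUbad⟩, hUmax⟩ := Set.exists_max_image bad
    (fun U => Nat.card ↥((S : Subgroup G) ⊓ Subgroup.normalizer (U : Set G)))
    (Set.toFinite bad) hbad
  obtain ⟨y, hy, hyA⟩ := SetLike.not_le_iff_exists.mp hUbad
  obtain ⟨m, hm1, hm2⟩ := exists_wellPlaced_conj hW S U hUS
  set T := (S : Subgroup G) ⊓ Subgroup.normalizer (U : Set G) with hT
  have hAT : A ≤ T := le_inf hAS (hAU.trans Subgroup.le_normalizer)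
  have hNS : Subgroup.normalizer ((S : Subgroup G) : Set G) ≤ Subgroup.normalizer (A : Set G) :=
    (mem_normalizer_functor hW S.2).trans hAN
  have hmA : m ∈ Subgroup.normalizer (A : Set G) := by
    have hch := (alperin S (T : Set G) m⁻¹ (fun a ha => ha.1) (fun a ha => by
      rw [inv_inv]; exact hm1 ⟨a, ha, rfl⟩)).strengthen (Nat.card T)
        (Nat.card_coe_set_eq (T : Set G)).le
    have : ∀ (C : Set G) (x : G),
        FusionChain (fun E => IsTame S E ∧ Nat.card T ≤ Nat.card E) C x → (A : Set G) ⊆ C →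
        x ∈ Subgroup.normalizer (A : Set G) := by
      intro C x hc
      induction hc with
      | one C => exact fun _ => one_mem _
      | @step C D x h hD hC hx _ ih =>
        intro hAC
        have hxA : x ∈ Subgroup.normalizer (A : Set G) := by
          rcases eq_or_lt_of_le hD.1.le with rfl | hlt
          · exact hNS hx
          · by_contra hxA
            have h1 := hUmax D ⟨hD.1.le, hAC.trans hC, fun hle => hxA (hle hx)⟩
            have h2 := card_lt_inf_normalizer S hlt
            have h3 := hD.2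
            omega
        refine mul_mem hxA (ih ?_)
        intro a ha
        exact ⟨x * a * x⁻¹, hAC ((Subgroup.mem_normalizer_iff.mp hxA a).mp ha), by group⟩
    simpa using this _ _ hch hAT
  have hAE : A ≤ conjMap m U := by
    rw [← mem_normalizer_iff_conjMap.mp hmA]
    exact conjMap_le_conjMap hAU
  set E := conjMap m U with hE
  set T' := (S : Subgroup G) ⊓ Subgroup.normalizer (E : Set G) with hT'
  have hgE : m * y * m⁻¹ ∈ Subgroup.normalizer (E : Set G) := by
    rw [hE, normalizer_conjMap]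
    exact conj_mem_conjMap hy
  have hcent : A ≤ Subgroup.centralizer (T' : Set G) :=
    hAZ.trans (inf_le_right.trans (Subgroup.centralizer_le fun _ h => h.1))
  have hAT' : A ≤ T' := le_inf hAS (hAE.trans Subgroup.le_normalizer)
  refine ⟨E, hm2, hAE, ?_, hcent, m * y * m⁻¹, hgE, ?_, ?_⟩
  · rcases eq_or_lt_of_le (show T' ≤ (S : Subgroup G) from inf_le_left) with hTS | hTS
    · show Subgroup.normalizer ((W T' : Subgroup G) : Set G) ≤ _
      rw [hTS]
      exact hAN
    · by_contra hle
      have hT'p : IsPGroup p T' := S.2.to_le hTS.le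
      have h1 := hUmax (W T') ⟨(hW T' hT'p).1.trans hTS.le,
        (le_inf hAT' hcent).trans (hWZ T' hT'p), hle⟩
      have h2 := lt_functor_normalizer hW S hTS
      have h3 : Nat.card T ≤ Nat.card T' := by
        rw [← card_conjMap m T]
        refine Subgroup.card_le_of_le (le_inf hm1 ?_)
        rw [hE, normalizer_conjMap]
        exact conjMap_le_conjMap inf_le_right
      omega
  · refine (conjMap_le_conjMap hAE).trans ?_
    rw [mem_normalizer_iff_conjMap.mp hgE]
    exact le_inf hm2.1 Subgroup.le_normalizer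
  · intro he
    apply hyA
    have h1 : m * y * m⁻¹ ∈ Subgroup.normalizer (A : Set G) := mem_normalizer_iff_conjMap.mpr he
    have h2 := mul_mem (mul_mem (inv_mem hmA) h1) hmA
    simpa [mul_assoc] using h2

end Cfsg.Agent.Transfer
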