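import Cfsg.Agent.Lib.Transfer.Residual
import Mathlib.GroupTheory.Focal
import Mathlib.GroupTheory.Nilpotent

/-!
# Control of fusion and its consequences for transfer

* `exists_normalizer_conj_eq_of_weaklyClosed`: the normalizer of a weakly closed subgroup `W`
  controls strong fusion in `C_P(W)`; Burnside's fusion lemma is the case `W = P`.
* `commutator_inf_eq_focalSubgroup_of_coprime`: the focal subgroup theorem for `H` with
  `|G : H|` prime to `|H : H'|`.
* `commutator_inf_eq_of_controlsElementFusion`, `inf_residual_eq_of_controlsElementFusion`: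
  control of fusion implies control of transfer, for `G'` and for `O^p(G)`.
* `exists_normal_isComplement'_of_own_fusion`: a nilpotent Hall subgroup controlling its own
  fusion has a normal complement.
-/

set_option linter.style.haveILetI false

namespace Cfsg.Agent.Transfer

open scoped Pointwise commutatorElement

variable {G : Type*} [Group G]

/-- `H` controls the fusion of elements in `P`. -/
def ControlsElementFusion (H P : Subgroup G) : Prop :=
  ∀ x ∈ P, ∀ g : G, g * x * g⁻¹ ∈ P → ∃ h ∈ H, h * x * h⁻¹ = g * x * g⁻¹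

theorem ControlsElementFusion.mono {H K P : Subgroup G} (h : ControlsElementFusion H P)
    (hHK : H ≤ K) : ControlsElementFusion K P := fun x hx g hg => by
  obtain ⟨a, ha, he⟩ := h x hx g hg
  exact ⟨a, hHK ha, he⟩

theorem mem_normalizer_of_conj_mem [Finite G] {H : Subgroup G} {g : G}
    (h : ∀ w ∈ H, g * w * g⁻¹ ∈ H) : g ∈ Subgroup.normalizer (H : Set G) := by
  rw [Subgroup.mem_normalizer_iff]
  intro x
  refine ⟨h x, fun hx => ?_⟩
  let f : H → H := fun w => ⟨g * w * g⁻¹, h w w.2⟩
  have hf : Function.Injective f := fun a b hab => by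
    simpa [f] using hab
  obtain ⟨w, hw⟩ := (Finite.surjective_of_injective hf) ⟨_, hx⟩
  have : (w : G) = x := by simpa [f] using hw
  exact this ▸ w.2

section WeaklyClosed

variable [Finite G] {p : ℕ} [Fact p.Prime]

/-- In mem-form: a conjugating element carrying a weakly closed `W` into `P` normalizes it. -/
theorem mem_normalizer_of_weaklyClosed {W P : Subgroup G} (hW : Cfsg.IsWeaklyClosed W P) {g : G}
    (h : ∀ w ∈ W, g * w * g⁻¹ ∈ P) : g ∈ Subgroup.normalizer (W : Set G) := by
  have h1 : W.map (MulAut.conj g).toMonoidHom ≤ P := by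
    rintro _ ⟨w, hw, rfl⟩
    exact h w hw
  have h2 := hW.2 g h1
  refine mem_normalizer_of_conj_mem fun w hw => ?_
  rw [← h2]
  exact ⟨w, hw, rfl⟩

theorem isWeaklyClosed_self (P : Subgroup G) : Cfsg.IsWeaklyClosed P P := by
  refine ⟨le_rfl, fun g hg => Subgroup.eq_of_le_of_card_ge hg ?_⟩
  rw [Subgroup.card_map_of_injective (MulAut.conj g).injective]

/-- If `W` is weakly closed in a Sylow subgroup `P`, `N_G(W)` controls strong fusion in
`P ∩ C_G(W)`. -/
theorem exists_normalizer_conj_eq_of_weaklyClosed (P : Sylow p G) {W : Subgroup G}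
    (hW : Cfsg.IsWeaklyClosed W (P : Subgroup G)) (A : Set G) (g : G)
    (hA : A ⊆ Subgroup.centralizer (W : Set G))
    (hAg : ∀ a ∈ A, g * a * g⁻¹ ∈ Subgroup.centralizer (W : Set G)) :
    ∃ n ∈ Subgroup.normalizer (W : Set G), ∀ a ∈ A, n * a * n⁻¹ = g * a * g⁻¹ := by
  set B : Set G := (fun a => g * a * g⁻¹) '' A
  set C := Subgroup.centralizer B
  have hWC : W ≤ C := by
    intro w hw
    rw [Subgroup.mem_centralizer_iff]
    rintro _ ⟨a, ha, rfl⟩
    exact ((Subgroup.mem_centralizer_iff.mp (hAg a ha)) w hw).symm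
  have hgWC : W.map (MulAut.conj g).toMonoidHom ≤ C := by
    rintro _ ⟨w, hw, rfl⟩
    rw [Subgroup.mem_centralizer_iff]
    rintro _ ⟨a, ha, rfl⟩
    have h1 : w * a = a * w := (Subgroup.mem_centralizer_iff.mp (hA ha)) w hw
    simp only [MulEquiv.coe_toMonoidHom, MulAut.conj_apply]
    calc g * a * g⁻¹ * (g * w * g⁻¹) = g * (a * w) * g⁻¹ := by group
      _ = g * (w * a) * g⁻¹ := by rw [h1]
      _ = g * w * g⁻¹ * (g * a * g⁻¹) := by group
  have hWp : IsPGroup p W := P.2.to_le hW.1
  have h1 : IsPGroup p (W.subgroupOf C) := hWp.comap_subtype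
  have h2 : IsPGroup p ((W.map (MulAut.conj g).toMonoidHom).subgroupOf C) :=
    (hWp.map _).comap_subtype
  obtain ⟨S₁, hS₁⟩ := h1.exists_le_sylow
  obtain ⟨S₂, hS₂⟩ := h2.exists_le_sylow
  obtain ⟨c, rfl⟩ := MulAction.exists_smul_eq C S₂ S₁
  obtain ⟨R, hR⟩ := (IsPGroup.map (c • S₂).2 C.subtype).exists_le_sylow
  obtain ⟨r, rfl⟩ := MulAction.exists_smul_eq G P R
  have memP : ∀ x : G, x ∈ ((r • P : Sylow p G) : Subgroup G) → r⁻¹ * x * r ∈ (P : Subgroup G) := by
    rintro x ⟨y, hy, hyx⟩
    have hyx' : r * y * r⁻¹ = x := hyx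
    rw [← hyx']
    have hy' : y ∈ (P : Subgroup G) := hy
    simpa [mul_assoc] using hy'
  have hr : r⁻¹ ∈ Subgroup.normalizer (W : Set G) := by
    refine mem_normalizer_of_weaklyClosed hW fun w hw => ?_
    rw [inv_inv]
    exact memP w (hR ⟨⟨w, hWC hw⟩, hS₁ hw, rfl⟩)
  have hcg : r⁻¹ * ((c : G) * g) ∈ Subgroup.normalizer (W : Set G) := by
    refine mem_normalizer_of_weaklyClosed hW fun w hw => ?_
    have hwm : g * w * g⁻¹ ∈ W.map (MulAut.conj g).toMonoidHom := ⟨w, hw, rfl⟩
    have h3 : (⟨g * w * g⁻¹, hgWC hwm⟩ : C) ∈ S₂ := hS₂ hwm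
    have h4 : c * ⟨g * w * g⁻¹, hgWC hwm⟩ * c⁻¹ ∈ (c • S₂ : Sylow p C) := ⟨_, h3, rfl⟩
    have h5 := memP _ (hR ⟨_, h4, rfl⟩)
    simpa [mul_assoc] using h5
  refine ⟨(c : G) * g, ?_, fun a ha => ?_⟩
  · have h6 := mul_mem (inv_mem hr) hcg
    simpa using h6
  · have h7 := (Subgroup.mem_centralizer_iff.mp c.2) (g * a * g⁻¹) ⟨a, ha, rfl⟩
    calc (c : G) * g * a * ((c : G) * g)⁻¹ = ((c : G) * (g * a * g⁻¹)) * (c : G)⁻¹ := by group
      _ = g * a * g⁻¹ := by rw [← h7]; group

/-- Burnside's fusion lemma, strong form: for `A ⊆ C_G(P)`. -/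
theorem exists_sylow_normalizer_conj_eq (P : Sylow p G) (A : Set G) (g : G)
    (hA : A ⊆ Subgroup.centralizer (P : Set G))
    (hAg : ∀ a ∈ A, g * a * g⁻¹ ∈ Subgroup.centralizer (P : Set G)) :
    ∃ n ∈ Subgroup.normalizer (P : Set G), ∀ a ∈ A, n * a * n⁻¹ = g * a * g⁻¹ :=
  exists_normalizer_conj_eq_of_weaklyClosed P (isWeaklyClosed_self _) A g hA hAg

/-- The normalizer of a weakly closed central subgroup controls fusion in `P`. -/
theorem controlsElementFusion_normalizer_of_weaklyClosed (P : Sylow p G) {W : Subgroup G}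
    (hW : Cfsg.IsWeaklyClosed W (P : Subgroup G))
    (hc : W ≤ Subgroup.centralizer (P : Set G)) :
    ControlsElementFusion (Subgroup.normalizer (W : Set G)) (P : Subgroup G) := by
  intro x hx g hg
  have hc' : (P : Subgroup G) ≤ Subgroup.centralizer (W : Set G) :=
    Subgroup.le_centralizer_iff.mp hc
  obtain ⟨n, hn, he⟩ := exists_normalizer_conj_eq_of_weaklyClosed P hW {x} g
    (by simpa using hc' hx) (by simpa using hc' hg)
  exact ⟨n, hn, he x rfl⟩

theorem sylow_le_normalizer_of_le_centralizer (P : Sylow p G) {W : Subgroup G}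
    (hc : W ≤ Subgroup.centralizer (P : Set G)) :
    (P : Subgroup G) ≤ Subgroup.normalizer (W : Set G) :=
  (Subgroup.le_centralizer_iff.mp hc).trans (Subgroup.centralizer_le_normalizer _)

/-- For an abelian Sylow subgroup the normalizer controls fusion. -/
theorem controlsElementFusion_normalizer_of_isMulCommutative (P : Sylow p G)
    (hP : IsMulCommutative P) :
    ControlsElementFusion (Subgroup.normalizer (P : Set G)) (P : Subgroup G) := by
  haveI : IsMulCommutative (P : Subgroup G) := hP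
  exact controlsElementFusion_normalizer_of_weaklyClosed P (isWeaklyClosed_self _)
    (Subgroup.le_centralizer _)

end WeaklyClosed

section Focal

variable [Finite G]

theorem transferFocal_eq_one_iff_of_coprime (H : Subgroup G)
    (h : Nat.Coprime H.index (⁅H, H⁆.relIndex H)) (x : H) :
    H.transferFocal x = 1 ↔ (x : G) ∈ H.focalSubgroup := by
  have hco : Nat.Coprime (Nat.card (H ⧸ H.focalSubgroupOf)) H.index := by
    rw [← Subgroup.index_eq_card]
    exact (h.symm.coprime_dvd_left
      (Subgroup.relIndex_dvd_of_le_left H (Subgroup.commutator_le_focalSubgroup H)))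
  rw [Subgroup.transferFocal_eq_pow]
  have : ((x : H ⧸ H.focalSubgroupOf)) ^ H.index = 1 ↔ (x : H ⧸ H.focalSubgroupOf) = 1 := by
    refine ⟨fun h1 => ?_, fun h1 => by rw [h1, one_pow]⟩
    rw [← orderOf_eq_one_iff]
    exact Nat.eq_one_of_dvd_coprimes hco (orderOf_dvd_natCard _)
      (orderOf_dvd_of_pow_eq_one h1)
  rw [this, QuotientGroup.eq_one_iff, Subgroup.focalSubgroupOf_def, Subgroup.mem_subgroupOf]

theorem transferFocal_surjective_of_coprime (H : Subgroup G)
    (h : Nat.Coprime H.index (⁅H, H⁆.relIndex H)) :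
    Function.Surjective H.transferFocal := by
  have hco : Nat.Coprime (Nat.card (H ⧸ H.focalSubgroupOf)) H.index := by
    rw [← Subgroup.index_eq_card]
    exact (h.symm.coprime_dvd_left
      (Subgroup.relIndex_dvd_of_le_left H (Subgroup.commutator_le_focalSubgroup H)))
  intro y
  obtain ⟨x, hx⟩ := (powCoprime hco).surjective y
  obtain ⟨x, rfl⟩ := QuotientGroup.mk_surjective x
  exact ⟨x, by rw [Subgroup.transferFocal_eq_pow]; exact hx⟩

/-- The focal subgroup theorem for a subgroup whose index is prime to `|H : H'|`. -/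
theorem commutator_inf_eq_focalSubgroup_of_coprime (H : Subgroup G)
    (h : Nat.Coprime H.index (⁅H, H⁆.relIndex H)) :
    _root_.commutator G ⊓ H = H.focalSubgroup := by
  refine le_antisymm ?_ (le_inf H.focalSubgroup_le_commutator H.focalSubgroup_le)
  rintro x ⟨hx, hxH⟩
  refine (transferFocal_eq_one_iff_of_coprime H h ⟨x, hxH⟩).mp ?_
  open scoped IsMulCommutative in
  exact Abelianization.commutator_subset_ker H.transferFocal hx

theorem exists_normal_inf_eq_commutator_inf (H : Subgroup G)
    (h : Nat.Coprime H.index (⁅H, H⁆.relIndex H)) :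
    ∃ N : Subgroup G, N.Normal ∧ N ⊓ H = _root_.commutator G ⊓ H ∧ N ⊔ H = ⊤ := by
  refine ⟨H.transferFocal.ker, inferInstance, ?_, ?_⟩
  · rw [commutator_inf_eq_focalSubgroup_of_coprime H h]
    ext x
    constructor
    · rintro ⟨h1, h2⟩
      exact (transferFocal_eq_one_iff_of_coprime H h ⟨x, h2⟩).mp h1
    · intro hx
      exact ⟨(transferFocal_eq_one_iff_of_coprime H h ⟨x, H.focalSubgroup_le hx⟩).mpr hx,
        H.focalSubgroup_le hx⟩
  · rw [eq_top_iff]
    intro g _
    have hco : Nat.Coprime (Nat.card (H ⧸ H.focalSubgroupOf)) H.index := by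
      rw [← Subgroup.index_eq_card]
      exact (h.symm.coprime_dvd_left
        (Subgroup.relIndex_dvd_of_le_left H (Subgroup.commutator_le_focalSubgroup H)))
    obtain ⟨y, hy⟩ := (powCoprime hco).surjective (H.transferFocal g)
    obtain ⟨x, rfl⟩ := QuotientGroup.mk_surjective y
    have h1 : g * (x : G)⁻¹ ∈ H.transferFocal.ker := by
      rw [MonoidHom.mem_ker, map_mul, map_inv, Subgroup.transferFocal_eq_pow, ← hy]
      exact mul_inv_cancel _
    simpa using Subgroup.mul_mem_sup h1 x.2

theorem coprime_index_of_coprime_card {P : Subgroup G} (h : Nat.Coprime (Nat.card P) P.index) :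
    Nat.Coprime P.index (⁅P, P⁆.relIndex P) :=
  h.symm.coprime_dvd_right (Subgroup.relIndex_dvd_card _ _)

end Focal

section FocalControl

/-- If `H ≥ P` controls the fusion of elements in `P`, the focal subgroups in `G` and `H` agree. -/
theorem focalSubgroup_eq_of_controlsElementFusion {H P : Subgroup G} (hPH : P ≤ H)
    (hc : ControlsElementFusion H P) :
    P.focalSubgroup = (P.subgroupOf H).focalSubgroup.map H.subtype := by
  apply le_antisymm
  · rw [Subgroup.focalSubgroup_def, Subgroup.closure_le]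
    rintro _ ⟨hz, x, hx, u, rfl⟩
    have hy : u * x⁻¹ * u⁻¹ ∈ P := by
      have h1 := mul_mem (inv_mem hx) hz
      simpa [commutatorElement_def, mul_assoc] using h1
    obtain ⟨h, hh, he⟩ := hc _ (inv_mem hx) u hy
    have hcomm : ⁅x, u⁆ = ⁅x, h⁆ := by
      rw [commutatorElement_def, commutatorElement_def]
      calc x * u * x⁻¹ * u⁻¹ = x * (u * x⁻¹ * u⁻¹) := by group
        _ = x * (h * x⁻¹ * h⁻¹) := by rw [he]
        _ = x * h * x⁻¹ * h⁻¹ := by group
    refine ⟨⁅(⟨x, hPH hx⟩ : H), (⟨h, hh⟩ : H)⁆, ?_, hcomm.symm⟩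
    rw [Subgroup.focalSubgroup_def]
    refine Subgroup.subset_closure ⟨?_, ⟨x, hPH hx⟩, hx, ⟨h, hh⟩, rfl⟩
    show ⁅x, h⁆ ∈ P
    rw [← hcomm]
    exact hz
  · rw [Subgroup.map_le_iff_le_comap, Subgroup.focalSubgroup_def, Subgroup.closure_le]
    rintro _ ⟨hz, x, hx, u, rfl⟩
    rw [SetLike.mem_coe, Subgroup.mem_comap, Subgroup.focalSubgroup_def]
    exact Subgroup.subset_closure ⟨hz, x, hx, u, rfl⟩

variable [Finite G]

/-- Control of fusion implies control of transfer: `G' ∩ P = H' ∩ P`. -/
theorem commutator_inf_eq_of_controlsElementFusion {H P : Subgroup G}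
    (hco : Nat.Coprime (Nat.card P) P.index) (hPH : P ≤ H) (hc : ControlsElementFusion H P) :
    _root_.commutator G ⊓ P = ⁅H, H⁆ ⊓ P := by
  have hcoH : Nat.Coprime (Nat.card (P.subgroupOf H)) (P.subgroupOf H).index := by
    rw [Nat.card_congr (Subgroup.subgroupOfEquivOfLe hPH).toEquiv]
    exact hco.coprime_dvd_right (Subgroup.relIndex_dvd_index_of_le hPH)
  rw [commutator_inf_eq_focalSubgroup_of_coprime P (coprime_index_of_coprime_card hco),
    focalSubgroup_eq_of_controlsElementFusion hPH hc,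
    ← commutator_inf_eq_focalSubgroup_of_coprime _ (coprime_index_of_coprime_card hcoH),
    Subgroup.map_inf _ _ _ H.subtype_injective, Subgroup.map_subtype_commutator,
    Subgroup.map_subgroupOf_eq_of_le hPH]

theorem sylow_coprime {p : ℕ} [Fact p.Prime] (P : Sylow p G) :
    Nat.Coprime (Nat.card (P : Subgroup G)) (P : Subgroup G).index :=
  P.card_coprime_index

end FocalControl

section Residual

theorem le_lowerCentralSeries_of_le_commutator {Q : Subgroup G} (h : Q ≤ ⁅Q, (⊤ : Subgroup G)⁆) :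
    ∀ n, Q ≤ (⊤ : Subgroup G).lowerCentralSeries n
  | 0 => by simp
  | n + 1 => by
      refine h.trans ?_
      rw [Subgroup.lowerCentralSeries_succ]
      exact Subgroup.commutator_mono (le_lowerCentralSeries_of_le_commutator h n) le_rfl

theorem le_of_le_sup_commutator_top [Group.IsNilpotent G] {Q R : Subgroup G} [R.Normal]
    (h : Q ≤ R ⊔ ⁅Q, (⊤ : Subgroup G)⁆) : Q ≤ R := by
  have h1 : Q.map (QuotientGroup.mk' R) ≤
      ⁅Q.map (QuotientGroup.mk' R), (⊤ : Subgroup (G ⧸ R))⁆ := by
    refine (Subgroup.map_mono h).trans ?_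
    rw [Subgroup.map_sup, Subgroup.map_commutator, QuotientGroup.map_mk'_self, bot_sup_eq,
      Subgroup.map_top_of_surjective _ (QuotientGroup.mk'_surjective R)]
  obtain ⟨n, hn⟩ := Subgroup.nilpotent_iff_lowerCentralSeries.mp
    (inferInstance : Group.IsNilpotent (G ⧸ R))
  have h2 : Q.map (QuotientGroup.mk' R) = ⊥ :=
    le_bot_iff.mp ((le_lowerCentralSeries_of_le_commutator h1 n).trans hn.le)
  rw [Subgroup.map_eq_bot_iff, QuotientGroup.ker_mk'] at h2
  exact h2

variable [Finite G]

theorem coprime_card_index_subgroupOf {H P : Subgroup G} (hPH : P ≤ H)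
    (hco : Nat.Coprime (Nat.card P) P.index) :
    Nat.Coprime (Nat.card (P.subgroupOf H)) (P.subgroupOf H).index := by
  rw [Nat.card_congr (Subgroup.subgroupOfEquivOfLe hPH).toEquiv]
  exact hco.coprime_dvd_right (Subgroup.relIndex_dvd_index_of_le hPH)

theorem relIndex_residual_eq_index {P : Subgroup G} {n : ℕ} (hn : Nat.Coprime n P.index) :
    P.relIndex (residual n G) = P.index := by
  haveI := residual_normal (G := G) n
  set K := residual n G
  have hKP : P ⊔ K = ⊤ := sup_residual_eq_top P n hn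
  have h1 : K.relIndex P = K.index := by
    rw [← Subgroup.relIndex_sup_right P K, hKP, Subgroup.relIndex_top_right]
  have h2 : P.relIndex K * K.index = K.relIndex P * P.index := by
    rw [← Subgroup.inf_relIndex_right P K, Subgroup.relIndex_mul_index inf_le_right,
      ← Subgroup.inf_relIndex_left P K, Subgroup.relIndex_mul_index inf_le_left]
  rw [h1, mul_comm (P.relIndex K)] at h2
  exact mul_left_cancel₀ Subgroup.FiniteIndex.index_ne_zero h2

/-- **Control of fusion implies control of transfer**, for `O^π`: `P ∩ O^n(G) = P ∩ O^n(H)`,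
for a nilpotent subgroup `P` whose index is prime to `n` and whose order divides a power of `n`. -/
theorem inf_residual_eq_of_controlsElementFusion {H P : Subgroup G} {n k : ℕ}
    (hnil : Group.IsNilpotent P) (hn : Nat.Coprime n P.index) (hk : Nat.card P ∣ n ^ k)
    (hPH : P ≤ H) (hc : ControlsElementFusion H P) :
    P ⊓ residual n G = P ⊓ (residual n H).map H.subtype := by
  haveI hKn := residual_normal (G := G) n
  haveI hKHn := residual_normal (G := H) n
  refine le_antisymm ?_ (inf_le_inf_left P (map_residual_subtype_le H n))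
  set K := residual n G with hK
  set R := P ⊓ (residual n H).map H.subtype with hR
  set Q := P ⊓ K with hQ
  have hcoP : Nat.Coprime (Nat.card P) P.index := (hn.pow_left k).coprime_dvd_left hk
  have hQK : Q ≤ K := inf_le_right
  -- `Q` is generated by focal commutators inside `K`
  set Q' := P.subgroupOf K with hQ'
  have hQ'card : Nat.card Q' ∣ n ^ k := by
    refine Dvd.dvd.trans ?_ hk
    rw [hQ', ← Subgroup.card_map_of_injective K.subtype_injective, Subgroup.subgroupOf_map_subtype]
    exact Subgroup.card_dvd_of_le inf_le_left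
  have hQ'co : Nat.Coprime (Nat.card Q') Q'.index := by
    have : Q'.index = P.index := relIndex_residual_eq_index hn
    rw [this]
    exact (hn.pow_left k).coprime_dvd_left hQ'card
  have hfoc : Q' ≤ Q'.focalSubgroup := by
    intro x hx
    refine (transferFocal_eq_one_iff_of_coprime Q' (coprime_index_of_coprime_card hQ'co)
      ⟨x, hx⟩).mp ?_
    have hle := residual_le_ker_of_card Q'.transferFocal n
      ((Subgroup.card_quotient_dvd_card _).trans hQ'card)
    have hx' : (x : K) ∈ residual n K := (residual_residual (G := G) n).ge (Subgroup.mem_top _)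
    exact hle hx'
  -- hence `Q ≤ R ⊔ [Q, P]`
  have key : Q ≤ R ⊔ ⁅Q, P⁆ := by
    intro x hx
    have : Q' ≤ (R ⊔ ⁅Q, P⁆).comap K.subtype := by
      refine hfoc.trans ?_
      rw [Subgroup.focalSubgroup_def, Subgroup.closure_le]
      rintro _ ⟨hz, a, ha, u, rfl⟩
      rw [SetLike.mem_coe, Subgroup.mem_comap]
      have haP : (a : G) ∈ P := ha
      have hzP : (a : G) * u * (a : G)⁻¹ * (u : G)⁻¹ ∈ P := hz
      have hyP : (u : G) * (a : G)⁻¹ * (u : G)⁻¹ ∈ P := by
        have h1 := mul_mem (inv_mem haP) hzP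
        simpa [mul_assoc] using h1
      obtain ⟨h, hh, he⟩ := hc _ (inv_mem haP) (u : G) hyP
      have htop : P.subgroupOf H ⊔ residual n H = ⊤ :=
        sup_residual_eq_top _ n (hn.coprime_dvd_right (Subgroup.relIndex_dvd_index_of_le hPH))
      obtain ⟨z, hzm, o, ho, hzo⟩ : ∃ z ∈ P.subgroupOf H, ∃ o ∈ residual n H,
          z * o = (⟨h, hh⟩ : H) :=
        Subgroup.mem_sup_of_normal_right.mp (htop ▸ Subgroup.mem_top _)
      have hzP' : (z : G) ∈ P := hzm
      have hzo' : (z : G) * (o : G) = h := congrArg Subtype.val hzo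
      -- `w := o a⁻¹ o⁻¹ ∈ P` and `a * w ∈ O^n(H)`
      set w : G := (o : G) * (a : G)⁻¹ * (o : G)⁻¹ with hw
      have hy : (u : G) * (a : G)⁻¹ * (u : G)⁻¹ = (z : G) * w * (z : G)⁻¹ := by
        rw [← he, ← hzo', hw]; group
      have hwP : w ∈ P := by
        have h1 := mul_mem (mul_mem (inv_mem hzP') hyP) hzP'
        rw [hy] at h1
        simpa [mul_assoc] using h1
      let aH : H := ⟨a, hPH haP⟩
      have haw : aH * o * aH⁻¹ * o⁻¹ ∈ residual n H :=
        mul_mem (hKHn.conj_mem o ho aH) (inv_mem ho)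
      have hzaw : (z : G) * ((a : G) * w) * (z : G)⁻¹ ∈ R := by
        refine ⟨(mul_mem (mul_mem hzP' (mul_mem haP hwP)) (inv_mem hzP') :
            (z : G) * ((a : G) * w) * (z : G)⁻¹ ∈ P),
          ⟨z * (aH * o * aH⁻¹ * o⁻¹) * z⁻¹, hKHn.conj_mem _ haw z, ?_⟩⟩
        simp [aH, hw, mul_assoc]
      have hcomm : ⁅(a : G), (z : G)⁆ ∈ ⁅Q, P⁆ :=
        Subgroup.commutator_mem_commutator ⟨haP, a.2⟩ hzP'
      have h2 := mul_mem (Subgroup.mem_sup_right (S := R) hcomm)
        (Subgroup.mem_sup_left (T := ⁅Q, P⁆) hzaw)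
      have h3 : ⁅(a : G), (z : G)⁆ * ((z : G) * ((a : G) * w) * (z : G)⁻¹) =
          K.subtype ⁅a, u⁆ := by
        rw [map_commutatorElement, commutatorElement_def, commutatorElement_def]
        show _ = (a : G) * (u : G) * (a : G)⁻¹ * (u : G)⁻¹
        calc (a : G) * z * (a : G)⁻¹ * (z : G)⁻¹ * ((z : G) * ((a : G) * w) * (z : G)⁻¹)
            = (a : G) * ((z : G) * w * (z : G)⁻¹) := by group
          _ = (a : G) * ((u : G) * (a : G)⁻¹ * (u : G)⁻¹) := by rw [hy]
          _ = (a : G) * (u : G) * (a : G)⁻¹ * (u : G)⁻¹ := by group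
      rwa [h3] at h2
    exact this (show (⟨x, hQK hx⟩ : K) ∈ Q' from hx.1)
  -- nilpotency of `P`
  have hQP : ⁅Q, P⁆ ≤ P := Subgroup.commutator_le.mpr fun x hx y hy =>
    mul_mem (mul_mem (mul_mem hx.1 hy) (inv_mem hx.1)) (inv_mem hy)
  haveI : (R.subgroupOf P).Normal := by
    constructor
    intro x hx y
    obtain ⟨o, ho, hox⟩ := hx.2
    exact ⟨(y * x * y⁻¹).2, ⟨⟨y, hPH y.2⟩ * o * ⟨y, hPH y.2⟩⁻¹, hKHn.conj_mem o ho _,
      by simpa using hox⟩⟩
  have key' : Q.subgroupOf P ≤ R.subgroupOf P ⊔ ⁅Q.subgroupOf P, (⊤ : Subgroup P)⁆ := by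
    apply (Subgroup.map_le_map_iff_of_injective P.subtype_injective).mp
    rw [Subgroup.map_sup, Subgroup.map_commutator, ← MonoidHom.range_eq_map,
      Subgroup.range_subtype, Subgroup.map_subgroupOf_eq_of_le inf_le_left,
      Subgroup.map_subgroupOf_eq_of_le inf_le_left]
    exact key
  have hfin := le_of_le_sup_commutator_top key'
  intro x hx
  exact hfin (show (⟨x, hx.1⟩ : P) ∈ Q.subgroupOf P from hx)

/-- Tate-type statement for a Sylow subgroup. -/
theorem inf_pResidual_eq_of_controlsElementFusion {p : ℕ} [Fact p.Prime] (P : Sylow p G)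
    {H : Subgroup G} (hPH : (P : Subgroup G) ≤ H)
    (hc : ControlsElementFusion H (P : Subgroup G)) :
    (P : Subgroup G) ⊓ Cfsg.pResidual p G =
      (P : Subgroup G) ⊓ (Cfsg.pResidual p H).map H.subtype := by
  obtain ⟨k, hk⟩ := P.2.exists_card_eq
  exact inf_residual_eq_of_controlsElementFusion (k := k) P.2.isNilpotent
    ((Nat.Prime.coprime_iff_not_dvd Fact.out).mpr P.not_dvd_index) hk.dvd hPH hc

theorem hasNormalPComplement_of_controlsElementFusion {p : ℕ} [Fact p.Prime] (P : Sylow p G)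
    {H : Subgroup G} (hPH : (P : Subgroup G) ≤ H)
    (hc : ControlsElementFusion H (P : Subgroup G)) (h : Cfsg.HasNormalPComplement p H) :
    Cfsg.HasNormalPComplement p G := by
  have hH := (hasNormalPComplement_iff_inf_eq_bot (P.subtype hPH)).mp h
  rw [hasNormalPComplement_iff_inf_eq_bot P, inf_pResidual_eq_of_controlsElementFusion P hPH hc]
  have h1 := congrArg (Subgroup.map H.subtype) hH
  rw [Subgroup.map_bot, Subgroup.map_inf _ _ _ H.subtype_injective, Sylow.coe_subtype,
    Subgroup.map_subgroupOf_eq_of_le hPH] at h1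
  exact h1

/-- A Sylow subgroup that controls its own fusion has a normal complement. -/
theorem hasNormalPComplement_of_own_fusion {p : ℕ} [Fact p.Prime] (P : Sylow p G)
    (hc : ControlsElementFusion (P : Subgroup G) (P : Subgroup G)) :
    Cfsg.HasNormalPComplement p G :=
  hasNormalPComplement_of_controlsElementFusion P le_rfl hc
    (hasNormalPComplement_of_isPGroup P.2)

theorem residual_subgroup_eq_bot (P : Subgroup G) : residual (Nat.card P) P = ⊥ :=
  le_bot_iff.mp (by
    simpa using residual_le_ker_of_card (MonoidHom.id P) (Nat.card P) (k := 1) (by simp))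

/-- A nilpotent Hall subgroup that controls its own fusion has a normal complement. -/
theorem exists_normal_isComplement'_of_own_fusion (P : Subgroup G) (hnil : Group.IsNilpotent P)
    (hco : Nat.Coprime (Nat.card P) P.index) (hc : ControlsElementFusion P P) :
    ∃ N : Subgroup G, N.Normal ∧ N.IsComplement' P := by
  haveI := residual_normal (G := G) (Nat.card P)
  refine ⟨residual (Nat.card P) G, inferInstance,
    Subgroup.isComplement'_of_disjoint_and_mul_eq_univ ?_ ?_⟩
  · rw [disjoint_iff, inf_comm,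
      inf_residual_eq_of_controlsElementFusion (k := 1) hnil hco (by simp) le_rfl hc,
      residual_subgroup_eq_bot, Subgroup.map_bot, inf_bot_eq]
  · rw [← Subgroup.normal_mul, sup_comm, sup_residual_eq_top P _ hco, Subgroup.coe_top]

theorem controlsElementFusion_self_of_isComplement' {P N : Subgroup G} [N.Normal]
    (h : N.IsComplement' P) : ControlsElementFusion P P := by
  intro x hx g hg
  obtain ⟨⟨⟨n, hn⟩, ⟨y, hy⟩⟩, hny : n * y = g⟩ := h.2 g
  refine ⟨y, hy, ?_⟩
  have hy1 : y * x * y⁻¹ ∈ P := mul_mem (mul_mem hy hx) (inv_mem hy)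
  have hN : g * x * g⁻¹ * (y * x * y⁻¹)⁻¹ ∈ N := by
    have h1 := mul_mem hn ((inferInstance : N.Normal).conj_mem _ (inv_mem hn) (y * x * y⁻¹))
    rw [← hny]
    convert h1 using 1
    group
  have := (Subgroup.disjoint_def.mp h.disjoint) hN (mul_mem hg (inv_mem hy1))
  exact (mul_inv_eq_one.mp this).symm

end Residual

end Cfsg.Agent.Transfer
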