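import Mathlib
import Cfsg.Agent.Lib.PGroup.Basic

/-!
# Orbit sums and fixed points

A group `G` acts on an abelian group `E`; `x` is fixed modulo an invariant subgroup `X` of exponent `p`
and by a Sylow subgroup `S`. If every other point of the orbit of `x` is moved by an element of `S`
whose norm `∑ j < p, g ^ j` kills `X`, then `x` is fixed (`smul_eq_of_orbit_sums`).
-/

set_option linter.style.haveILetI false

namespace Cfsg.Agent.Transfer

open Polynomial in
theorem exists_geom_eq (p : ℕ) [Fact p.Prime] :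
    ∃ q : ℤ[X], (∑ j ∈ Finset.range p, (X : ℤ[X]) ^ j) = (X - 1) ^ (p - 1) + C (p : ℤ) * q := by
  have hp := (Fact.out : p.Prime)
  set d : ℤ[X] := (∑ j ∈ Finset.range p, (X : ℤ[X]) ^ j) - (X - 1) ^ (p - 1) with hd
  have h0 : d.map (Int.castRingHom (ZMod p)) = 0 := by
    have h1 : ((X : (ZMod p)[X]) - 1) * ∑ j ∈ Finset.range p, X ^ j =
        (X - 1) * (X - 1) ^ (p - 1) := by
      rw [mul_geom_sum, ← pow_succ', Nat.sub_add_cancel hp.one_le, sub_pow_char, one_pow]
    have hne : (X : (ZMod p)[X]) - 1 ≠ 0 := by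
      rw [← map_one C]; exact X_sub_C_ne_zero 1
    rw [hd, Polynomial.map_sub, Polynomial.map_sum, Polynomial.map_pow, Polynomial.map_sub,
      Polynomial.map_X, Polynomial.map_one, ← mul_left_cancel₀ hne h1]
    simp
  obtain ⟨q, hq⟩ : C (p : ℤ) ∣ d := by
    rw [C_dvd_iff_dvd_coeff]
    intro i
    rw [← ZMod.intCast_zmod_eq_zero_iff_dvd]
    simpa using congrArg (fun f => f.coeff i) h0
  exact ⟨q, by rw [← hq, hd]; ring⟩

variable {E : Type*} [AddCommGroup E] {p : ℕ} [Fact p.Prime]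

/-- The norm of an endomorphism killed by `(a - 1) ^ (p - 1)` on elements of order `p`. -/
theorem geom_sum_apply_eq_zero (a : AddMonoid.End E) (y : E)
    (hy : ∀ m : ℕ, p • (a ^ m) y = 0) (h : ((a - 1) ^ (p - 1)) y = 0) :
    ∑ j ∈ Finset.range p, (a ^ j) y = 0 := by
  obtain ⟨q, hq⟩ := exists_geom_eq p
  have h1 := congrArg (Polynomial.aeval (R := ℤ) a) hq
  simp only [map_sum, map_pow, Polynomial.aeval_X, map_add, map_sub, map_one, map_mul,
    Polynomial.aeval_C] at h1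
  have h2 : ∀ r : Polynomial ℤ, (p : ℤ) • (Polynomial.aeval a r) y = 0 := by
    intro r
    induction r using Polynomial.induction_on' with
    | add r s hr hs =>
      rw [map_add]
      show (p : ℤ) • ((Polynomial.aeval a r) y + (Polynomial.aeval a s) y) = 0
      rw [smul_add, hr, hs, add_zero]
    | monomial m c =>
      rw [← Polynomial.smul_X_eq_monomial, map_smul, map_pow, Polynomial.aeval_X]
      show (p : ℤ) • (c • (a ^ m) y) = 0
      rw [smul_comm, natCast_zsmul, hy, smul_zero]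
  have h3 := DFunLike.congr_fun h1 y
  have h4 : (∑ x ∈ Finset.range p, a ^ x) y = ∑ j ∈ Finset.range p, (a ^ j) y :=
    map_sum (⟨⟨fun b : AddMonoid.End E => b y, rfl⟩, fun _ _ => rfl⟩ : AddMonoid.End E →+ E) _ _
  rw [← h4]
  refine h3.trans ?_
  show ((a - 1) ^ (p - 1)) y + (algebraMap ℤ (AddMonoid.End E) p * Polynomial.aeval a q) y = 0
  rw [h, zero_add, ← Algebra.smul_def]
  exact h2 q

variable {G : Type*} [Group G] [DistribMulAction G E]

/-- The orbit of `z` under a subgroup, as a finset. -/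
noncomputable def orbitFinset [Finite G] (L : Subgroup G) (z : E) : Finset E :=
  (Set.toFinite ((fun l : L => (l : G) • z) '' Set.univ)).toFinset

theorem mem_orbitFinset [Finite G] {L : Subgroup G} {z w : E} :
    w ∈ orbitFinset L z ↔ ∃ l ∈ L, l • z = w := by
  simp [orbitFinset]

theorem orbitFinset_eq_of_mem [Finite G] {L : Subgroup G} {z w : E} (h : w ∈ orbitFinset L z) :
    orbitFinset L w = orbitFinset L z := by
  obtain ⟨k, hk, rfl⟩ := mem_orbitFinset.1 h
  ext v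
  simp only [mem_orbitFinset]
  constructor
  · rintro ⟨l, hl, rfl⟩
    exact ⟨l * k, mul_mem hl hk, mul_smul _ _ _⟩
  · rintro ⟨l, hl, rfl⟩
    exact ⟨l * k⁻¹, mul_mem hl (inv_mem hk), by rw [mul_smul, inv_smul_smul]⟩

theorem self_mem_orbitFinset [Finite G] (L : Subgroup G) (z : E) : z ∈ orbitFinset L z :=
  mem_orbitFinset.2 ⟨1, one_mem _, one_smul _ _⟩

/-- A sum over an orbit of a `p`-group containing a good element moving the point vanishes. -/
theorem sum_orbit_eq_zero [Finite G] (f : E → E) (good : G → Prop)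
    (hf : ∀ (g : G) (z : E), f (g • z) = g • f z)
    (hgood : ∀ (g : G), good g → ∀ (s : Finset E), ∑ j ∈ Finset.range p, g ^ j • ∑ w ∈ s, f w = 0) :
    ∀ L : Subgroup G, IsPGroup p L → (∀ k ∈ L, ∀ g ∈ L, good g → good (k * g * k⁻¹)) → ∀ z : E,
      (∃ g ∈ L, good g ∧ g • z ≠ z) → ∑ w ∈ orbitFinset L z, f w = 0 := by
  classical
  intro L
  induction hn : Nat.card L using Nat.strong_induction_on generalizing L with
  | _ n ih =>
  subst hn
  intro hLp hconj z hz
  obtain ⟨g₀, hg₀L, hg₀, hg₀z⟩ := hz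
  set Lz : Subgroup L := (MulAction.stabilizer G z).subgroupOf L
  have hne : Lz ≠ ⊤ := fun h => hg₀z (show (⟨g₀, hg₀L⟩ : L) ∈ Lz from h ▸ Subgroup.mem_top _)
  haveI := hLp.isNilpotent
  obtain ⟨M, hM, hMz⟩ := (eq_top_or_exists_le_coatom Lz).resolve_left hne
  haveI : M.Normal := Subgroup.NormalizerCondition.normal_of_coatom M
    Group.normalizerCondition_of_isNilpotent hM
  set M' : Subgroup G := M.map L.subtype
  have hM'L : M' ≤ L := Subgroup.map_subtype_le M
  have hM'n : ∀ k ∈ L, ∀ m ∈ M', k * m * k⁻¹ ∈ M' := by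
    rintro k hk _ ⟨m, hm, rfl⟩
    exact ⟨⟨k, hk⟩ * m * ⟨k, hk⟩⁻¹, Subgroup.Normal.conj_mem ‹_› m hm _, rfl⟩
  have hfix : ∀ l ∈ L, l • z = z → l ∈ M' := fun l hl h =>
    ⟨⟨l, hl⟩, hMz (show (⟨l, hl⟩ : L) ∈ Lz from h), rfl⟩
  have hidx : M.index = p := PGroup.index_of_isCoatom hLp hM
  obtain ⟨g, hgL, hg, hgz, hcase⟩ : ∃ g ∈ L, good g ∧ g • z ≠ z ∧
      (g ∈ M' ∨ g ∉ M' ∧ ∀ m ∈ M', good m → m • z = z) := by
    by_cases h : ∃ m ∈ M', good m ∧ m • z ≠ z
    · obtain ⟨m, hm, hmg, hmz⟩ := h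
      exact ⟨m, hM'L hm, hmg, hmz, Or.inl hm⟩
    · push Not at h
      exact ⟨g₀, hg₀L, hg₀, hg₀z, Or.inr ⟨fun hm => hg₀z (h g₀ hm hg₀), h⟩⟩
  -- the element `t` outside `M`
  obtain ⟨t, htL, htM⟩ : ∃ t ∈ L, t ∉ M' ∧ (g ∉ M' → t = g) := by
    rcases hcase with h | h
    · obtain ⟨t, ht⟩ := SetLike.exists_not_mem_of_ne_top M hM.1 rfl
      exact ⟨t, t.2, fun ⟨m, hm, e⟩ => ht ((Subtype.ext e : m = t) ▸ hm), fun h' => absurd h h'⟩
    · exact ⟨g, hgL, h.1, fun _ => rfl⟩
  have htp : t ^ p ∈ M' := ⟨⟨t, htL⟩ ^ p, PGroup.pow_mem_of_index_eq M hidx _, rfl⟩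
  set τ : L ⧸ M := QuotientGroup.mk' M ⟨t, htL⟩
  have hcard : Nat.card (L ⧸ M) = p := by rw [← Subgroup.index_eq_card, hidx]
  have hτ1 : τ ≠ 1 := fun h => htM.1 ⟨⟨t, htL⟩, (QuotientGroup.eq_one_iff _).1 h, rfl⟩
  have hτo : orderOf τ = p := orderOf_eq_prime (by rw [← hcard]; exact pow_card_eq_one') hτ1
  have hmem : ∀ l : L, QuotientGroup.mk' M l = 1 → (l : G) ∈ M' := fun l h =>
    ⟨l, (QuotientGroup.eq_one_iff l).1 h, rfl⟩
  have hdisj : ∀ i < p, ∀ j < p, t ^ i * (t ^ j)⁻¹ ∈ M' → i = j := by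
    rintro i hi j hj ⟨m, hm, e⟩
    have e' : m = (⟨t, htL⟩ : L) ^ i * ((⟨t, htL⟩ : L) ^ j)⁻¹ := Subtype.ext (by simpa using e)
    have h1 : QuotientGroup.mk' M m = 1 := (QuotientGroup.eq_one_iff m).2 hm
    rw [e', map_mul, map_inv, map_pow, map_pow, mul_inv_eq_one] at h1
    exact pow_injOn_Iio_orderOf (show i < orderOf τ from hτo.symm ▸ hi) (show j < orderOf τ from hτo.symm ▸ hj) h1
  have hcover : ∀ l ∈ L, ∃ j < p, l * (t ^ j)⁻¹ ∈ M' := by
    intro l hl
    have hz : QuotientGroup.mk' M (⟨l, hl⟩ : L) ∈ Subgroup.zpowers τ :=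
      mem_zpowers_of_prime_card hcard hτ1
    rw [← mem_powers_iff_mem_zpowers, mem_powers_iff_mem_range_orderOf, Finset.mem_image] at hz
    obtain ⟨j, hj, e⟩ := hz
    refine ⟨j, by simpa [hτo] using hj, ?_⟩
    have := hmem ((⟨l, hl⟩ : L) * ((⟨t, htL⟩ : L) ^ j)⁻¹) (by
      rw [map_mul, map_inv, map_pow, ← e, mul_inv_cancel])
    simpa using this
  have hMp : IsPGroup p M' := hLp.to_le hM'L
  have hlt : Nat.card M' < Nat.card L := Set.ncard_lt_ncard (Set.ssubset_iff_subset_ne.2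
    ⟨hM'L, fun e => htM.1 (SetLike.coe_injective e ▸ htL)⟩)
  have hcj : ∀ k ∈ M', ∀ g ∈ M', good g → good (k * g * k⁻¹) :=
    fun k hk g hg => hconj k (hM'L hk) g (hM'L hg)
  have hsplit : orbitFinset L z =
      (Finset.range p).biUnion fun j => orbitFinset M' (t ^ j • z) := by
    ext w
    simp only [Finset.mem_biUnion, Finset.mem_range, mem_orbitFinset]
    constructor
    · rintro ⟨l, hl, rfl⟩
      obtain ⟨j, hj, hm⟩ := hcover l hl
      exact ⟨j, hj, _, hm, by rw [← mul_smul, inv_mul_cancel_right]⟩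
    · rintro ⟨j, -, m, hm, rfl⟩
      exact ⟨m * t ^ j, mul_mem (hM'L hm) (pow_mem htL j), mul_smul _ _ _⟩
  have hpd : Set.PairwiseDisjoint ↑(Finset.range p) fun j => orbitFinset M' (t ^ j • z) := by
    intro i hi j hj hij
    refine Finset.disjoint_left.2 fun w hwi hwj => hij ?_
    obtain ⟨m, hm, e₁⟩ := mem_orbitFinset.1 hwi
    obtain ⟨k, hk, e₂⟩ := mem_orbitFinset.1 hwj
    have e : ((k * t ^ j)⁻¹ * (m * t ^ i)) • z = z := by
      rw [mul_smul, inv_smul_eq_iff, mul_smul, mul_smul, e₁, e₂]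
    have h1 := hfix _ (mul_mem (inv_mem (mul_mem (hM'L hk) (pow_mem htL j)))
      (mul_mem (hM'L hm) (pow_mem htL i))) e
    have h2 := hM'n (t ^ j) (pow_mem htL j) _ h1
    refine hdisj i (Finset.mem_range.1 hi) j (Finset.mem_range.1 hj) ?_
    have h3 : t ^ i * (t ^ j)⁻¹ =
        m⁻¹ * (k * (t ^ j * ((k * t ^ j)⁻¹ * (m * t ^ i)) * (t ^ j)⁻¹)) := by group
    rw [h3]
    exact mul_mem (inv_mem hm) (mul_mem hk h2)
  have hshift : ∀ j, orbitFinset M' (t ^ j • z) = (orbitFinset M' z).image (t ^ j • ·) := by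
    intro j
    ext w
    simp only [Finset.mem_image, mem_orbitFinset]
    constructor
    · rintro ⟨m, hm, rfl⟩
      refine ⟨_, ⟨_, hM'n _ (inv_mem (pow_mem htL j)) m hm, rfl⟩, ?_⟩
      rw [inv_inv, ← mul_smul, ← mul_smul]
      congr 1
      group
    · rintro ⟨_, ⟨m, hm, rfl⟩, rfl⟩
      refine ⟨_, hM'n _ (pow_mem htL j) m hm, ?_⟩
      rw [← mul_smul, ← mul_smul]
      congr 1
      group
  rw [hsplit, Finset.sum_biUnion hpd]
  rcases hcase with hgM | ⟨hgM, -⟩
  · refine Finset.sum_eq_zero fun j _ => ih _ hlt M' rfl hMp hcj _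
      ⟨t ^ j * g * (t ^ j)⁻¹, hM'n _ (pow_mem htL j) g hgM, hconj _ (pow_mem htL j) g hgL hg, ?_⟩
    intro h
    apply hgz
    rw [← mul_smul, inv_mul_cancel_right, mul_smul] at h
    exact smul_left_cancel _ h
  · have e : t = g := htM.2 hgM
    rw [Finset.sum_congr rfl (g := fun j => g ^ j • ∑ w ∈ orbitFinset M' z, f w)]
    · exact hgood g hg _
    · intro j _
      rw [hshift, Finset.sum_image fun a _ b _ h => smul_left_cancel _ h, Finset.smul_sum, e]
      exact Finset.sum_congr rfl fun w _ => hf _ _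

/-- Fixed points from vanishing orbit sums. -/
theorem smul_eq_of_orbit_sums [Finite G] (hE : ∀ e : E, ∃ k : ℕ, p ^ k • e = 0) (X : AddSubgroup E)
    (S : Sylow p G) (x : E)
    (good : G → Prop) (hconj : ∀ k ∈ (S : Subgroup G), ∀ g ∈ (S : Subgroup G), good g → good (k * g * k⁻¹))
    (hnorm : ∀ g, good g → ∀ y ∈ X, ∑ j ∈ Finset.range p, g ^ j • y = 0)
    (hx : ∀ g : G, g • x - x ∈ X) (hS : ∀ s ∈ (S : Subgroup G), s • x = x)
    (hmove : ∀ h : G, h • x ≠ x → ∃ g ∈ (S : Subgroup G), good g ∧ g • h • x ≠ h • x) :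
    ∀ g : G, g • x = x := by
  classical
  set O := orbitFinset (⊤ : Subgroup G) x with hO
  set n := O.card with hn
  set σ := ∑ w ∈ O, w with hσ
  have hσG : ∀ g : G, g • σ = σ := by
    intro g
    rw [hσ, Finset.smul_sum]
    refine Finset.sum_nbij (g • ·) (fun w hw => ?_) (fun a _ b _ h => smul_left_cancel g h)
      (fun w hw => ?_) (fun _ _ => rfl)
    · obtain ⟨k, -, rfl⟩ := mem_orbitFinset.1 hw
      exact mem_orbitFinset.2 ⟨g * k, trivial, mul_smul _ _ _⟩
    · obtain ⟨k, -, rfl⟩ := mem_orbitFinset.1 hw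
      exact ⟨_, mem_orbitFinset.2 ⟨g⁻¹ * k, trivial, rfl⟩, by show g • (g⁻¹ * k) • x = k • x; rw [mul_smul, smul_inv_smul]⟩
  have hnp : ¬ p ∣ n := by
    have h1 : (MulAction.stabilizer G x).index = n := by
      rw [MulAction.index_stabilizer, hn, ← Set.ncard_coe_finset]
      congr 1
      ext w
      simp [MulAction.mem_orbit_iff, hO, mem_orbitFinset]
    intro h
    rw [← h1] at h
    exact S.not_dvd_index (h.trans (Subgroup.index_dvd_of_le fun s hs => hS s hs))
  set f : E → E := fun w => n • w - σ with hfdef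
  have hf : ∀ (g : G) (z : E), f (g • z) = g • f z := fun g z => by
    rw [hfdef]
    show n • g • z - σ = g • (n • z - σ)
    rw [smul_sub, hσG, smul_comm]
  have hfX : ∀ w ∈ O, f w ∈ X := by
    intro w hw
    rw [hfdef]
    show n • w - σ ∈ X
    rw [hn, ← Finset.sum_const, hσ, ← Finset.sum_sub_distrib]
    refine X.sum_mem fun v hv => ?_
    obtain ⟨k, -, rfl⟩ := mem_orbitFinset.1 hv
    obtain ⟨l, -, rfl⟩ := mem_orbitFinset.1 hw
    have := X.sub_mem (hx l) (hx k)
    rwa [sub_sub_sub_cancel_right] at this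
  have hfsum : ∑ w ∈ O, f w = 0 := by
    rw [hfdef]
    show ∑ w ∈ O, (n • w - σ) = 0
    rw [Finset.sum_sub_distrib, ← Finset.smul_sum, Finset.sum_const, ← hσ, ← hn, sub_self]
  -- restrict `f` to the orbit
  set F : E → E := fun w => if w ∈ O then f w else 0 with hFdef
  have hOG : ∀ (g : G) (w : E), g • w ∈ O ↔ w ∈ O := by
    intro g w
    simp only [hO, mem_orbitFinset]
    constructor
    · rintro ⟨k, -, e⟩
      exact ⟨g⁻¹ * k, trivial, by rw [mul_smul, e, inv_smul_smul]⟩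
    · rintro ⟨k, -, rfl⟩
      exact ⟨g * k, trivial, mul_smul _ _ _⟩
  have hF : ∀ (g : G) (z : E), F (g • z) = g • F z := fun g z => by
    rw [hFdef]
    show (if g • z ∈ O then f (g • z) else 0) = g • if z ∈ O then f z else 0
    by_cases h : z ∈ O
    · rw [if_pos h, if_pos ((hOG g z).2 h), hf]
    · rw [if_neg h, if_neg fun h' => h ((hOG g z).1 h'), smul_zero]
  have hFX : ∀ w, F w ∈ X := fun w => by
    rw [hFdef]
    show (if w ∈ O then f w else 0) ∈ X
    split
    · exact hfX w ‹_›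
    · exact X.zero_mem
  have hzero : ∀ z ∈ O, z ≠ x → ∑ w ∈ orbitFinset (S : Subgroup G) z, F w = 0 := by
    intro z hz hzx
    obtain ⟨h, -, rfl⟩ := mem_orbitFinset.1 hz
    obtain ⟨g, hgS, hg, hgz⟩ := hmove h hzx
    exact sum_orbit_eq_zero F good hF (fun g hg s => hnorm g hg _ (X.sum_mem fun w _ => hFX w))
      S S.2 hconj _ ⟨g, hgS, hg, hgz⟩
  have hxO : x ∈ O := self_mem_orbitFinset _ _
  have hfix : orbitFinset (S : Subgroup G) x = {x} := by
    ext w
    simp only [mem_orbitFinset, Finset.mem_singleton]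
    exact ⟨fun ⟨l, hl, e⟩ => e ▸ hS l hl, fun e => ⟨1, one_mem _, by rw [one_smul, e]⟩⟩
  have hfx : f x = 0 := by
    have h1 : ∑ w ∈ O, F w =
        ∑ c ∈ O.image (orbitFinset (S : Subgroup G)), ∑ w ∈ O with orbitFinset (S : Subgroup G) w = c, F w :=
      (Finset.sum_fiberwise_of_maps_to (fun w hw => Finset.mem_image_of_mem _ hw) _).symm
    rw [Finset.sum_eq_single (orbitFinset (S : Subgroup G) x)] at h1
    · have h2 : (O.filter fun w => orbitFinset (S : Subgroup G) w = orbitFinset (S : Subgroup G) x) = {x} := by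
        ext w
        simp only [Finset.mem_filter, Finset.mem_singleton]
        refine ⟨fun h => ?_, fun h => ⟨h ▸ hxO, by rw [h]⟩⟩
        have := h.2 ▸ self_mem_orbitFinset (S : Subgroup G) w
        rwa [hfix, Finset.mem_singleton] at this
      rw [h2, Finset.sum_singleton] at h1
      have h3 : ∀ w ∈ O, F w = f w := fun w hw => if_pos hw
      rw [Finset.sum_congr rfl h3, hfsum, h3 x hxO] at h1
      exact h1.symm
    · intro c hc hne
      obtain ⟨z, hz, rfl⟩ := Finset.mem_image.1 hc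
      rw [← hzero z hz fun e => hne (by rw [e])]
      refine Finset.sum_congr ?_ fun _ _ => rfl
      ext w
      simp only [Finset.mem_filter]
      refine ⟨fun h => h.2 ▸ self_mem_orbitFinset _ _, fun h => ⟨?_, orbitFinset_eq_of_mem h⟩⟩
      obtain ⟨l, -, rfl⟩ := mem_orbitFinset.1 h
      exact (hOG l z).2 hz
    · exact fun h => absurd (Finset.mem_image_of_mem _ hxO) h
  intro g
  obtain ⟨k, hk⟩ := hE (g • x - x)
  have h4 : n • (g • x - x) = 0 := by
    have h5 := hf g x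
    rw [hfx, smul_zero] at h5
    have h6 : n • (g • x) - σ = n • x - σ := h5.trans hfx.symm
    rw [smul_sub, sub_left_inj.1 h6, sub_self]
  have h7 : addOrderOf (g • x - x) ∣ Nat.gcd n (p ^ k) :=
    Nat.dvd_gcd (addOrderOf_dvd_of_nsmul_eq_zero h4) (addOrderOf_dvd_of_nsmul_eq_zero hk)
  rw [Nat.Coprime.gcd_eq_one (((Nat.Prime.coprime_iff_not_dvd Fact.out).2 hnp).symm.pow_right k),
    Nat.dvd_one, AddMonoid.addOrderOf_eq_one_iff, sub_eq_zero] at h7
  exact h7

end Cfsg.Agent.Transfer
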