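import Cfsg.Agent.Lib.Transfer.Fusion

/-!
# Alperin's fusion theorem

`IsTame P D`: `D = P ∩ Q` is a tame intersection with the Sylow subgroup `Q`.
`alperin`: if `A ⊆ P` and `g⁻¹ A g ⊆ P`, then `g = x₁ ⋯ xₙ` with `xᵢ` in normalizers of tame
intersections, each partial conjugate of `A` lying in the next intersection (`FusionChain`).
`exists_conj_eq_of_tame`: fusion is induced inside any subgroup inducing all those steps.
-/

set_option linter.style.haveILetI false

namespace Cfsg.Agent.Transfer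

open scoped Pointwise

variable {G : Type*} [Group G]

/-- `D = P ∩ Q` is a tame intersection of the Sylow subgroups `P` and `Q`. -/
def IsTameWith {p : ℕ} (P Q : Sylow p G) (D : Subgroup G) : Prop :=
  D = (P : Subgroup G) ⊓ (Q : Subgroup G) ∧
    ¬ p ∣ ((P : Subgroup G) ⊓ Subgroup.normalizer (D : Set G)).relIndex
        (Subgroup.normalizer (D : Set G)) ∧
    ¬ p ∣ ((Q : Subgroup G) ⊓ Subgroup.normalizer (D : Set G)).relIndex
        (Subgroup.normalizer (D : Set G))

def IsTame {p : ℕ} (P : Sylow p G) (D : Subgroup G) : Prop :=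
  ∃ Q : Sylow p G, IsTameWith P Q D

theorem IsTame.le {p : ℕ} {P : Sylow p G} {D : Subgroup G} (h : IsTame P D) :
    D ≤ (P : Subgroup G) := by
  obtain ⟨Q, rfl, -, -⟩ := h
  exact inf_le_left

/-- A chain of fusion steps, each inside the normalizer of a subgroup satisfying `C`. -/
inductive FusionChain (C : Subgroup G → Prop) : Set G → G → Prop
  | one (A : Set G) : FusionChain C A 1
  | step {A : Set G} {D : Subgroup G} {x h : G} :
      C D → A ⊆ D → x ∈ Subgroup.normalizer (D : Set G) →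
      FusionChain C ((fun a => x⁻¹ * a * x) '' A) h → FusionChain C A (x * h)

namespace FusionChain

variable {C : Subgroup G → Prop}

theorem mono {A : Set G} {g : G} (h : FusionChain C A g) :
    ∀ B : Set G, B ⊆ A → FusionChain C B g := by
  induction h with
  | one A => exact fun B _ => .one B
  | step hD hA hx _ ih =>
    exact fun B hB => .step hD (hB.trans hA) hx (ih _ (Set.image_mono hB))

theorem trans {A : Set G} {g : G} (h : FusionChain C A g) :
    ∀ k : G, FusionChain C ((fun a => g⁻¹ * a * g) '' A) k → FusionChain C A (g * k) := by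
  induction h with
  | one A => intro k hk; simpa using hk
  | @step A D x h hD hA hx _ ih =>
    intro k hk
    rw [mul_assoc]
    refine .step hD hA hx (ih k ?_)
    rw [Set.image_image]
    simpa [mul_assoc] using hk

theorem single {A : Set G} {D : Subgroup G} {x : G} (hD : C D) (hA : A ⊆ D)
    (hx : x ∈ Subgroup.normalizer (D : Set G)) : FusionChain C A x := by
  simpa using FusionChain.step hD hA hx (.one _)

theorem inv {A : Set G} {g : G} (h : FusionChain C A g) :
    FusionChain C ((fun a => g⁻¹ * a * g) '' A) g⁻¹ := by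
  induction h with
  | one A => simpa using FusionChain.one (C := C) A
  | @step A D x h hD hA hx _ ih =>
    rw [mul_inv_rev]
    have h1 : (fun a => h⁻¹ * x⁻¹ * a * (x * h)) '' A =
        (fun a => h⁻¹ * a * h) '' ((fun a => x⁻¹ * a * x) '' A) := by
      rw [Set.image_image]
      simp [mul_assoc]
    rw [h1]
    refine ih.trans x⁻¹ (single hD ?_ (inv_mem hx))
    rw [inv_inv, Set.image_image, Set.image_image]
    rintro _ ⟨a, ha, rfl⟩
    have h2 : h * (h⁻¹ * (x⁻¹ * a * x) * h) * h⁻¹ = x⁻¹ * a * x := by group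
    simp only [h2]
    exact (Subgroup.mem_normalizer_iff''.mp hx a).mp (hA ha)

end FusionChain

variable [Finite G] {p : ℕ} [Fact p.Prime]

theorem conj_mem_of_smul_eq {H : Subgroup G} {T S : Sylow p H} {c : H} (h : c • T = S) {t : H}
    (ht : t ∈ T) : c * t * c⁻¹ ∈ S := by
  rw [← h]
  exact ⟨t, ht, rfl⟩

theorem lt_inf_normalizer_of_lt {D R : Subgroup G} (hR : IsPGroup p R) (h : D < R) :
    D < R ⊓ Subgroup.normalizer (D : Set G) := by
  haveI := hR.isNilpotent
  have hlt : D.subgroupOf R < ⊤ := by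
    rw [lt_top_iff_ne_top, Ne, Subgroup.subgroupOf_eq_top]
    exact not_le_of_gt h
  obtain ⟨x, hx, hxD⟩ := SetLike.exists_of_lt
    (Group.normalizerCondition_of_isNilpotent (G := R) (D.subgroupOf R) hlt)
  refine lt_of_le_of_ne (le_inf h.le Subgroup.le_normalizer) fun he => hxD ?_
  show (x : G) ∈ D
  rw [he]
  refine ⟨x.2, ?_⟩
  rw [← Subgroup.subgroupOf_normalizer_eq h.le] at hx
  exact hx

private theorem alperin_aux (P : Sylow p G) (k : ℕ) :
    ∀ (D : Subgroup G) (g : G), Nat.card (P : Subgroup G) - Nat.card D = k →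
      D ≤ (P : Subgroup G) → (∀ a ∈ D, g⁻¹ * a * g ∈ (P : Subgroup G)) →
      FusionChain (IsTame P) (D : Set G) g := by
  induction k using Nat.strong_induction_on with
  | _ k IH =>
  intro D g hk hDP hg
  have large : ∀ (A : Set G) (E : Subgroup G) (x : G), A ⊆ E → E ≤ (P : Subgroup G) →
      (∀ a ∈ E, x⁻¹ * a * x ∈ (P : Subgroup G)) → Nat.card D < Nat.card E →
      FusionChain (IsTame P) A x := by
    intro A E x hAE hEP hx hlt
    refine (IH _ ?_ E x rfl hEP hx).mono A hAE
    have := Subgroup.card_le_of_le hEP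
    omega
  by_cases hD : D = (P : Subgroup G)
  · have hgN : g⁻¹ ∈ Subgroup.normalizer ((P : Subgroup G) : Set G) := by
      refine mem_normalizer_of_conj_mem fun a ha => ?_
      rw [inv_inv]
      exact hg a (hD ▸ ha)
    have htame : IsTame P (P : Subgroup G) := by
      refine ⟨P, (inf_idem _).symm, ?_, ?_⟩ <;>
      · rw [Subgroup.inf_relIndex_right]
        exact fun h => P.not_dvd_index (h.trans (Subgroup.relIndex_dvd_index_of_le
          Subgroup.le_normalizer))
    subst hD
    exact FusionChain.single htame subset_rfl (by simpa using inv_mem hgN)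
  have hlt : D < (P : Subgroup G) := lt_of_le_of_ne hDP hD
  set N := Subgroup.normalizer (D : Set G) with hN
  have hDp : IsPGroup p D := P.2.to_le hDP
  -- step 1: move `D` to a fully normalized conjugate `E` by `m`
  obtain ⟨S, hS⟩ := (P.2.comap_subtype (K := N)).exists_le_sylow
  have hDS : D.subgroupOf N ≤ S := fun x hx => hS (hDP hx)
  obtain ⟨R, hR⟩ := (S.2.map N.subtype).exists_le_sylow
  obtain ⟨m, rfl⟩ := MulAction.exists_smul_eq G P R
  have hRm : ∀ x : N, x ∈ S → m⁻¹ * (x : G) * m ∈ (P : Subgroup G) := by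
    intro x hx
    obtain ⟨y, hy, hyx⟩ := hR ⟨x, hx, rfl⟩
    have hyx' : m * y * m⁻¹ = (x : G) := hyx
    have hy' : y ∈ (P : Subgroup G) := hy
    rw [← hyx']
    simpa [mul_assoc] using hy'
  have hmain1 : FusionChain (IsTame P) (D : Set G) m :=
    large _ ((P : Subgroup G) ⊓ N) m (fun x hx => ⟨hDP hx, Subgroup.le_normalizer hx⟩) inf_le_left
      (fun a ha => hRm ⟨a, ha.2⟩ (hS ha.1))
      (by
        by_contra hle
        exact (lt_inf_normalizer_of_lt P.2 hlt).ne
          (Subgroup.eq_of_le_of_card_ge (lt_inf_normalizer_of_lt P.2 hlt).le (not_lt.mp hle)))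
  set E := D.map (MulAut.conj m⁻¹).toMonoidHom with hE
  have hEmem : ∀ a, a ∈ E ↔ m * a * m⁻¹ ∈ D := by
    intro a
    constructor
    · rintro ⟨d, hd, rfl⟩
      simpa [mul_assoc] using hd
    · intro h
      exact ⟨_, h, by simp [mul_assoc]⟩
  have hEP : E ≤ (P : Subgroup G) := by
    intro a ha
    have h1 := hRm ⟨m * a * m⁻¹, Subgroup.le_normalizer ((hEmem a).mp ha)⟩ (hDS ((hEmem a).mp ha))
    simpa [mul_assoc] using h1
  have hEcard : Nat.card E = Nat.card D :=
    Subgroup.card_map_of_injective (MulAut.conj m⁻¹).injective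
  set K := Subgroup.normalizer (E : Set G) with hK
  have hElt : E < (P : Subgroup G) := by
    refine lt_of_le_of_ne hEP fun he => hlt.ne (Subgroup.eq_of_le_of_card_ge hDP ?_)
    rw [← hEcard, he]
  -- the Sylow subgroup `P ∩ K` of `K`
  have hSK : ¬ p ∣ ((P : Subgroup G) ⊓ K).relIndex K := by
    intro hdvd
    apply S.not_dvd_index
    have hmap : ((S : Subgroup N).map N.subtype).map (MulAut.conj m⁻¹).toMonoidHom ≤
        (P : Subgroup G) ⊓ K := by
      rintro _ ⟨_, ⟨x, hx, rfl⟩, rfl⟩
      have hxm : (MulAut.conj m⁻¹).toMonoidHom (N.subtype x) = m⁻¹ * x * m := by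
        simp [MulAut.conj_apply]
      rw [hxm]
      refine ⟨hRm x hx, ?_⟩
      show m⁻¹ * (x : G) * m ∈ K
      rw [hK, Subgroup.mem_normalizer_iff]
      intro a
      rw [hEmem, hEmem]
      rw [Subgroup.mem_normalizer_iff.mp x.2 (m * a * m⁻¹)]
      simp [mul_assoc]
    have hNK : N.map (MulAut.conj m⁻¹).toMonoidHom = K := by
      rw [hK, hE, hN]
      exact Subgroup.map_equiv_normalizer_eq D (MulAut.conj m⁻¹)
    have h1 : (((S : Subgroup N).map N.subtype).map (MulAut.conj m⁻¹).toMonoidHom).relIndex K =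
        (S : Subgroup N).index := by
      rw [← hNK, Subgroup.relIndex_map_map_of_injective _ _ (MulAut.conj m⁻¹).injective]
      simp [Subgroup.relIndex, Subgroup.subgroupOf, Subgroup.comap_map_eq_self_of_injective
        N.subtype_injective]
    rw [← h1]
    exact hdvd.trans (Subgroup.relIndex_dvd_of_le_left K hmap)
  -- step 2: move the image `D^g` to `E` as well
  have hN2 : ∀ c ∈ K, FusionChain (IsTame P) (E : Set G) c := by
    intro c hc
    set U := ((P : Subgroup G) ⊓ K) ⊓ ((P : Subgroup G) ⊓ K).map (MulAut.conj c).toMonoidHom with hU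
    have hEU : E ≤ U := fun a ha => ⟨⟨hEP ha, Subgroup.le_normalizer ha⟩, c⁻¹ * a * c,
      ⟨hEP ((Subgroup.mem_normalizer_iff''.mp hc a).mp ha),
        Subgroup.le_normalizer ((Subgroup.mem_normalizer_iff''.mp hc a).mp ha)⟩, by simp [mul_assoc]⟩
    rcases hEU.eq_or_lt with heq | hltU
    · -- `P ∩ cPc⁻¹ = E` is a tame intersection
      have hPQ : E = (P : Subgroup G) ⊓ ((c • P : Sylow p G) : Subgroup G) := by
        have hle : E ≤ (P : Subgroup G) ⊓ ((c • P : Sylow p G) : Subgroup G) := fun a ha =>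
          ⟨hEP ha, c⁻¹ * a * c, hEP ((Subgroup.mem_normalizer_iff''.mp hc a).mp ha),
            by simp [mul_assoc]⟩
        refine hle.eq_or_lt.resolve_right fun hlt' => ?_
        have h1 := lt_inf_normalizer_of_lt (P.2.to_le inf_le_left) hlt'
        refine h1.not_ge ?_
        rintro a ⟨⟨ha, y, hy, hya⟩, haK⟩
        have hya' : c * y * c⁻¹ = a := hya
        rw [heq]
        refine ⟨⟨ha, haK⟩, y, ⟨hy, ?_⟩, hya'⟩
        have : y = c⁻¹ * a * c := by rw [← hya']; group
        rw [this]
        exact (mul_mem (mul_mem (inv_mem hc) haK) hc : c⁻¹ * a * c ∈ K)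
      refine FusionChain.single ⟨c • P, hPQ, hSK, ?_⟩ subset_rfl hc
      have hKc : K.map (MulAut.conj c).toMonoidHom = K := by
        ext a
        constructor
        · rintro ⟨y, hy, rfl⟩
          exact mul_mem (mul_mem hc hy) (inv_mem hc)
        · intro ha
          exact ⟨c⁻¹ * a * c, mul_mem (mul_mem (inv_mem hc) ha) hc, by simp [mul_assoc]⟩
      have h2 : (((c • P : Sylow p G) : Subgroup G) ⊓ K).relIndex K =
          ((P : Subgroup G) ⊓ K).relIndex K := by
        conv_lhs => rw [← hKc]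
        rw [show ((c • P : Sylow p G) : Subgroup G) =
          (P : Subgroup G).map (MulAut.conj c).toMonoidHom from rfl,
          ← Subgroup.map_inf _ _ _ (MulAut.conj c).injective]
        exact Subgroup.relIndex_map_map_of_injective _ _ (MulAut.conj c).injective
      rw [← hK, h2]
      exact hSK
    · refine large _ U c hEU (inf_le_left.trans inf_le_left) ?_ ?_
      · rintro a ⟨-, y, hy, rfl⟩
        have h9 : y ∈ (P : Subgroup G) := hy.1
        simp [MulAut.conj_apply, mul_assoc]
        exact h9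
      · rw [← hEcard]
        by_contra hle
        exact hltU.ne (Subgroup.eq_of_le_of_card_ge hltU.le (not_lt.mp hle))
  -- `F := D^g`
  set F := D.map (MulAut.conj g⁻¹).toMonoidHom with hF
  have hFmem : ∀ a, a ∈ F ↔ g * a * g⁻¹ ∈ D := by
    intro a
    constructor
    · rintro ⟨d, hd, rfl⟩
      simpa [mul_assoc] using hd
    · intro h
      exact ⟨_, h, by simp [mul_assoc]⟩
  have hFP : F ≤ (P : Subgroup G) := by
    rintro _ ⟨d, hd, rfl⟩
    simpa [MulAut.conj_apply] using hg d hd
  have hFcard : Nat.card F = Nat.card D :=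
    Subgroup.card_map_of_injective (MulAut.conj g⁻¹).injective
  have hFlt : F < (P : Subgroup G) := by
    refine lt_of_le_of_ne hFP fun he => hlt.ne (Subgroup.eq_of_le_of_card_ge hDP ?_)
    rw [← hFcard, he]
  set h := g⁻¹ * m with hh
  let PFp := ((P : Subgroup G) ⊓ Subgroup.normalizer (F : Set G)).map (MulAut.conj h⁻¹).toMonoidHom
  have hPFK : PFp ≤ K := by
    rintro _ ⟨y, ⟨-, hy⟩, rfl⟩
    have hym : (MulAut.conj h⁻¹).toMonoidHom y = h⁻¹ * y * h := by simp [MulAut.conj_apply]
    rw [hym, hK, Subgroup.mem_normalizer_iff]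
    intro a
    rw [hEmem, hEmem]
    have key := Subgroup.mem_normalizer_iff.mp hy (h * a * h⁻¹)
    rw [hFmem, hFmem] at key
    convert key using 2 <;> rw [hh] <;> group
  have hPFp : IsPGroup p (PFp.subgroupOf K) :=
    ((P.2.to_le inf_le_left).map _).comap_subtype
  obtain ⟨T, hT⟩ := hPFp.exists_le_sylow
  have hSKp : IsPGroup p (((P : Subgroup G) ⊓ K).subgroupOf K) :=
    (P.2.to_le inf_le_left).comap_subtype
  have hidx : ¬ p ∣ (((P : Subgroup G) ⊓ K).subgroupOf K).index := hSK
  obtain ⟨c, hc⟩ := MulAction.exists_smul_eq K T (hSKp.toSylow hidx)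
  have hstep : FusionChain (IsTame P) (F : Set G) (h * (c : G)⁻¹) := by
    refine large _ ((P : Subgroup G) ⊓ Subgroup.normalizer (F : Set G)) _
      (fun x hx => ⟨hFP hx, Subgroup.le_normalizer hx⟩) inf_le_left ?_ ?_
    · intro a ha
      have hb : h⁻¹ * a * h ∈ PFp := ⟨a, ha, by simp [MulAut.conj_apply]⟩
      have h1 : c * (⟨_, hPFK hb⟩ : K) * c⁻¹ ∈ hSKp.toSylow hidx :=
        conj_mem_of_smul_eq hc (hT hb)
      have h2 : (c : G) * (h⁻¹ * a * h) * (c : G)⁻¹ ∈ (P : Subgroup G) := h1.1
      simpa [mul_assoc] using h2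
    · rw [← hFcard]
      by_contra hle
      exact (lt_inf_normalizer_of_lt P.2 hFlt).ne
        (Subgroup.eq_of_le_of_card_ge (lt_inf_normalizer_of_lt P.2 hFlt).le (not_lt.mp hle))
  have hm' : (fun a => m⁻¹ * a * m) '' (D : Set G) = (E : Set G) := by
    rw [hE, Subgroup.coe_map]
    exact Set.image_congr fun a _ => by simp [MulAut.conj_apply]
  have e1 : (fun a => (h * (c : G)⁻¹)⁻¹ * a * (h * (c : G)⁻¹)) '' (F : Set G) = (E : Set G) := by
    have hE' : ∀ d ∈ D, m⁻¹ * d * m ∈ E := fun d hd => (hEmem _).mpr (by simpa [mul_assoc] using hd)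
    ext a
    constructor
    · rintro ⟨y, hy, rfl⟩
      have h1 := (Subgroup.mem_normalizer_iff.mp c.2 _).mp (hE' _ ((hFmem y).mp hy))
      rw [hh]
      simpa [mul_assoc] using h1
    · intro ha
      have h1 : (c : G)⁻¹ * a * c ∈ E := by
        have := (Subgroup.mem_normalizer_iff''.mp c.2 a).mp ha
        exact this
      refine ⟨h * ((c : G)⁻¹ * a * c) * h⁻¹, (hFmem _).mpr ?_, by group⟩
      have h2 := (hEmem _).mp h1
      convert h2 using 1
      rw [hh]
      group
  have hinv := hstep.inv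
  rw [e1] at hinv
  have hall : FusionChain (IsTame P) (D : Set G) (m * ((c : G)⁻¹ * (h * (c : G)⁻¹)⁻¹)) := by
    refine hmain1.trans _ ?_
    rw [hm']
    refine (hN2 (c : G)⁻¹ (inv_mem c.2)).trans _ ?_
    refine hinv.mono _ ?_
    rintro _ ⟨a, ha, rfl⟩
    show (c : G)⁻¹⁻¹ * a * (c : G)⁻¹ ∈ E
    rw [inv_inv]
    exact (Subgroup.mem_normalizer_iff.mp c.2 a).mp ha
  have hg_eq : g = m * ((c : G)⁻¹ * (h * (c : G)⁻¹)⁻¹) := by rw [hh]; group
  exact hg_eq.symm ▸ hall

/-- **Alperin's fusion theorem**. -/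
theorem alperin (P : Sylow p G) (A : Set G) (g : G) (hA : A ⊆ (P : Set G))
    (hAg : ∀ a ∈ A, g⁻¹ * a * g ∈ P) : FusionChain (IsTame P) A g := by
  refine (alperin_aux P _ (Subgroup.closure A) g rfl ((Subgroup.closure_le _).mpr hA) ?_).mono A
    Subgroup.subset_closure
  intro a ha
  induction ha using Subgroup.closure_induction with
  | mem x hx => exact hAg x hx
  | one => simp
  | mul x y _ _ hx hy => simpa [mul_assoc] using mul_mem hx hy
  | inv x _ hx => simpa [mul_assoc] using inv_mem hx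

/-- If every conjugation by an element of a normalizer of a tame intersection is induced inside `H`,
then all fusion in `P` is. -/
theorem exists_conj_eq_of_tame (P : Sylow p G) (H : Subgroup G)
    (hH : ∀ D : Subgroup G, IsTame P D → ∀ x ∈ Subgroup.normalizer (D : Set G),
      ∃ y ∈ H, ∀ d ∈ D, y⁻¹ * d * y = x⁻¹ * d * x)
    (A : Set G) (g : G) (hA : A ⊆ (P : Set G)) (hAg : ∀ a ∈ A, g⁻¹ * a * g ∈ P) :
    ∃ y ∈ H, ∀ a ∈ A, y⁻¹ * a * y = g⁻¹ * a * g := by
  have h := alperin P A g hA hAg
  clear hA hAg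
  induction h with
  | one A => exact ⟨1, one_mem _, fun a _ => rfl⟩
  | @step A D x h hD hA hx _ ih =>
    obtain ⟨y, hy, he⟩ := hH D hD x hx
    obtain ⟨z, hz, he'⟩ := ih
    refine ⟨y * z, mul_mem hy hz, fun a ha => ?_⟩
    have h1 := he' (x⁻¹ * a * x) ⟨a, ha, rfl⟩
    calc (y * z)⁻¹ * a * (y * z) = z⁻¹ * (y⁻¹ * a * y) * z := by group
      _ = z⁻¹ * (x⁻¹ * a * x) * z := by rw [he a (hA ha)]
      _ = h⁻¹ * (x⁻¹ * a * x) * h := h1
      _ = (x * h)⁻¹ * a * (x * h) := by group

theorem controlsElementFusion_of_tame (P : Sylow p G) (H : Subgroup G)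
    (hH : ∀ D : Subgroup G, IsTame P D → ∀ x ∈ Subgroup.normalizer (D : Set G),
      ∃ y ∈ H, ∀ d ∈ D, y⁻¹ * d * y = x⁻¹ * d * x) :
    ControlsElementFusion H (P : Subgroup G) := by
  intro x hx g hg
  obtain ⟨y, hy, he⟩ := exists_conj_eq_of_tame P H hH {x} g⁻¹
    (fun a ha => by rw [Set.mem_singleton_iff.mp ha]; exact hx)
    (fun a ha => by rw [Set.mem_singleton_iff.mp ha, inv_inv]; exact hg)
  refine ⟨y⁻¹, inv_mem hy, ?_⟩
  simpa using he x rfl

/-- The chain of `alperin` as explicit sequences. -/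
theorem FusionChain.exists_sylow_list {P : Sylow p G} {A : Set G} {g : G}
    (h : FusionChain (IsTame P) A g) :
    ∃ (n : ℕ) (Q : Fin n → Sylow p G) (x : Fin n → G), (List.ofFn x).prod = g ∧
      (∀ i : Fin n, IsTameWith P (Q i) ((P : Subgroup G) ⊓ (Q i : Subgroup G)) ∧
        x i ∈ Subgroup.normalizer (((P : Subgroup G) ⊓ (Q i : Subgroup G) : Subgroup G) : Set G)) ∧
      (∀ h : 0 < n, A ⊆ (((P : Subgroup G) ⊓ (Q ⟨0, h⟩ : Subgroup G) : Subgroup G) : Set G)) ∧
      ∀ i : Fin n, ∀ h : i.val + 1 < n,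
        (fun a => (((List.ofFn x).take (i.val + 1)).prod)⁻¹ * a *
            ((List.ofFn x).take (i.val + 1)).prod) '' A ⊆
          (((P : Subgroup G) ⊓ (Q ⟨i.val + 1, h⟩ : Subgroup G) : Subgroup G) : Set G) := by
  induction h with
  | one A => exact ⟨0, Fin.elim0, Fin.elim0, by simp, fun i => i.elim0,
      fun h => absurd h (lt_irrefl 0), fun i => i.elim0⟩
  | @step A D x h hD hA hx _ ih =>
    obtain ⟨Q₀, hQ₀⟩ := hD
    obtain ⟨n, Q, xs, hprod, hall, hfirst, hnext⟩ := ih
    have hDeq := hQ₀.1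
    subst hDeq
    refine ⟨n + 1, Fin.cons Q₀ Q, Fin.cons x xs, by simp [hprod], ?_, fun _ => hA, ?_⟩
    · intro i
      induction i using Fin.cases with
      | zero => simpa using And.intro hQ₀ hx
      | succ j => simpa using hall j
    · intro i
      induction i using Fin.cases with
      | zero =>
        intro hi
        have hn : 0 < n := by simpa using hi
        have h1 := hfirst hn
        intro b hb
        obtain ⟨a, ha, rfl⟩ := hb
        have h2 := h1 ⟨a, ha, rfl⟩
        have e : (Fin.cons Q₀ Q : Fin (n + 1) → Sylow p G) ⟨((0 : Fin (n + 1)) : ℕ) + 1, hi⟩ =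
            Q ⟨0, hn⟩ := rfl
        rw [e]
        simpa using h2
      | succ j =>
        intro hi
        have hj : (j : ℕ) + 1 < n := by simpa using hi
        have h1 := hnext j hj
        intro b hb
        obtain ⟨a, ha, rfl⟩ := hb
        have h2 := h1 ⟨x⁻¹ * a * x, ⟨a, ha, rfl⟩, rfl⟩
        have e : (Fin.cons Q₀ Q : Fin (n + 1) → Sylow p G) ⟨(j.succ : ℕ) + 1, hi⟩ =
            Q ⟨(j : ℕ) + 1, hj⟩ := rfl
        rw [e]
        simpa [List.ofFn_succ, mul_assoc] using h2

end Cfsg.Agent.Transfer
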