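import Cfsg.Agent.Lib.Transfer.FocalLocal
import Cfsg.Agent.Lib.PCore.UpperSeries
import Cfsg.Prelude.Def_TwoFusion

/-!
# The Alperin–Goldschmidt conjugation family

`IsGoldschmidt P D`: `D ≤ P`, `C(D) ≤ O_{p',p}(N)`, `O_{p',p}(N) = O_{p'}(N) × D` and `N ∩ P` is Sylow
in `N = N(D)`.
`alperin_goldschmidt`: fusion in `P` is, up to a centralizing element, a chain through this family.
-/

set_option autoImplicit false
set_option linter.style.haveILetI false

namespace Cfsg.Agent.Transfer

open Subgroup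

variable {G : Type*} [Group G]

section group

variable {N : Type*} [Group N] [Finite N] {p : ℕ} [Fact p.Prime]

/-- A Sylow subgroup meets a normal subgroup in a Sylow subgroup. -/
theorem not_dvd_index_subgroupOf_of_normal (S : Sylow p N) (M : Subgroup N) [M.Normal] :
    ¬ p ∣ ((S : Subgroup N).subgroupOf M).index := by
  intro h
  apply S.not_dvd_index
  have h1 : (S : Subgroup N).relIndex M = (S : Subgroup N).relIndex ((S : Subgroup N) ⊔ M) := by
    have a := relIndex_mul_relIndex ((S : Subgroup N) ⊓ M) (S : Subgroup N) ((S : Subgroup N) ⊔ M)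
      inf_le_left le_sup_left
    have b := relIndex_mul_relIndex ((S : Subgroup N) ⊓ M) M ((S : Subgroup N) ⊔ M)
      inf_le_right le_sup_right
    rw [inf_relIndex_left] at a
    rw [relIndex_sup_right, inf_relIndex_right] at b
    rw [mul_comm] at b
    exact Nat.eq_of_mul_eq_mul_left (Nat.pos_of_ne_zero index_ne_zero_of_finite) (b.trans a.symm)
  exact (h1 ▸ (h : p ∣ (S : Subgroup N).relIndex M) :
    p ∣ (S : Subgroup N).relIndex ((S : Subgroup N) ⊔ M)).trans
      (relIndex_dvd_index_of_le le_sup_left)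

/-- Frattini: `N = M N_N(S ∩ M)`. -/
theorem sup_normalizer_inf_eq_top (S : Sylow p N) (M : Subgroup N) [M.Normal] :
    M ⊔ normalizer (((S : Subgroup N) ⊓ M : Subgroup N) : Set N) = ⊤ := by
  have hp : IsPGroup p ((S : Subgroup N).subgroupOf M) := S.2.comap_subtype
  have h := (hp.toSylow (not_dvd_index_subgroupOf_of_normal S M)).normalizer_sup_eq_top
  rw [sup_comm]
  simpa [subgroupOf_map_subtype] using h

/-- `O_{p',p}(N) = O_{p'}(N) (S ∩ O_{p',p}(N))`. -/
theorem pPrimePCore_le_sup (S : Sylow p N) :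
    pPrimePCore p N ≤ pPrimeCore p N ⊔ ((S : Subgroup N) ⊓ pPrimePCore p N) := by
  set X := pPrimePCore p N
  set U := pPrimeCore p N ⊔ ((S : Subgroup N) ⊓ X)
  obtain ⟨m, hm⟩ := PCore.relIndex_pPrimePCore (G := N) (p := p)
  have h1 : U.relIndex X ∣ p ^ m := hm ▸ relIndex_dvd_of_le_left X le_sup_left
  have h2 : U.relIndex X ∣ (S : Subgroup N).relIndex X := by
    rw [← inf_relIndex_right (S : Subgroup N) X]
    exact relIndex_dvd_of_le_left X le_sup_right
  have h3 : ((S : Subgroup N).relIndex X).Coprime (p ^ m) :=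
    ((Fact.out : p.Prime).coprime_iff_not_dvd.mpr
      (not_dvd_index_subgroupOf_of_normal S X)).symm.pow_right m
  rw [← relIndex_eq_one]
  exact Nat.eq_one_of_dvd_coprimes h3 h2 h1

/-- Burnside: a normal subgroup `C` centralizing the normal `p`-subgroup `D` with `S ∩ C ≤ D`
lies in `O_{p'}(N) D`. -/
theorem le_pPrimeCore_sup_of_inf_le (S : Sylow p N) (C D : Subgroup N) [C.Normal]
    (hcomm : ∀ c ∈ C, ∀ d ∈ D, c * d = d * c) (hSC : (S : Subgroup N) ⊓ C ≤ D) :
    C ≤ pPrimeCore p N ⊔ D := by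
  have hp : IsPGroup p ((S : Subgroup N).subgroupOf C) := S.2.comap_subtype
  set T : Sylow p C := hp.toSylow (not_dvd_index_subgroupOf_of_normal S C)
  have hTD : ∀ t : C, t ∈ T → (t : N) ∈ D := fun t ht => hSC ⟨ht, t.2⟩
  have hT : normalizer (T : Set C) ≤ centralizer (T : Set C) := by
    intro c _
    rw [mem_centralizer_iff]
    intro t ht
    exact Subtype.ext (hcomm c c.2 t (hTD t ht)).symm
  have hcompl := MonoidHom.ker_transferSylow_isComplement' T hT
  set K := (MonoidHom.transferSylow T hT).ker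
  have hK : K ≤ pPrimeCore p C := PCore.le_pPrimeCore
    (((Fact.out : p.Prime).coprime_iff_not_dvd.mpr
      (MonoidHom.not_dvd_card_ker_transferSylow T hT)).symm)
  intro c hc
  obtain ⟨⟨k, hk⟩, ⟨t, ht⟩, hkt⟩ :
      ∃ (k : K) (t : (T : Subgroup C)), (k : C) * (t : C) = ⟨c, hc⟩ := by
    obtain ⟨⟨k, t⟩, h⟩ := (hcompl.existsUnique ⟨c, hc⟩).exists
    exact ⟨k, t, h⟩
  have hkN : (k : N) ∈ pPrimeCore p N := by
    have := (PCore.map_pPrimeCore_subtype_of_normal (p := p) C).le ⟨k, hK hk, rfl⟩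
    exact this.1
  have e : (k : N) * (t : N) = c := congrArg Subtype.val hkt
  exact e ▸ mul_mem (mem_sup_left hkN) (mem_sup_right (hTD t ht))

end group

variable {p : ℕ}

/-- The conditions on the members of the conjugation family. -/
def IsGoldschmidt (P : Sylow p G) (D : Subgroup G) : Prop :=
  D ≤ (P : Subgroup G) ∧
  centralizer (D : Set G) ≤
    (pPrimePCore p ↥(normalizer (D : Set G))).map (normalizer (D : Set G)).subtype ∧
  IsInternalDirectProduct
    ((pPrimeCore p ↥(normalizer (D : Set G))).map (normalizer (D : Set G)).subtype) D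
    ((pPrimePCore p ↥(normalizer (D : Set G))).map (normalizer (D : Set G)).subtype) ∧
  ¬ p ∣ ((P : Subgroup G) ⊓ normalizer (D : Set G)).relIndex (normalizer (D : Set G))

/-- A chain through the family `C`, up to a centralizing element. -/
def FusionChainUpTo (C : Subgroup G → Prop) (A : Set G) (g : G) : Prop :=
  ∃ c ∈ centralizer A, FusionChain C A (c⁻¹ * g)

namespace FusionChainUpTo

variable {C : Subgroup G → Prop}

theorem mono {A : Set G} {g : G} (h : FusionChainUpTo C A g) {B : Set G} (hB : B ⊆ A) :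
    FusionChainUpTo C B g := by
  obtain ⟨c, hc, hch⟩ := h
  exact ⟨c, centralizer_le hB hc, hch.mono B hB⟩

theorem mul_centralizer {A : Set G} {g : G} (h : FusionChainUpTo C A g) {c : G}
    (hc : c ∈ centralizer A) : FusionChainUpTo C A (c * g) := by
  obtain ⟨d, hd, hch⟩ := h
  refine ⟨c * d, mul_mem hc hd, ?_⟩
  simpa [mul_assoc] using hch

theorem trans {A : Set G} {g k : G} (h : FusionChainUpTo C A g)
    (hk : FusionChainUpTo C ((fun a => g⁻¹ * a * g) '' A) k) : FusionChainUpTo C A (g * k) := by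
  obtain ⟨c, hc, hch⟩ := h
  obtain ⟨c', hc', hch'⟩ := hk
  have himg : (fun a => g⁻¹ * a * g) '' A = (fun a => (c⁻¹ * g)⁻¹ * a * (c⁻¹ * g)) '' A := by
    refine Set.image_congr fun a ha => ?_
    have h1 : a * c = c * a := mem_centralizer_iff.mp hc a ha
    calc g⁻¹ * a * g = g⁻¹ * (c * a) * (c⁻¹ * g) := by rw [← h1]; group
      _ = (c⁻¹ * g)⁻¹ * a * (c⁻¹ * g) := by group
  refine ⟨c * ((c⁻¹ * g) * c' * (c⁻¹ * g)⁻¹), mul_mem hc ?_, ?_⟩
  · rw [mem_centralizer_iff]
    intro a ha
    have h1 := mem_centralizer_iff.mp hc' ((c⁻¹ * g)⁻¹ * a * (c⁻¹ * g))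
      (by rw [himg]; exact ⟨a, ha, rfl⟩)
    generalize c⁻¹ * g = m at h1 ⊢
    calc a * (m * c' * m⁻¹) = m * ((m⁻¹ * a * m) * c') * m⁻¹ := by group
      _ = m * (c' * (m⁻¹ * a * m)) * m⁻¹ := by rw [h1]
      _ = m * c' * m⁻¹ * a := by group
  · have e : (c * ((c⁻¹ * g) * c' * (c⁻¹ * g)⁻¹))⁻¹ * (g * k) = (c⁻¹ * g) * (c'⁻¹ * k) := by group
    rw [e]
    exact hch.trans _ (himg ▸ hch')

theorem of_chain {B : Subgroup G → Prop}
    (hB : ∀ D, B D → ∀ x ∈ normalizer (D : Set G), FusionChainUpTo C (D : Set G) x)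
    {A : Set G} {g : G} (h : FusionChain B A g) : FusionChainUpTo C A g := by
  induction h with
  | one A => exact ⟨1, one_mem _, by simpa using FusionChain.one A⟩
  | @step A D x h hD hA hx _ ih => exact ((hB D hD x hx).mono hA).trans ih

end FusionChainUpTo

variable [Finite G] [Fact p.Prime]

/-- A tame intersection is in the family, or the fusion in its normalizer is induced, up to
centralizing elements, by the normalizer of a larger subgroup of `P`. -/
theorem isGoldschmidt_or_enlarge (P : Sylow p G) {D : Subgroup G} (hD : IsTame P D) :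
    IsGoldschmidt P D ∨ ∃ R : Subgroup G, D < R ∧ R ≤ (P : Subgroup G) ∧
      ∀ x ∈ normalizer (D : Set G), ∃ c ∈ centralizer (D : Set G),
        c⁻¹ * x ∈ normalizer (R : Set G) := by
  obtain ⟨Q, hQ⟩ := hD
  have hDP : D ≤ (P : Subgroup G) := by rw [hQ.1]; exact inf_le_left
  set N := normalizer (D : Set G) with hN
  have hSp : IsPGroup p (((P : Subgroup G) ⊓ N).subgroupOf N) :=
    (P.2.to_le inf_le_left).comap_subtype
  set S : Sylow p N := hSp.toSylow hQ.2.1
  have hSP : ∀ z : N, z ∈ (S : Subgroup N) → (z : G) ∈ (P : Subgroup G) := fun z hz => hz.1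
  have hCN : centralizer (D : Set G) ≤ N := centralizer_le_normalizer _
  set C' := (centralizer (D : Set G)).subgroupOf N with hC'
  set D' := D.subgroupOf N with hD'
  haveI hC'n : C'.Normal := by
    rw [hC', ← normalizerMonoidHom_ker]
    infer_instance
  haveI hD'n : D'.Normal := normal_in_normalizer
  have hD'S : D' ≤ (S : Subgroup N) := fun z hz => ⟨hDP hz, z.2⟩
  have hcomm : ∀ c ∈ C', ∀ d ∈ D', c * d = d * c := fun c hc d hd =>
    Subtype.ext (mem_centralizer_iff.mp hc (d : G) hd).symm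
  have hD'p : IsPGroup p D' := (P.2.to_le hDP).comap_subtype
  have hD'X : D' ≤ pPrimePCore p N :=
    (PCore.le_pCore hD'p).trans PCore.pCore_le_pPrimePCore
  -- enlarging with a normal subgroup acting as `C R`
  have enlarge : ∀ M : Subgroup N, M.Normal → D' ≤ M → M ≤ C' ⊔ ((S : Subgroup N) ⊓ M) →
      ¬ (S : Subgroup N) ⊓ M ≤ D' → ∃ R : Subgroup G, D < R ∧ R ≤ (P : Subgroup G) ∧
        ∀ x ∈ N, ∃ c ∈ centralizer (D : Set G), c⁻¹ * x ∈ normalizer (R : Set G) := by
    intro M hM hDM hMC hne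
    set R' := (S : Subgroup N) ⊓ M with hR'
    refine ⟨R'.map N.subtype, lt_of_le_of_ne ?_ ?_, ?_, ?_⟩
    · intro d hd
      exact ⟨⟨d, le_normalizer hd⟩, ⟨hD'S hd, hDM hd⟩, rfl⟩
    · intro he
      refine hne fun z hz => ?_
      show (z : G) ∈ D
      rw [he]
      exact ⟨z, hz, rfl⟩
    · rintro _ ⟨z, hz, rfl⟩
      exact hSP z hz.1
    intro x hx
    obtain ⟨m, hm, y, hy, hmy⟩ := mem_sup_of_normal_left.mp
      (sup_normalizer_inf_eq_top S M ▸ mem_top (⟨x, hx⟩ : N))
    obtain ⟨c, hc, r, hr, hcr⟩ := mem_sup_of_normal_left.mp (hMC hm)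
    refine ⟨c, hc, ?_⟩
    have h1 : r * y ∈ normalizer (R' : Set N) := mul_mem (le_normalizer hr) hy
    have h2 : ((r * y : N) : G) ∈ normalizer ((R'.map N.subtype : Subgroup G) : Set G) :=
      le_normalizer_map N.subtype ⟨_, h1, rfl⟩
    have e : (r * y : N) = c⁻¹ * ⟨x, hx⟩ := by rw [← hmy, ← hcr]; group
    rw [e] at h2
    exact h2
  by_cases hC : (S : Subgroup N) ⊓ (C' ⊔ D') ≤ D'
  swap
  · refine Or.inr (enlarge (C' ⊔ D') inferInstance le_sup_right ?_ hC)
    exact sup_le le_sup_left (le_sup_of_le_right (le_inf hD'S le_sup_right))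
  set O := pPrimeCore p N
  set X := pPrimePCore p N
  have hOC : O ≤ C' := by
    intro k hk
    show (k : G) ∈ centralizer (D : Set G)
    rw [mem_centralizer_iff]
    intro d hd
    exact congrArg Subtype.val (PCore.commute_of_mem_cores
      (PCore.le_pCore hD'p (show (⟨d, le_normalizer hd⟩ : N) ∈ D' from hd)) hk)
  by_cases hX : (S : Subgroup N) ⊓ X ≤ D'
  swap
  · exact Or.inr (enlarge X inferInstance hD'X
      ((pPrimePCore_le_sup S).trans (sup_le_sup_right hOC _)) hX)
  refine Or.inl ⟨hDP, ?_, ⟨?_, ?_, ?_, ?_, ?_⟩, hQ.2.1⟩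
  · intro c hc
    refine ⟨⟨c, hCN hc⟩, sup_le (PCore.pPrimeCore_le_pPrimePCore) hD'X
      (le_pPrimeCore_sup_of_inf_le S C' D' hcomm
        ((inf_le_inf_left _ le_sup_left).trans hC) (show (⟨c, hCN hc⟩ : N) ∈ C' from hc)), rfl⟩
  · exact map_mono PCore.pPrimeCore_le_pPrimePCore
  · intro d hd
    exact ⟨⟨d, le_normalizer hd⟩, hD'X hd, rfl⟩
  · rintro _ ⟨k, hk, rfl⟩ d hd
    exact (mem_centralizer_iff.mp (hOC hk) d hd).symm
  · rw [eq_bot_iff]
    rintro _ ⟨⟨k, hk, rfl⟩, hd⟩
    have := (disjoint_def.mp PCore.pCore_disjoint_pPrimeCore) (PCore.le_pCore hD'p hd) hk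
    rw [this]
    exact one_mem ⊥
  · have h1 : O ⊔ D' = X := le_antisymm (sup_le PCore.pPrimeCore_le_pPrimePCore hD'X)
      ((pPrimePCore_le_sup S).trans (sup_le_sup_left hX _))
    calc O.map N.subtype ⊔ D = (O ⊔ D').map N.subtype := by
          rw [Subgroup.map_sup, hD', map_subgroupOf_eq_of_le le_normalizer]
      _ = _ := by rw [h1]

/-- **The Alperin–Goldschmidt conjugation theorem**. -/
theorem alperin_goldschmidt (P : Sylow p G) (A : Set G) (g : G) (hA : A ⊆ (P : Set G))
    (hAg : ∀ a ∈ A, g⁻¹ * a * g ∈ P) : FusionChainUpTo (IsGoldschmidt P) A g := by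
  suffices h : ∀ k, ∀ D : Subgroup G, IsTame P D → Nat.card (P : Subgroup G) - Nat.card D = k →
      ∀ x ∈ normalizer (D : Set G), FusionChainUpTo (IsGoldschmidt P) (D : Set G) x from
    FusionChainUpTo.of_chain (fun D hD => h _ D hD rfl) (alperin P A g hA hAg)
  intro k
  induction k using Nat.strong_induction_on with
  | _ k IH =>
  intro D hD hk x hx
  rcases isGoldschmidt_or_enlarge P hD with hgood | ⟨R, hDR, hRP, hR⟩
  · exact ⟨1, one_mem _, by simpa using FusionChain.single hgood subset_rfl hx⟩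
  obtain ⟨c, hc, hy⟩ := hR x hx
  have hch := (alperin P (R : Set G) (c⁻¹ * x) hRP
    (fun a ha => hRP ((mem_normalizer_iff''.mp hy a).mp ha))).strengthen (Nat.card R)
      (Nat.card_coe_set_eq (R : Set G)).le
  have hlt : Nat.card D < Nat.card R := by
    by_contra hle
    exact hDR.ne (eq_of_le_of_card_ge hDR.le (not_lt.mp hle))
  have h1 : FusionChainUpTo (IsGoldschmidt P) (R : Set G) (c⁻¹ * x) := by
    refine FusionChainUpTo.of_chain (fun E hE => IH _ ?_ E hE.1 rfl) hch
    have h2 := card_le_of_le hE.1.le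
    have h3 := hE.2
    omega
  have h4 := (h1.mono (SetLike.coe_subset_coe.mpr hDR.le)).mul_centralizer hc
  simpa [mul_assoc] using h4

/-- `P` itself is in the family. -/
theorem isGoldschmidt_self (P : Sylow p G) : IsGoldschmidt P (P : Subgroup G) := by
  have htame : IsTame P (P : Subgroup G) := by
    refine ⟨P, (inf_idem _).symm, ?_, ?_⟩ <;>
    · rw [inf_relIndex_right]
      exact fun h => P.not_dvd_index (h.trans (relIndex_dvd_index_of_le le_normalizer))
  exact (isGoldschmidt_or_enlarge P htame).resolve_right fun ⟨R, h, h', _⟩ => h.not_ge h'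

omit [Finite G] [Fact p.Prime] in
/-- A chain as explicit sequences. -/
theorem FusionChain.exists_fin_list {C : Subgroup G → Prop} {A : Set G} {g : G}
    (h : FusionChain C A g) :
    ∃ (n : ℕ) (D : Fin n → Subgroup G) (x : Fin n → G), (List.ofFn x).prod = g ∧
      (∀ i, C (D i) ∧ x i ∈ normalizer ((D i : Subgroup G) : Set G)) ∧
      (∀ h : 0 < n, A ⊆ ((D ⟨0, h⟩ : Subgroup G) : Set G)) ∧
      ∀ (i : Fin n) (h : i.val + 1 < n),
        (fun a => (((List.ofFn x).take (i.val + 1)).prod)⁻¹ * a *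
            ((List.ofFn x).take (i.val + 1)).prod) '' A ⊆
          ((D ⟨i.val + 1, h⟩ : Subgroup G) : Set G) := by
  induction h with
  | one A => exact ⟨0, Fin.elim0, Fin.elim0, by simp, fun i => i.elim0,
      fun h => absurd h (lt_irrefl 0), fun i => i.elim0⟩
  | @step A D x h hD hA hx _ ih =>
    obtain ⟨n, E, xs, hprod, hall, hfirst, hnext⟩ := ih
    refine ⟨n + 1, Fin.cons D E, Fin.cons x xs, by simp [hprod], ?_, fun _ => hA, ?_⟩
    · intro i
      induction i using Fin.cases with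
      | zero => exact ⟨hD, hx⟩
      | succ j => simpa using hall j
    · intro i
      induction i using Fin.cases with
      | zero =>
        intro hi
        have hn : 0 < n := by simpa using hi
        rintro _ ⟨a, ha, rfl⟩
        have h2 := hfirst hn ⟨a, ha, rfl⟩
        have e : (Fin.cons D E : Fin (n + 1) → Subgroup G) ⟨((0 : Fin (n + 1)) : ℕ) + 1, hi⟩ =
            E ⟨0, hn⟩ := rfl
        rw [e]
        simpa using h2
      | succ j =>
        intro hi
        have hj : (j : ℕ) + 1 < n := by simpa using hi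
        rintro _ ⟨a, ha, rfl⟩
        have h2 := hnext j hj ⟨x⁻¹ * a * x, ⟨a, ha, rfl⟩, rfl⟩
        have e : (Fin.cons D E : Fin (n + 1) → Subgroup G) ⟨(j.succ : ℕ) + 1, hi⟩ =
            E ⟨(j : ℕ) + 1, hj⟩ := rfl
        rw [e]
        simpa [List.ofFn_succ, mul_assoc] using h2

end Cfsg.Agent.Transfer
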