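import Cfsg.Agent.Lib.Transfer.Yoshida
import Cfsg.Agent.Lib.Transfer.TateRelative
import Cfsg.Prelude.Def_BaumannBlocks

/-!
# The Hall–Wielandt–Yoshida dichotomy

`step_or_control`: for `W` weakly closed in `S ∈ Syl_p(G)` and `N = N_G(W)`, either there is a
Wielandt–Yoshida configuration `Yoshida.Step`, or `O^p(N) = O^p(G) ∩ N` and `S ∩ G' = S ∩ N'`.
-/

set_option autoImplicit false

namespace Cfsg.Agent.Transfer

open Subgroup

variable {G : Type*} [Group G] [Finite G] {p : ℕ}

/-- The subgroup `N' N^p`. -/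
def derivedPow (p : ℕ) (N : Subgroup G) : Subgroup G :=
  ⁅N, N⁆ ⊔ closure {g : G | ∃ x ∈ N, x ^ p = g}

theorem exists_addOn_ne [hp : Fact p.Prime] (N : Subgroup G) {x : G} (hx : x ∈ N)
    (hx' : x ∉ derivedPow p N) : ∃ θ : G → ZMod p, Yoshida.AddOn N θ ∧ θ x ≠ 0 := by
  classical
  have hDN : derivedPow p N ≤ N := sup_le (commutator_le_self N) ((closure_le _).2 (by
    rintro _ ⟨y, hy, rfl⟩; exact pow_mem hy p))
  obtain ⟨L, hL⟩ := Set.Finite.exists_maximal
    (s := {L : Subgroup N | (derivedPow p N).subgroupOf N ≤ L ∧ (⟨x, hx⟩ : N) ∉ L}) (Set.toFinite _)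
    ⟨(derivedPow p N).subgroupOf N, le_rfl, hx'⟩
  obtain ⟨hDL, hxL⟩ := hL.1
  have hcL : _root_.commutator N ≤ L := by
    refine le_trans ?_ hDL
    rw [← map_le_map_iff_of_injective N.subtype_injective, map_subtype_commutator,
      map_subgroupOf_eq_of_le hDN]
    exact le_sup_left
  have hLn : L.Normal := Normal.of_commutator_le N hcL
  have hpw : ∀ g : N ⧸ L, g ^ p = 1 := by
    intro g
    induction g using QuotientGroup.induction_on with
    | H g =>
      rw [← QuotientGroup.mk_pow, QuotientGroup.eq_one_iff]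
      exact hDL (mem_subgroupOf.2 (mem_sup_right (subset_closure ⟨g, g.2, rfl⟩)))
  set xb : N ⧸ L := QuotientGroup.mk (⟨x, hx⟩ : N) with hxb
  have hxb1 : xb ≠ 1 := fun h => hxL ((QuotientGroup.eq_one_iff _).1 h)
  have hgen : ∀ g : N ⧸ L, g ∈ zpowers xb := by
    intro g
    induction g using QuotientGroup.induction_on with
    | H g =>
      by_cases hg : g ∈ L
      · rw [(QuotientGroup.eq_one_iff g).2 hg]; exact one_mem _
      have hxs : (⟨x, hx⟩ : N) ∈ L ⊔ zpowers g := by
        by_contra hc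
        exact hg (hL.le_of_ge ⟨hDL.trans le_sup_left, hc⟩ le_sup_left (mem_sup_right (mem_zpowers g)))
      obtain ⟨l, hl, u, hu, hlu⟩ := mem_sup_of_normal_left.1 hxs
      obtain ⟨i, rfl⟩ := mem_zpowers_iff.1 hu
      have hxi : xb = (QuotientGroup.mk g : N ⧸ L) ^ i := by
        rw [hxb, ← hlu, QuotientGroup.mk_mul, (QuotientGroup.eq_one_iff l).2 hl, one_mul,
          QuotientGroup.mk_zpow]
      have hi : ¬ (p : ℤ) ∣ i := by
        rintro ⟨k, rfl⟩
        apply hxb1
        rw [hxi, zpow_mul, zpow_natCast, hpw, one_zpow]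
      obtain ⟨s, t, hst⟩ := ((Nat.prime_iff_prime_int.1 hp.out).coprime_iff_not_dvd.2 hi)
      refine mem_zpowers_iff.2 ⟨t, ?_⟩
      rw [hxi, ← zpow_mul]
      have hst' : i * t = 1 + (p : ℤ) * (-s) := by linarith
      rw [hst', zpow_add, zpow_one, zpow_mul, zpow_natCast, hpw, one_zpow, mul_one]
  have : IsCyclic (N ⧸ L) := ⟨⟨xb, hgen⟩⟩
  have hcard : Nat.card (N ⧸ L) = p := by
    rw [← orderOf_eq_card_of_forall_mem_zpowers hgen]
    exact orderOf_eq_prime (hpw _) hxb1
  let e : N ⧸ L ≃* Multiplicative (ZMod p) :=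
    ((zmodCyclicMulEquiv (inferInstance : IsCyclic (N ⧸ L))).symm).trans
      (MulEquiv.ofBijective (AddMonoidHom.toMultiplicative
        ((ZMod.ringEquivCongr hcard).toAddEquiv.toAddMonoidHom))
        ((ZMod.ringEquivCongr hcard).bijective))
  refine ⟨fun g => if h : g ∈ N then Multiplicative.toAdd (e (QuotientGroup.mk (⟨g, h⟩ : N))) else 0,
    fun a ha b hb => ?_, ?_⟩
  · simp only []
    rw [dif_pos (mul_mem ha hb), dif_pos ha, dif_pos hb, ← toAdd_mul, ← map_mul, ← QuotientGroup.mk_mul]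
    rfl
  · simp only []
    rw [dif_pos hx]
    intro h
    exact hxb1 (e.injective (Multiplicative.toAdd.injective (h.trans (by rw [map_one]; rfl))))

/-- If no configuration exists then `N_G(W)` controls `p`-transfer. -/
theorem step_or_control [Fact p.Prime] (S : Sylow p G) {W : Subgroup G}
    (hW : Cfsg.IsWeaklyClosed W (S : Subgroup G)) :
    Nonempty (Yoshida.Step (S : Subgroup G) W p) ∨
      (Cfsg.pResidualOf p (normalizer (W : Set G)) = Cfsg.pResidual p G ⊓ normalizer (W : Set G) ∧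
        (S : Subgroup G) ⊓ _root_.commutator G =
          (S : Subgroup G) ⊓ ⁅normalizer (W : Set G), normalizer (W : Set G)⁆) := by
  classical
  set N := normalizer (W : Set G) with hN
  have hSN : (S : Subgroup G) ≤ N := fun s hs =>
    mem_normalizer_of_weaklyClosed hW fun w hw => mul_mem (mul_mem hs (hW.1 hw)) (inv_mem hs)
  by_cases hall : ∀ x ∈ (S : Subgroup G), x ∈ _root_.commutator G → x ∈ derivedPow p N
  swap
  · push Not at hall
    obtain ⟨x, hxS, hxG, hx⟩ := hall
    obtain ⟨θ, hθ, hθx⟩ := exists_addOn_ne N (hSN hxS) hx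
    exact Or.inl (Yoshida.exists_step S hW hθ ⟨x, hxS, hxG, hθx⟩)
  right
  set K := Cfsg.pResidual p G with hK
  have hKn : K.Normal := pResidual_normal p
  set KN := Cfsg.pResidual p N with hKN
  have hKNn : KN.Normal := pResidual_normal p
  have hKNK : KN.map N.subtype ≤ K := map_residual_subtype_le N p
  set Sn : Sylow p N := S.subtype hSN
  set R : Subgroup (S : Subgroup G) := (KN.map N.subtype).subgroupOf (S : Subgroup G) with hR
  have hRn : R.Normal := by
    refine ⟨fun a ha g => ?_⟩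
    obtain ⟨b, hb, hba⟩ := mem_subgroupOf.1 ha
    exact mem_subgroupOf.2 ⟨⟨g, hSN g.2⟩ * b * ⟨g, hSN g.2⟩⁻¹, hKNn.conj_mem b hb _, by
      simp [← hba]⟩
  -- `f : S → N / O^p(N)` is onto
  let f : (S : Subgroup G) →* N ⧸ KN := (QuotientGroup.mk' KN).comp (inclusion hSN)
  have hf : Function.Surjective f := by
    intro a
    induction a using QuotientGroup.induction_on with
    | H a =>
      have h1 : a ∈ (Sn : Subgroup N) ⊔ KN := sylow_sup_pResidual_eq_top (P := Sn) ▸ mem_top a
      obtain ⟨s, hs, k, hk, rfl⟩ := mem_sup_of_normal_right.1 h1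
      refine ⟨⟨s, hs⟩, ?_⟩
      show ((s : N) : N ⧸ KN) = _
      rw [QuotientGroup.eq]
      simpa using hk
  have hfker : ∀ s, f s = 1 → s ∈ R := by
    intro s hs
    exact mem_subgroupOf.2 ⟨inclusion hSN s, (QuotientGroup.eq_one_iff _).1 hs, rfl⟩
  have hDfr : ((derivedPow p N).subgroupOf N).map (QuotientGroup.mk' KN) ≤ (frattini (S : Subgroup G)).map f := by
    rw [PGroup.map_frattini S.2 f hf, map_le_iff_le_comap]
    have hQp : IsPGroup p (N ⧸ KN) := S.2.of_surjective f hf
    intro a ha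
    have ha' : (a : G) ∈ derivedPow p N := mem_subgroupOf.1 ha
    have hle : derivedPow p N ≤
        ((frattini (N ⧸ KN)).comap (QuotientGroup.mk' KN)).map N.subtype := by
      refine sup_le ?_ ((closure_le _).2 ?_)
      · rw [← map_subtype_commutator]
        refine map_mono (map_le_iff_le_comap.1 ?_)
        refine le_trans ?_ (PGroup.commutator_le_frattini hQp)
        rw [commutator_def, map_commutator]
        exact commutator_mono le_top le_top
      · rintro _ ⟨y, hy, rfl⟩
        refine ⟨(⟨y, hy⟩ : N) ^ p, ?_, rfl⟩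
        rw [SetLike.mem_coe, mem_comap, map_pow]
        exact PGroup.pow_mem_frattini hQp _
    obtain ⟨b, hb, hba⟩ := hle ha'
    exact (Subtype.ext hba : b = a) ▸ hb
  have hQG : ∀ x ∈ (S : Subgroup G), x ∈ K → x ∈ _root_.commutator G := by
    intro x hxS hxK
    obtain ⟨j, hj⟩ := S.2 ⟨x, hxS⟩
    have hj' : x ^ p ^ j = 1 := congrArg Subtype.val hj
    obtain ⟨P⟩ := (inferInstance : Nonempty (Sylow p (Abelianization G)))
    set m := (P : Subgroup (Abelianization G)).index with hm
    -- a `p`-element of `O^p(G)` dies in the `p`-part of the abelianization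
    let g : G →* (P : Subgroup (Abelianization G)) :=
      ((powMonoidHom m).comp Abelianization.of).codRestrict _ fun y => pow_index_mem _ _
    have h1 : g x = 1 := pResidual_le_ker g P.2 hxK
    have h2 : Abelianization.of x ^ m = 1 := congrArg Subtype.val h1
    have h3 : Abelianization.of x ^ p ^ j = 1 := by rw [← map_pow, hj', map_one]
    have h4 : orderOf (Abelianization.of x) ∣ Nat.gcd (p ^ j) m :=
      Nat.dvd_gcd (orderOf_dvd_of_pow_eq_one h3) (orderOf_dvd_of_pow_eq_one h2)
    rw [((Fact.out : p.Prime).coprime_iff_not_dvd.2 P.not_dvd_index).pow_left j] at h4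
    rw [← Abelianization.ker_of, MonoidHom.mem_ker]
    exact orderOf_eq_one_iff.1 (Nat.dvd_one.1 h4)
  have hRle : R ≤ K.subgroupOf (S : Subgroup G) := fun a ha => hKNK ha
  have hQ : K.subgroupOf (S : Subgroup G) ≤ R := by
    refine inf_pResidual_le_of_le_sup_frattini S R hRle fun x hx => ?_
    have hxD : (inclusion hSN x) ∈ (derivedPow p N).subgroupOf N :=
      hall x x.2 (hQG x x.2 hx)
    obtain ⟨y, hy, hyx⟩ := hDfr (mem_map_of_mem _ hxD)
    have h1 : x * y⁻¹ ∈ R := hfker _ (by
      rw [map_mul, map_inv, hyx]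
      exact mul_inv_cancel _)
    have := mul_mem_sup h1 hy
    rwa [inv_mul_cancel_right] at this
  refine ⟨le_antisymm (le_inf hKNK (map_subtype_le KN)) ?_, le_antisymm ?_ ?_⟩
  · rintro g ⟨hgK, hgN⟩
    have h1 : (⟨g, hgN⟩ : N) ∈ (Sn : Subgroup N) ⊔ KN :=
      sylow_sup_pResidual_eq_top (P := Sn) ▸ mem_top _
    obtain ⟨s, hs, k, hk, hsk⟩ := mem_sup_of_normal_right.1 h1
    have hsk' : (s : G) * (k : G) = g := congrArg Subtype.val hsk
    have hkK : (k : G) ∈ K := hKNK ⟨k, hk, rfl⟩
    have hsK : (⟨(s : G), hs⟩ : (S : Subgroup G)) ∈ K.subgroupOf (S : Subgroup G) :=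
      mem_subgroupOf.2 ((K.mul_mem_cancel_right hkK).1 (hsk' ▸ hgK))
    rw [← hsk']
    exact mul_mem (mem_subgroupOf.1 (hQ hsK)) ⟨k, hk, rfl⟩
  · rintro x ⟨hxS, hxG⟩
    refine ⟨hxS, ?_⟩
    -- `x ∈ S' (S ∩ O^p(G))`
    let g : (S : Subgroup G) →* G ⧸ K := (QuotientGroup.mk' K).comp (S : Subgroup G).subtype
    have hg : Function.Surjective g := by
      intro a
      induction a using QuotientGroup.induction_on with
      | H a =>
        have h1 : a ∈ (S : Subgroup G) ⊔ K := sylow_sup_pResidual_eq_top (P := S) ▸ mem_top a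
        obtain ⟨s, hs, k, hk, rfl⟩ := mem_sup_of_normal_right.1 h1
        refine ⟨⟨s, hs⟩, ?_⟩
        show ((s : G) : G ⧸ K) = _
        rw [QuotientGroup.eq]
        simpa using hk
    have h1 : g ⟨x, hxS⟩ ∈ (_root_.commutator (S : Subgroup G)).map g := by
      rw [commutator_def, map_commutator, map_top_of_surjective g hg,
        ← map_top_of_surjective _ (QuotientGroup.mk'_surjective K), ← map_commutator, ← commutator_def]
      exact mem_map_of_mem _ hxG
    obtain ⟨y, hy, hyx⟩ := h1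
    have hyN : (y : G) ∈ ⁅N, N⁆ := commutator_mono hSN hSN
      (map_subtype_commutator (S : Subgroup G) ▸ mem_map_of_mem _ hy)
    have h2 : (y⁻¹ * ⟨x, hxS⟩ : (S : Subgroup G)) ∈ K.subgroupOf (S : Subgroup G) :=
      mem_subgroupOf.2 ((QuotientGroup.eq).1 hyx)
    obtain ⟨k, hk, hke⟩ := mem_subgroupOf.1 (hQ h2)
    -- elements of `S ∩ O^p(N)` lie in `N'`
    have hkN : (k : G) ∈ ⁅N, N⁆ := by
      rw [← map_subtype_commutator]
      refine mem_map_of_mem _ ?_
      obtain ⟨j, hj⟩ := S.2 (y⁻¹ * ⟨x, hxS⟩)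
      have hkj : k ^ p ^ j = 1 := Subtype.ext (by
        show (k : G) ^ p ^ j = 1
        rw [show (k : G) = ((y⁻¹ * ⟨x, hxS⟩ : (S : Subgroup G)) : G) from hke]
        exact congrArg Subtype.val hj)
      obtain ⟨P⟩ := (inferInstance : Nonempty (Sylow p (Abelianization N)))
      let g' : N →* (P : Subgroup (Abelianization N)) :=
        ((powMonoidHom (P : Subgroup (Abelianization N)).index).comp Abelianization.of).codRestrict _
          fun y => pow_index_mem _ _
      have h3 : g' k = 1 := pResidual_le_ker g' P.2 hk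
      have h4 : Abelianization.of k ^ (P : Subgroup (Abelianization N)).index = 1 := congrArg Subtype.val h3
      have h5 : orderOf (Abelianization.of k) ∣ Nat.gcd (p ^ j) (P : Subgroup (Abelianization N)).index :=
        Nat.dvd_gcd (orderOf_dvd_of_pow_eq_one (by rw [← map_pow, hkj, map_one]))
          (orderOf_dvd_of_pow_eq_one h4)
      rw [((Fact.out : p.Prime).coprime_iff_not_dvd.2 P.not_dvd_index).pow_left j] at h5
      rw [← Abelianization.ker_of, MonoidHom.mem_ker]
      exact orderOf_eq_one_iff.1 (Nat.dvd_one.1 h5)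
    have hx : x = (y : G) * (k : G) := by
      rw [show (k : G) = ((y⁻¹ * ⟨x, hxS⟩ : (S : Subgroup G)) : G) from hke]
      simp
    exact hx ▸ mul_mem hyN hkN
  · exact inf_le_inf_left _ (commutator_mono le_top le_top)

end Cfsg.Agent.Transfer
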