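import Cfsg.Agent.Lib.Transfer.Fusion
import Mathlib.GroupTheory.IndexNormal

/-!
# The Thompson transfer lemma

* `exists_hom_ne_one_of_conj`: general form for a `p`-element `u` of a Sylow subgroup `P` and a
  homomorphism `φ` from `P` to an abelian group.
* `exists_index_two_of_involution`: the classical form.
* `exists_conj_mem_of_pResidual_eq_top`: if `O²(G) = G` every involution is fused into every
  subgroup of index 2 of a Sylow 2-subgroup.
-/

set_option linter.style.haveILetI false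

namespace Cfsg.Agent.Transfer

variable {G : Type*} [Group G] [Finite G] {p : ℕ} [Fact p.Prime]

/-- Transfer evaluated at an element all whose conjugates in `P` have the same image, its proper
`p`-power conjugates in `P` having trivial image. -/
theorem exists_hom_ne_one_of_conj {A : Type*} [CommGroup A] (P : Sylow p G)
    (φ : (P : Subgroup G) →* A) (u : G) (hu : u ∈ (P : Subgroup G))
    (hne : φ ⟨u, hu⟩ ≠ 1)
    (hconj : ∀ (g : G) (h : g⁻¹ * u * g ∈ (P : Subgroup G)), φ ⟨_, h⟩ = φ ⟨u, hu⟩)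
    (hpow : ∀ (g : G) (i : ℕ), 0 < i → ∀ h : g⁻¹ * u ^ p ^ i * g ∈ (P : Subgroup G), φ ⟨_, h⟩ = 1) :
    ∃ f : G →* A, f u ≠ 1 := by
  classical
  refine ⟨MonoidHom.transfer φ, ?_⟩
  haveI : Fintype (Quotient (MulAction.orbitRel (Subgroup.zpowers u) (G ⧸ (P : Subgroup G)))) := Fintype.ofFinite _
  rw [MonoidHom.transfer_eq_prod_quotient_orbitRel_zpowers_quot]
  obtain ⟨k, hk⟩ : ∃ k, orderOf u = p ^ k := by
    obtain ⟨k, hk⟩ := P.2.exists_card_eq
    obtain ⟨i, -, hi⟩ := (Nat.dvd_prime_pow Fact.out).mp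
      (hk ▸ Subgroup.orderOf_dvd_natCard (P : Subgroup G) hu)
    exact ⟨i, hi⟩
  -- every orbit length is a power of `p`
  have hper : ∀ q : Quotient (MulAction.orbitRel (Subgroup.zpowers u) (G ⧸ (P : Subgroup G))),
      ∃ i, Function.minimalPeriod (u • ·) q.out = p ^ i := by
    intro q
    have h1 : Function.IsPeriodicPt (u • · : G ⧸ (P : Subgroup G) → G ⧸ (P : Subgroup G)) (orderOf u) q.out := by
      rw [Function.IsPeriodicPt, Function.IsFixedPt, smul_iterate_apply, pow_orderOf_eq_one, one_smul]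
    obtain ⟨i, -, hi⟩ := (Nat.dvd_prime_pow Fact.out).mp (hk ▸ h1.minimalPeriod_dvd)
    exact ⟨i, hi⟩
  have hval : ∀ q : Quotient (MulAction.orbitRel (Subgroup.zpowers u) (G ⧸ (P : Subgroup G))),
      φ ⟨q.out.out⁻¹ * u ^ Function.minimalPeriod (u • ·) q.out * q.out.out,
        QuotientGroup.out_conj_pow_minimalPeriod_mem (P : Subgroup G) u q.out⟩ =
      φ ⟨u, hu⟩ ^ (if Function.minimalPeriod (u • ·) q.out = 1 then 1 else 0) := by
    intro q
    have hmem := QuotientGroup.out_conj_pow_minimalPeriod_mem (P : Subgroup G) u q.out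
    obtain ⟨i, hi⟩ := hper q
    split_ifs with h1
    · simp only [h1, pow_one] at hmem ⊢
      exact hconj _ hmem
    · have hi0 : 0 < i := by
        rcases Nat.eq_zero_or_pos i with rfl | h
        · exact absurd (by simpa using hi) h1
        · exact h
      simp only [hi, pow_zero] at hmem ⊢
      exact hpow _ i hi0 hmem
  rw [Finset.prod_congr rfl fun q _ => hval q, Finset.prod_pow_eq_pow_sum]
  set N := ∑ q : Quotient (MulAction.orbitRel (Subgroup.zpowers u) (G ⧸ (P : Subgroup G))),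
    (if Function.minimalPeriod (u • ·) q.out = 1 then 1 else 0) with hN
  -- the number of fixed cosets is prime to `p`
  have hNp : ¬ p ∣ N := by
    intro hd
    apply P.not_dvd_index
    show p ∣ (P : Subgroup G).index
    rw [Subgroup.index_eq_sum_minimalPeriod (P : Subgroup G) u]
    have hsplit : ∑ q : Quotient (MulAction.orbitRel (Subgroup.zpowers u) (G ⧸ (P : Subgroup G))),
        Function.minimalPeriod (u • ·) q.out = N +
        ∑ q : Quotient (MulAction.orbitRel (Subgroup.zpowers u) (G ⧸ (P : Subgroup G))),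
          (if Function.minimalPeriod (u • ·) q.out = 1 then 0
            else Function.minimalPeriod (u • ·) q.out) := by
      rw [hN, ← Finset.sum_add_distrib]
      refine Finset.sum_congr rfl fun q _ => ?_
      split_ifs with h <;> simp [h]
    rw [hsplit]
    refine dvd_add hd (Finset.dvd_sum fun q _ => ?_)
    split_ifs with h
    · exact dvd_zero p
    · obtain ⟨i, hi⟩ := hper q
      rw [hi] at h ⊢
      exact dvd_pow_self p fun h0 => h (by rw [h0, pow_zero])
  intro h1
  have h2 : φ ⟨u, hu⟩ ^ p ^ k = 1 := by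
    rw [← map_pow, ← φ.map_one]
    congr 1
    apply Subtype.ext
    rw [SubmonoidClass.coe_pow, OneMemClass.coe_one, ← hk, pow_orderOf_eq_one]
  refine hne (orderOf_eq_one_iff.mp (Nat.eq_one_of_dvd_coprimes ?_
    (orderOf_dvd_of_pow_eq_one h2) (orderOf_dvd_of_pow_eq_one h1)))
  exact (((Nat.Prime.coprime_iff_not_dvd Fact.out).mpr hNp).pow_left k)

/-- **Thompson transfer lemma**, for an element of a Sylow `2`-subgroup. -/
theorem exists_index_two_of_conj (P : Sylow 2 G) (Q : Subgroup G)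
    (hQP : Q ≤ (P : Subgroup G)) (hQi : Q.relIndex (P : Subgroup G) = 2) (u : G)
    (huP : u ∈ (P : Subgroup G)) (huQ : u ∉ Q)
    (hconj : ∀ g : G, g⁻¹ * u * g ∉ Q)
    (hpow : ∀ (g : G) (i : ℕ), 0 < i → g⁻¹ * u ^ 2 ^ i * g ∈ (P : Subgroup G) →
      g⁻¹ * u ^ 2 ^ i * g ∈ Q) :
    ∃ M : Subgroup G, M.Normal ∧ M.index = 2 ∧ u ∉ M := by
  set Q' := Q.subgroupOf (P : Subgroup G) with hQ'
  haveI hQn : Q'.Normal := Subgroup.normal_of_index_eq_two hQi
  have hcard : Nat.card ((P : Subgroup G) ⧸ Q') = 2 := hQi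
  haveI : IsMulCommutative ((P : Subgroup G) ⧸ Q') := by
    haveI := Fact.mk Nat.prime_two
    haveI := isCyclic_of_prime_card hcard
    exact ⟨⟨fun a b => by
      obtain ⟨g, hg⟩ := IsCyclic.exists_generator (α := (P : Subgroup G) ⧸ Q')
      obtain ⟨i, rfl⟩ := Subgroup.mem_zpowers_iff.mp (hg a)
      obtain ⟨j, rfl⟩ := Subgroup.mem_zpowers_iff.mp (hg b)
      exact ((Commute.refl g).zpow_zpow i j)⟩⟩
  open scoped IsMulCommutative in
  obtain ⟨f, hf⟩ := exists_hom_ne_one_of_conj (A := (P : Subgroup G) ⧸ Q') P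
    (QuotientGroup.mk' Q') u huP
    (fun h => huQ (Subgroup.mem_subgroupOf.mp ((QuotientGroup.eq_one_iff (N := Q') _).mp h)))
    (fun g h => by
      refine QuotientGroup.eq.mpr ?_
      show (g⁻¹ * u * g)⁻¹ * u ∈ Q
      have h1 : (⟨_, h⟩ : (P : Subgroup G))⁻¹ * ⟨u, huP⟩ ∈ Q' := by
        rw [Subgroup.mul_mem_iff_of_index_two hQi, inv_mem_iff]
        exact iff_of_false (hconj g) huQ
      exact h1)
    (fun g i hi h => (QuotientGroup.eq_one_iff (N := Q') _).mpr
      (Subgroup.mem_subgroupOf.mpr (hpow g i hi h)))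
  refine ⟨f.ker, inferInstance, ?_, fun h => hf h⟩
  rw [Subgroup.index_ker]
  have h1 : Nat.card f.range ∣ 2 := (Subgroup.card_subgroup_dvd_card _).trans hcard.dvd
  refine (Nat.prime_two.eq_one_or_self_of_dvd _ h1).resolve_left fun h2 => hf ?_
  rw [Subgroup.card_eq_one] at h2
  exact Subgroup.mem_bot.mp (h2.le (⟨u, rfl⟩ : f u ∈ f.range))

/-- **Thompson transfer lemma**, for an involution. -/
theorem exists_index_two_of_involution (P : Sylow 2 G) (Q : Subgroup G)
    (hQP : Q ≤ (P : Subgroup G)) (hQi : Q.relIndex (P : Subgroup G) = 2) (u : G)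
    (hu : u ^ 2 = 1) (huP : u ∈ (P : Subgroup G)) (huQ : u ∉ Q)
    (hconj : ∀ g : G, g * u * g⁻¹ ∉ Q) :
    ∃ M : Subgroup G, M.Normal ∧ M.index = 2 ∧ u ∉ M := by
  refine exists_index_two_of_conj P Q hQP hQi u huP huQ
    (fun g => by simpa using hconj g⁻¹) fun g i hi _ => ?_
  have : u ^ 2 ^ i = 1 := by
    obtain ⟨c, hc⟩ := dvd_pow_self 2 hi.ne'
    rw [hc, pow_mul, hu, one_pow]
  simp [this]

/-- If `O²(G) = G`, every involution of `P` is conjugate into each subgroup of index 2 of `P`. -/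
theorem exists_conj_mem_of_pResidual_eq_top (P : Sylow 2 G) (Q : Subgroup G)
    (hQP : Q ≤ (P : Subgroup G)) (hQi : Q.relIndex (P : Subgroup G) = 2)
    (hO : Cfsg.pResidual 2 G = ⊤) (u : G) (hu : u ^ 2 = 1) (huP : u ∈ (P : Subgroup G)) :
    ∃ g : G, g * u * g⁻¹ ∈ Q := by
  by_contra h
  simp only [not_exists] at h
  by_cases huQ : u ∈ Q
  · exact h 1 (by simpa using huQ)
  obtain ⟨M, hM, hidx, -⟩ := exists_index_two_of_involution P Q hQP hQi u hu huP huQ h
  haveI := hM
  have := pResidual_le_of_isPGroup_quotient (p := 2) M (IsPGroup.of_card (n := 1) (by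
    rw [← Subgroup.index_eq_card, hidx, pow_one]))
  rw [hO, top_le_iff] at this
  rw [this, Subgroup.index_top] at hidx
  omega

end Cfsg.Agent.Transfer
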