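import Cfsg.Prelude.Def_Transfer
import Mathlib.GroupTheory.Transfer
import Mathlib.GroupTheory.PGroup
import Mathlib.GroupTheory.Sylow

/-!
An orbit-counting criterion for `N_G(P) ≤ C_G(P)`, P an abelian Sylow p-subgroup.
-/

namespace Cfsg.Agent.Transfer

open Subgroup

variable {G : Type*} [Group G] [Finite G] {p : ℕ} [Fact p.Prime]

/-- An abelian Sylow p-subgroup of order p^k is central in its normalizer unless some other prime
divisor of the group order divides some p^k - p^j. -/
theorem normalizer_le_centralizer_of_primes (P : Sylow p G) [IsMulCommutative P] (k : ℕ)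
    (hk : Nat.card P = p ^ k)
    (h : ∀ q : ℕ, q.Prime → q ≠ p → q ∣ Nat.card G → ∀ j < k, ¬ q ∣ p ^ k - p ^ j) :
    normalizer (P : Set G) ≤ centralizer (P : Set G) := by
  set f := (P : Subgroup G).normalizerMonoidHom with hf
  suffices hr : Nat.card f.range = 1 by
    intro x hx
    have hbot : f.range = ⊥ := Subgroup.card_eq_one.1 hr
    have h1 : f ⟨x, hx⟩ = 1 := Subgroup.mem_bot.1 (hbot ▸ ⟨⟨x, hx⟩, rfl⟩)
    have h2 : (⟨x, hx⟩ : normalizer ((P : Subgroup G) : Set G)) ∈ f.ker := h1
    rw [hf, normalizerMonoidHom_ker] at h2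
    exact h2
  by_contra hne
  obtain ⟨q, hq, hqd⟩ := Nat.exists_prime_and_dvd hne
  have hrange : Nat.card f.range = f.ker.index := (Subgroup.index_ker f).symm
  have hdiv : Nat.card f.range ∣ Nat.card G :=
    (Subgroup.card_range_dvd f).trans (card_subgroup_dvd_card _)
  have hPker : (P : Subgroup G).subgroupOf (normalizer ((P : Subgroup G) : Set G)) ≤ f.ker := by
    rw [hf, normalizerMonoidHom_ker]
    exact fun x hx => le_centralizer (P : Subgroup G) hx
  have hqp : q ≠ p := by
    rintro rfl
    have h1 : f.ker.index ∣ (P : Subgroup G).index :=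
      ((index_dvd_of_le hPker)).trans (relIndex_dvd_index_of_le le_normalizer)
    exact P.not_dvd_index ((hrange ▸ hqd).trans h1)
  haveI := Fact.mk hq
  obtain ⟨a, ha⟩ := exists_prime_orderOf_dvd_card' q hqd
  let A : Subgroup (MulAut P) := zpowers (a : MulAut P)
  have hA : IsPGroup q A := IsPGroup.of_card (n := 1) (by rw [pow_one, Nat.card_zpowers, Subgroup.orderOf_coe, ha])
  let F : Subgroup P := (a : MulAut P).toMonoidHom.eqLocus (MonoidHom.id P)
  have hfix : Nat.card (MulAction.fixedPoints A (P : Subgroup G)) = Nat.card F := by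
    apply Nat.card_congr (Equiv.setCongr ?_)
    ext x
    constructor
    · intro hx
      exact hx ⟨(a : MulAut P), mem_zpowers _⟩
    · intro hx b
      have hb : b.1 ∈ MulAction.stabilizer (MulAut P) x :=
        (zpowers_le.2 (show (a : MulAut P) ∈ MulAction.stabilizer (MulAut P) x from hx)) b.2
      exact hb
  have hmod := hA.card_modEq_card_fixedPoints (P : Subgroup G)
  rw [hfix] at hmod
  obtain ⟨j, hjk, hj⟩ := (Nat.dvd_prime_pow (Fact.out : p.Prime)).1 (hk ▸ F.card_subgroup_dvd_card)
  have hlt : j < k := by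
    rcases hjk.lt_or_eq with h' | h'
    · exact h'
    · exfalso
      have hFtop : F = ⊤ := Subgroup.eq_top_of_card_eq F (by rw [hj, h', hk])
      have h3 : (a : MulAut P) = 1 := by
        ext x
        exact congrArg Subtype.val ((hFtop ▸ Subgroup.mem_top x : x ∈ F) : (a : MulAut P) x = x)
      rw [← Subgroup.orderOf_coe, h3, orderOf_one] at ha
      exact hq.one_lt.ne ha
  apply h q hq hqp (hqd.trans hdiv) j hlt
  rw [hj] at hmod
  exact (Nat.modEq_iff_dvd' (Nat.pow_le_pow_right (Fact.out : p.Prime).pos hjk)).1 (hk ▸ hmod.symm)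

/-- The criterion yields a normal p-complement. -/
theorem hasNormalPComplement_of_primes (P : Sylow p G) [IsMulCommutative P] (k : ℕ)
    (hk : Nat.card P = p ^ k)
    (h : ∀ q : ℕ, q.Prime → q ≠ p → q ∣ Nat.card G → ∀ j < k, ¬ q ∣ p ^ k - p ^ j) :
    Cfsg.HasNormalPComplement p G :=
  ⟨P, _, MonoidHom.normal_ker _,
    MonoidHom.ker_transferSylow_isComplement' P (normalizer_le_centralizer_of_primes P k hk h)⟩

end Cfsg.Agent.Transfer
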