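import Cfsg.Agent.Lib.Transfer.Residual
import Cfsg.Agent.Lib.PGroup.Basic
import Mathlib.GroupTheory.Frattini

/-!
# Tate's normal `p`-complement theorem

* `hasNormalPComplement_of_inf_pResidual_le_frattini`: if `P ∩ O^p(G) ≤ Φ(P)` then `G` has a normal
  `p`-complement.
* `hasNormalPComplement_normal_of_le_frattini`: if `N ◁ G` and `N ∩ P ≤ Φ(P)` then `N` has a normal
  `p`-complement.
-/

set_option linter.style.haveILetI false

namespace Cfsg.Agent.Transfer

variable {G : Type*} [Group G] [Finite G] {p : ℕ} [Fact p.Prime]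

/-- The core of the proof of Tate's theorem: no proper central extension of `P/(P ∩ O^p(G))` by a
group of order `p` arises as a quotient of `P` with the kernel in the Frattini subgroup. -/
private theorem tate_core (P : Sylow p G) (R Q : Subgroup (P : Subgroup G)) [R.Normal]
    (hQ : Q = (Cfsg.pResidual p G).subgroupOf (P : Subgroup G)) (hRQ : R ≤ Q)
    (hcard : Nat.card Q = Nat.card R * p) : ¬ Q ≤ frattini (P : Subgroup G) := by
  intro hfr
  haveI := pResidual_normal (G := G) p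
  haveI hQn : Q.Normal := by rw [hQ]; infer_instance
  set K := Cfsg.pResidual p G with hK
  let θ : (P : Subgroup G) →* G ⧸ K := (QuotientGroup.mk' K).comp (P : Subgroup G).subtype
  have hθ : θ.ker = Q := by
    rw [hQ, ← MonoidHom.comap_ker, QuotientGroup.ker_mk']
    rfl
  let θ' : (P : Subgroup G) ⧸ R →* G ⧸ K := QuotientGroup.lift R θ (hθ.symm ▸ hRQ)
  set Z := θ'.ker with hZ
  have hEp : IsPGroup p ((P : Subgroup G) ⧸ R) := P.2.to_quotient R
  have hZmap : Z = Q.map (QuotientGroup.mk' R) := by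
    rw [hZ, ← hθ]
    exact QuotientGroup.ker_lift _ _ _
  have hZcard : Nat.card Z = p := by
    have h1 := Nat.card_congr
      (QuotientGroup.quotientKerEquivRange ((QuotientGroup.mk' R).domRestrict Q)).toEquiv
    rw [MonoidHom.domRestrict_range, ← hZmap, MonoidHom.ker_domRestrict, QuotientGroup.ker_mk'] at h1
    have h2 := Subgroup.card_eq_card_quotient_mul_card_subgroup (R.subgroupOf Q)
    rw [Nat.card_congr (Subgroup.subgroupOfEquivOfLe hRQ).toEquiv, h1, hcard, mul_comm (Nat.card Z)] at h2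
    exact (mul_left_cancel₀ Nat.card_pos.ne' h2).symm
  have hZc : Z ≤ Subgroup.center _ := PGroup.le_center_of_card_eq hEp Z hZcard
  haveI hZcomm : IsMulCommutative Z := ⟨⟨fun a b =>
    Subtype.ext (Subgroup.mem_center_iff.mp (hZc b.2) a)⟩⟩
  -- the fibre product
  let Gh : Subgroup (G × ((P : Subgroup G) ⧸ R)) :=
    ((QuotientGroup.mk' K).comp (MonoidHom.fst _ _)).eqLocus (θ'.comp (MonoidHom.snd _ _))
  let π : Gh →* G := (MonoidHom.fst _ _).comp Gh.subtype
  let τ : Gh →* (P : Subgroup G) ⧸ R := (MonoidHom.snd _ _).comp Gh.subtype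
  have hπ : Function.Surjective π := by
    intro g
    have hg : g ∈ (P : Subgroup G) ⊔ K := (sylow_sup_pResidual_eq_top P).symm ▸ Subgroup.mem_top g
    obtain ⟨u, hu, k, hk, rfl⟩ := Subgroup.mem_sup_of_normal_right.mp hg
    refine ⟨⟨(u * k, QuotientGroup.mk ⟨u, hu⟩), ?_⟩, rfl⟩
    show ((u * k : G) : G ⧸ K) = ((u : G) : G ⧸ K)
    rw [QuotientGroup.eq]
    simpa using inv_mem hk
  let Ph : Subgroup Gh := (P : Subgroup G).comap π
  -- `φ (u, e) = ū⁻¹ e ∈ Z`
  have hφmem : ∀ x : Ph, (QuotientGroup.mk (⟨π x, x.2⟩ : (P : Subgroup G)) : _ ⧸ R)⁻¹ * τ x ∈ Z := by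
    intro x
    rw [hZ, MonoidHom.mem_ker, map_mul, map_inv, inv_mul_eq_one]
    exact (x.1.2 : ((π x.1 : G) : G ⧸ K) = θ' (τ x.1))
  let φ : Ph →* Z := MonoidHom.mk'
    (fun x => ⟨_, hφmem x⟩) (fun x y => by
      apply Subtype.ext
      show (QuotientGroup.mk (⟨π (x * y : Ph), (x * y).2⟩ : (P : Subgroup G)) : _ ⧸ R)⁻¹ * τ (x * y : Ph) =
        ((QuotientGroup.mk (⟨π x, x.2⟩ : (P : Subgroup G)) : _ ⧸ R)⁻¹ * τ x) *
          ((QuotientGroup.mk (⟨π y, y.2⟩ : (P : Subgroup G)) : _ ⧸ R)⁻¹ * τ y)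
      have e : (⟨π (x * y : Ph), (x * y).2⟩ : (P : Subgroup G)) =
          (⟨π x, x.2⟩ : (P : Subgroup G)) * ⟨π y, y.2⟩ := Subtype.ext (map_mul π x.1 y.1)
      rw [e, QuotientGroup.mk_mul, mul_inv_rev, Subgroup.coe_mul, map_mul]
      have hc := fun g => Subgroup.mem_center_iff.mp (hZc (hφmem x)) g
      set a : (P : Subgroup G) ⧸ R := QuotientGroup.mk (⟨π x, x.2⟩ : (P : Subgroup G))
      set b : (P : Subgroup G) ⧸ R := QuotientGroup.mk (⟨π y, y.2⟩ : (P : Subgroup G))
      calc b⁻¹ * a⁻¹ * (τ x * τ y) = (b⁻¹ * (a⁻¹ * τ x)) * τ y := by group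
        _ = ((a⁻¹ * τ x) * b⁻¹) * τ y := by rw [hc b⁻¹]
        _ = a⁻¹ * τ x * (b⁻¹ * τ y) := by group)
  open scoped IsMulCommutative in
  let V : Gh →* Z := MonoidHom.transfer φ
  have hidx : Nat.Coprime Ph.index p := by
    rw [Subgroup.index_comap_of_surjective _ hπ]
    exact ((Nat.Prime.coprime_iff_not_dvd Fact.out).mpr P.not_dvd_index).symm
  -- `V` is non-trivial on the central copy of `Z`
  have hVz : ∀ z : Gh, π z = 1 → V z = 1 → z = 1 := by
    intro z hz hVz
    have hzτ : τ z ∈ Z := by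
      rw [hZ, MonoidHom.mem_ker]
      have h1 : ((π z : G) : G ⧸ K) = θ' (τ z) := z.2
      rw [hz, QuotientGroup.mk_one] at h1
      exact h1.symm
    have hcent : ∀ g : Gh, g * z = z * g := fun g => by
      apply Subtype.ext
      refine Prod.ext ?_ (Subgroup.mem_center_iff.mp (hZc hzτ) (τ g))
      show π g * π z = π z * π g
      rw [hz, mul_one, one_mul]
    have key : ∀ (k : ℕ) (g₀ : Gh), g₀⁻¹ * z ^ k * g₀ ∈ Ph → g₀⁻¹ * z ^ k * g₀ = z ^ k := by
      intro k g₀ _
      rw [mul_assoc, ← (Commute.pow_right (hcent g₀ : Commute g₀ z) k).eq, ← mul_assoc,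
        inv_mul_cancel, one_mul]
    open scoped IsMulCommutative in
    have h2 := (MonoidHom.transfer_eq_pow φ z key).symm.trans hVz
    have h3 : τ z ^ Ph.index = 1 := by
      have h4 := congrArg Subtype.val h2
      simp only [φ, MonoidHom.mk'_apply, map_pow, OneMemClass.coe_one] at h4
      have e : (⟨π z ^ Ph.index, by rw [hz, one_pow]; exact one_mem _⟩ : (P : Subgroup G)) = 1 :=
        Subtype.ext (by show π z ^ Ph.index = 1; rw [hz, one_pow])
      rw [e, QuotientGroup.mk_one, inv_one, one_mul] at h4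
      exact h4
    have h5 : τ z = 1 := by
      rw [← orderOf_eq_one_iff]
      exact Nat.eq_one_of_dvd_coprimes hidx (orderOf_dvd_of_pow_eq_one h3)
        ((Subgroup.orderOf_dvd_natCard Z hzτ).trans hZcard.dvd)
    exact Subtype.ext (Prod.ext hz h5)
  -- `O^p(Gh)` lies in the kernel
  have hres : Cfsg.pResidual p Gh ≤ V.ker :=
    pResidual_le_ker V (IsPGroup.of_card (n := 1) (by rw [hZcard, pow_one]))
  have hresτ : ∀ y ∈ Cfsg.pResidual p Gh, τ y = 1 := by
    intro y hy
    have h1 := pResidual_le_ker (MonoidHom.id ((P : Subgroup G) ⧸ R)) hEp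
      (map_residual_le τ p ⟨y, hy, rfl⟩)
    exact h1
  -- the splitting on `P`
  set W := Ph ⊓ V.ker
  have hWinj : Function.Injective (π.domRestrict W) := by
    rw [← MonoidHom.ker_eq_bot_iff, eq_bot_iff]
    intro x hx
    exact Subtype.ext (hVz x hx x.2.2)
  have hWker : ∀ x : W, π x ∈ K → τ x = 1 := by
    intro x hx
    have hk' : π (x : Gh) ∈ (Cfsg.pResidual p Gh).map π := by
      rw [map_pResidual_of_surjective π hπ]
      exact hx
    obtain ⟨y, hy, hyx⟩ := hk'
    have h1 : (x : Gh) * y⁻¹ = 1 := by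
      refine hVz _ (by rw [map_mul, map_inv, hyx, mul_inv_cancel]) ?_
      rw [map_mul, map_inv, x.2.2, hres hy, inv_one, mul_one]
    rw [mul_inv_eq_one.mp h1]
    exact hresτ y hy
  -- the image of `W` is everything
  have himg : W.map τ = ⊤ := by
    have hsup : W.map τ ⊔ Z = ⊤ := by
      rw [eq_top_iff]
      intro e _
      obtain ⟨u, rfl⟩ := QuotientGroup.mk_surjective e
      let x : Gh := ⟨((u : G), QuotientGroup.mk u), rfl⟩
      open scoped IsMulCommutative in
      obtain ⟨w, hw⟩ : ∃ w : Z, w ^ Ph.index = V x :=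
        (powCoprime (by rw [hZcard]; exact hidx.symm : Nat.Coprime (Nat.card Z) Ph.index)).surjective (V x)
      let zz : Gh := ⟨(1, (w : (P : Subgroup G) ⧸ R)), by
        show ((1 : G) : G ⧸ K) = θ' w
        rw [QuotientGroup.mk_one]
        exact w.2.symm⟩
      have hVzz : V zz = w ^ Ph.index := by
        have hcent : ∀ g : Gh, g * zz = zz * g := fun g => by
          apply Subtype.ext
          refine Prod.ext ?_ (Subgroup.mem_center_iff.mp (hZc w.2) (τ g))
          show π g * 1 = 1 * π g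
          rw [mul_one, one_mul]
        have key : ∀ (k : ℕ) (g₀ : Gh), g₀⁻¹ * zz ^ k * g₀ ∈ Ph → g₀⁻¹ * zz ^ k * g₀ = zz ^ k := by
          intro k g₀ _
          rw [mul_assoc, ← (Commute.pow_right (hcent g₀ : Commute g₀ zz) k).eq, ← mul_assoc,
            inv_mul_cancel, one_mul]
        open scoped IsMulCommutative in
        refine (MonoidHom.transfer_eq_pow φ zz key).trans (Subtype.ext ?_)
        simp only [φ, MonoidHom.mk'_apply, map_pow, SubmonoidClass.coe_pow]
        have e : (⟨π zz ^ Ph.index, by rw [show π zz = 1 from rfl, one_pow]; exact one_mem _⟩ :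
            (P : Subgroup G)) = 1 := Subtype.ext (by show π zz ^ Ph.index = 1; exact one_pow _)
        rw [e, QuotientGroup.mk_one, inv_one, one_mul]
        rfl
      have hxW : x * zz⁻¹ ∈ W := by
        refine ⟨?_, ?_⟩
        · show (u : G) * 1⁻¹ ∈ (P : Subgroup G)
          simp
        · show V (x * zz⁻¹) = 1
          rw [map_mul, map_inv, hVzz, hw, mul_inv_cancel]
      have h1 := Subgroup.mul_mem_sup (show τ (x * zz⁻¹) ∈ W.map τ from ⟨_, hxW, rfl⟩) w.2
      have e : τ (x * zz⁻¹) * (w : (P : Subgroup G) ⧸ R) = QuotientGroup.mk u := by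
        show QuotientGroup.mk u * (w : (P : Subgroup G) ⧸ R)⁻¹ * (w : (P : Subgroup G) ⧸ R) = _
        rw [inv_mul_cancel_right]
      exact e ▸ h1
    refine frattini_nongenerating (eq_top_iff.mpr (hsup.ge.trans (sup_le_sup_left ?_ _)))
    rw [hZmap, Subgroup.map_le_iff_le_comap]
    exact hfr.trans (frattini_le_comap_frattini_of_surjective (QuotientGroup.mk'_surjective R))
  -- count
  let f : W →* (P : Subgroup G) ⧸ R := τ.domRestrict W
  let g : W →* G ⧸ K := (QuotientGroup.mk' K).comp (π.domRestrict W)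
  have hfsurj : Function.Surjective f := by
    intro e
    obtain ⟨y, hy, hye⟩ := himg.ge (Subgroup.mem_top e)
    exact ⟨⟨y, hy⟩, hye⟩
  have hker : g.ker ≤ f.ker := fun x hx => hWker x ((QuotientGroup.eq_one_iff _).mp hx)
  have hle : Nat.card ((P : Subgroup G) ⧸ R) ≤ Nat.card θ'.range := by
    calc Nat.card ((P : Subgroup G) ⧸ R) = f.ker.index := by
          rw [Subgroup.index_ker, MonoidHom.range_eq_top.mpr hfsurj, Subgroup.card_top]
      _ ≤ g.ker.index := Nat.le_of_dvd (Nat.pos_of_ne_zero Subgroup.FiniteIndex.index_ne_zero)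
          (Subgroup.index_dvd_of_le hker)
      _ = Nat.card g.range := Subgroup.index_ker g
      _ ≤ Nat.card θ'.range := by
          refine Subgroup.card_le_of_le ?_
          rintro _ ⟨x, rfl⟩
          exact ⟨τ x, (x.1.2 : ((π x.1 : G) : G ⧸ K) = θ' (τ x.1)).symm⟩
  have h1 := Subgroup.card_mul_index Z
  rw [hZ, Subgroup.index_ker, ← hZ, hZcard] at h1
  have h2 : 1 < p := (Fact.out : p.Prime).one_lt
  have h3 : 0 < Nat.card θ'.range := Nat.card_pos
  nlinarith

/-- **Tate's theorem** in the Frattini form. -/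
theorem hasNormalPComplement_of_inf_pResidual_le_frattini (P : Sylow p G)
    (h : (P : Subgroup G) ⊓ Cfsg.pResidual p G ≤
      (frattini (P : Subgroup G)).map (P : Subgroup G).subtype) :
    Cfsg.HasNormalPComplement p G := by
  rw [hasNormalPComplement_iff_inf_eq_bot P]
  by_contra hne
  haveI := pResidual_normal (G := G) p
  set Q := (Cfsg.pResidual p G).subgroupOf (P : Subgroup G) with hQ
  obtain ⟨j, hj⟩ := PGroup.card_eq_pow P.2 Q
  have hj0 : j ≠ 0 := by
    rintro rfl
    rw [pow_zero, Subgroup.card_eq_one, hQ, Subgroup.subgroupOf_eq_bot] at hj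
    exact hne (inf_comm (Cfsg.pResidual p G) _ ▸ disjoint_iff.mp hj)
  obtain ⟨R, hRn, -, hRQ, hRc⟩ := PGroup.exists_normal_card_between P.2 ⊥ Q bot_le (j - 1)
    (by simp [Nat.one_le_pow, (Fact.out : p.Prime).pos]) (hj ▸ Nat.pow_le_pow_right (Fact.out : p.Prime).pos (Nat.sub_le j 1))
  haveI := hRn
  refine tate_core P R Q hQ hRQ ?_ ?_
  · rw [hRc, hj, ← pow_succ, Nat.sub_add_cancel (Nat.one_le_iff_ne_zero.mpr hj0)]
  · intro x hx
    obtain ⟨y, hy, hyx⟩ := h ⟨x.2, hx⟩
    exact (Subtype.ext hyx : y = x) ▸ hy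

/-- If `N ◁ G` and `N ∩ P ≤ Φ(P)` then `N` has a normal `p`-complement. -/
theorem hasNormalPComplement_normal_of_le_frattini (P : Sylow p G) (N : Subgroup G) [N.Normal]
    (h : N ⊓ (P : Subgroup G) ≤ (frattini (P : Subgroup G)).map (P : Subgroup G).subtype) :
    Cfsg.HasNormalPComplement p N := by
  set L := N ⊔ (P : Subgroup G) with hL
  have hPL : (P : Subgroup G) ≤ L := le_sup_right
  have hres : Cfsg.pResidual p L ≤ N.subgroupOf L := by
    refine pResidual_le_of_isPGroup_quotient _ ?_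
    intro x
    obtain ⟨⟨x, hx⟩, rfl⟩ := QuotientGroup.mk_surjective x
    obtain ⟨n, hn, u, hu, hnu⟩ := Subgroup.mem_sup_of_normal_left.mp hx
    obtain ⟨k, hk⟩ := P.2 ⟨u, hu⟩
    refine ⟨k, ?_⟩
    have e : (QuotientGroup.mk (⟨x, hx⟩ : L) : L ⧸ N.subgroupOf L) =
        QuotientGroup.mk (⟨u, hPL hu⟩ : L) := by
      rw [QuotientGroup.eq, Subgroup.mem_subgroupOf]
      show x⁻¹ * u ∈ N
      rw [← hnu, mul_inv_rev]
      simpa [mul_assoc] using (inferInstance : N.Normal).conj_mem _ (inv_mem hn) u⁻¹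
    rw [e, ← QuotientGroup.mk_pow, QuotientGroup.eq_one_iff, Subgroup.mem_subgroupOf]
    have h2 : u ^ p ^ k = 1 := congrArg Subtype.val hk
    simp [h2]
  have hL' : Cfsg.HasNormalPComplement p L := by
    refine hasNormalPComplement_of_inf_pResidual_le_frattini (P.subtype hPL) ?_
    rintro x ⟨hx, hx'⟩
    obtain ⟨y, hy, hyx⟩ := h ⟨hres hx', hx⟩
    let e : (P : Subgroup G) ≃* (P.subtype hPL : Subgroup L) :=
      (Subgroup.subgroupOfEquivOfLe hPL).symm
    refine ⟨e y, ?_, Subtype.ext hyx⟩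
    exact frattini_le_comap_frattini_of_surjective (φ := e.toMonoidHom) e.surjective hy
  exact hasNormalPComplement_of_le le_sup_left hL'

end Cfsg.Agent.Transfer
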