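import Cfsg.Agent.Lib.Transfer.Frobenius
import Mathlib.GroupTheory.Nilpotent

/-!
# Minimal non-`p`-nilpotent groups

* `exists_prime_pow_not_centralize`: a group without normal `p`-complement has a `p`-subgroup
  normalised but not centralised by a `q`-element, `q ≠ p`.
* `structure_of_minimal`: Itô's theorem: a group all whose proper subgroups have normal
  `p`-complements, but which has none, is `P ⋊ ⟨g⟩` with all proper subgroups nilpotent.
-/

set_option linter.style.haveILetI false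

namespace Cfsg.Agent.Transfer

open scoped commutatorElement

variable {G : Type*} [Group G] [Finite G] {p : ℕ} [Fact p.Prime]

theorem exists_prime_pow_not_centralize (P : Sylow p G)
    (h : ¬ Cfsg.HasNormalPComplement p G) :
    ∃ (Q : Subgroup G) (g : G) (q k : ℕ), Q ≤ (P : Subgroup G) ∧ q.Prime ∧ q ≠ p ∧
      orderOf g = q ^ k ∧ g ∈ Subgroup.normalizer (Q : Set G) ∧
      g ∉ Subgroup.centralizer (Q : Set G) := by
  have h0 : ∃ Q : Subgroup G, Q ≤ (P : Subgroup G) ∧ ∃ g ∈ Subgroup.normalizer (Q : Set G),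
      Nat.Coprime (orderOf g) p ∧ g ∉ Subgroup.centralizer (Q : Set G) := by
    by_contra hne
    apply h
    refine hasNormalPComplement_of_centralizer P fun Q hQ g hg hco => ?_
    by_contra hgc
    exact hne ⟨Q, hQ, g, hg, hco, hgc⟩
  obtain ⟨Q, hQ, g₀, hg₀⟩ := h0
  -- take such an element of least order
  obtain ⟨g, ⟨hgN, hgco, hgC⟩, hmin⟩ := exists_min_image
    (s := {g : G | g ∈ Subgroup.normalizer (Q : Set G) ∧ Nat.Coprime (orderOf g) p ∧
      g ∉ Subgroup.centralizer (Q : Set G)}) ⟨g₀, hg₀⟩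
  have hne : orderOf g ≠ 1 := fun h1 => hgC (by
    rw [orderOf_eq_one_iff.mp h1]; exact one_mem _)
  obtain ⟨q, hq, hqd⟩ := Nat.exists_prime_and_dvd hne
  have hqp : q ≠ p := by
    rintro rfl
    exact hq.ne_one (Nat.eq_one_of_dvd_coprimes hgco hqd dvd_rfl)
  obtain ⟨a, b, hab, hb, ha⟩ := exists_mul_coprime_dvd_pow q _ (orderOf_pos g)
  obtain ⟨k, -, rfl⟩ := (Nat.dvd_prime_pow hq).mp ha
  -- `g` is a product of its two parts
  refine ⟨Q, g, q, k, hQ, hq, hqp, ?_, hgN, hgC⟩
  by_contra hk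
  have hpos : 0 < orderOf g := orderOf_pos g
  have hb1 : 1 < b := by
    rcases b with _ | _ | b
    · rw [hab, mul_zero] at hpos
      exact absurd hpos (lt_irrefl 0)
    · simp at hab; exact absurd hab hk
    · omega
  have hk1 : 1 < q ^ k := by
    rcases k with _ | k
    · simp at hab
      exact absurd (hab ▸ hqd) (fun hqb => hq.ne_one (Nat.eq_one_of_dvd_coprimes hb hqb dvd_rfl))
    · exact Nat.one_lt_pow k.succ_ne_zero hq.one_lt
  have hsmall : ∀ m : ℕ, 1 < m → m ∣ orderOf g → g ^ m ∈ Subgroup.centralizer (Q : Set G) := by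
    intro m hm hmd
    by_contra hc
    have h1 := hmin (g ^ m) ⟨pow_mem hgN m, hgco.coprime_dvd_left (orderOf_pow_dvd m), hc⟩
    rw [orderOf_pow_of_dvd (by omega) hmd] at h1
    exact absurd (Nat.div_lt_self hpos hm) (not_lt.mpr h1)
  have hA := hsmall _ hk1 ⟨b, hab⟩
  have hB := hsmall b hb1 ⟨q ^ k, by rw [hab, mul_comm]⟩
  apply hgC
  have hcop : Nat.Coprime (q ^ k) b := (Nat.Coprime.pow_left k hb.symm)
  obtain ⟨u, v, huv⟩ : ∃ u v : ℤ, (q ^ k : ℕ) * u + (b : ℤ) * v = 1 := by
    refine ⟨Nat.gcdA (q ^ k) b, Nat.gcdB (q ^ k) b, ?_⟩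
    rw [← Nat.gcd_eq_gcd_ab, hcop.gcd_eq_one]
    rfl
  have : g = (g ^ (q ^ k)) ^ u * (g ^ b) ^ v := by
    rw [← zpow_natCast g (q ^ k), ← zpow_mul, ← zpow_natCast g b, ← zpow_mul, ← zpow_add, huv,
      zpow_one]
  rw [this]
  exact mul_mem (zpow_mem hA u) (zpow_mem hB v)
where
  exists_min_image {s : Set G} (hs : s.Nonempty) :
      ∃ g ∈ s, ∀ h ∈ s, orderOf g ≤ orderOf h := by
    classical
    obtain ⟨x, hx⟩ := hs
    have h : ∃ n, ∃ g ∈ s, orderOf g = n := ⟨_, x, hx, rfl⟩
    obtain ⟨g, hg, hgn⟩ := Nat.find_spec h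
    exact ⟨g, hg, fun y hy => hgn ▸ Nat.find_min' h ⟨y, hy, rfl⟩⟩

/-- **Itô's theorem** on minimal non-`p`-nilpotent groups. -/
theorem structure_of_minimal (h1 : ¬ Cfsg.HasNormalPComplement p G)
    (h2 : ∀ H : Subgroup G, H ≠ ⊤ → Cfsg.HasNormalPComplement p H) :
    (∀ H : Subgroup G, H ≠ ⊤ → Group.IsNilpotent H) ∧ ¬ Group.IsNilpotent G ∧
      ∀ P : Sylow p G, (P : Subgroup G).Normal := by
  obtain ⟨P⟩ := (inferInstance : Nonempty (Sylow p G))
  obtain ⟨Q, g, q, k, hQP, hq, hqp, hord, hgN, hgC⟩ := exists_prime_pow_not_centralize P h1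
  haveI := Fact.mk hq
  have hgco : Nat.Coprime (orderOf g) p := by
    rw [hord]; exact ((Nat.coprime_primes hq Fact.out).mpr hqp).pow_left k
  have hQp : IsPGroup p Q := P.2.to_le hQP
  -- `G = Q ⟨g⟩`
  have htop : Subgroup.normalizer (Q : Set G) = ⊤ := by
    by_contra hne
    exact hgC (mem_centralizer_of_hasNormalPComplement hQp (h2 _ hne) hgN hgco)
  haveI hQn : Q.Normal := Subgroup.normalizer_eq_top_iff.mp htop
  have hgen : Q ⊔ Subgroup.zpowers g = ⊤ := by
    by_contra hne
    have hH := h2 _ hne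
    apply hgC
    rw [Subgroup.mem_centralizer_iff]
    intro x hx
    have hgH : g ∈ Q ⊔ Subgroup.zpowers g := Subgroup.mem_sup_right (Subgroup.mem_zpowers g)
    have hxH : x ∈ Q ⊔ Subgroup.zpowers g := Subgroup.mem_sup_left hx
    have hgK : (⟨g, hgH⟩ : (Q ⊔ Subgroup.zpowers g : Subgroup G)) ∈ Cfsg.pResidual p _ :=
      mem_residual_of_coprime (by rwa [Subgroup.orderOf_mk])
    have h3 := mul_mem ((pResidual_normal (G := (Q ⊔ Subgroup.zpowers g : Subgroup G)) p).conj_mem _ hgK
      ⟨x, hxH⟩) (inv_mem hgK)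
    have h4 := (mem_pResidual_iff hH _).mp h3
    rw [← Subgroup.orderOf_coe] at h4
    have h5 : x * g * x⁻¹ * g⁻¹ ∈ Q := by
      have h6 := (Subgroup.mem_normalizer_iff.mp hgN x⁻¹).mp (inv_mem hx)
      simpa [mul_assoc] using mul_mem (SetLike.mem_coe.mp hx) h6
    have h6 : orderOf (x * g * x⁻¹ * g⁻¹) = 1 := by
      obtain ⟨j, hj⟩ := hQp.exists_card_eq
      exact Nat.eq_one_of_dvd_coprimes (Nat.Coprime.pow_right j h4) dvd_rfl
        (hj ▸ Subgroup.orderOf_dvd_natCard Q h5)
    exact commutatorElement_eq_one_iff_mul_comm.mp (orderOf_eq_one_iff.mp h6)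
  have hidx : Q.index ∣ q ^ k := by
    rw [← hord]
    have hsurj : Function.Surjective ((QuotientGroup.mk' Q).domRestrict (Subgroup.zpowers g)) := by
      intro y
      obtain ⟨x, rfl⟩ := QuotientGroup.mk_surjective y
      obtain ⟨a, ha, b, hb, rfl⟩ := Subgroup.mem_sup_of_normal_left.mp (hgen ▸ Subgroup.mem_top x)
      refine ⟨⟨b, hb⟩, ?_⟩
      show (b : G ⧸ Q) = ((a * b : G) : G ⧸ Q)
      rw [QuotientGroup.eq]
      simpa [mul_assoc] using hQn.conj_mem a ha b⁻¹
    rw [← Nat.card_zpowers g, Subgroup.index_eq_card]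
    exact Subgroup.card_dvd_of_surjective _ hsurj
  have hpidx : ¬ p ∣ Q.index := fun hd =>
    hqp ((Nat.prime_dvd_prime_iff_eq Fact.out hq).mp
      ((Fact.out : p.Prime).dvd_of_dvd_pow (hd.trans hidx))).symm
  have hle : ∀ R : Subgroup G, IsPGroup p R → R ≤ Q := by
    intro R hR
    have h3 := ((hQp.toSylow hpidx).3 (Q := Q ⊔ R) (hQp.to_sup_of_normal_left hR) le_sup_left)
    exact le_sup_right.trans h3.le
  have hnormal : ∀ R : Sylow p G, (R : Subgroup G).Normal := by
    intro R
    have : (R : Subgroup G) = Q := (R.3 hQp (hle _ R.2)).symm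
    rw [this]
    exact hQn
  refine ⟨fun H hH => ?_, fun hnil => ?_, hnormal⟩
  · have htfae := (Group.isNilpotent_of_finite_tfae (G := H)).out 0 3
    rw [htfae]
    intro r hr R
    by_cases hrp : r = p
    · subst hrp
      have h3 : (R : Subgroup H) = Q.subgroupOf H := by
        refine (R.3 (Q := Q.subgroupOf H) hQp.comap_subtype ?_).symm
        exact Subgroup.map_le_iff_le_comap.mp (hle _ (R.2.map H.subtype))
      rw [h3]
      infer_instance
    · set K := Cfsg.pResidual p H
      have hKq : IsPGroup q K := by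
        have hd : Nat.card K ∣ Nat.card Q * q ^ k := by
          refine ((Subgroup.card_subgroup_dvd_card K).trans (Subgroup.card_subgroup_dvd_card H)).trans ?_
          rw [← Subgroup.card_mul_index Q]
          exact mul_dvd_mul_left _ hidx
        obtain ⟨j, hj⟩ := hQp.exists_card_eq
        have hKco : Nat.Coprime (Nat.card K) (Nat.card Q) := by
          rw [hj]
          exact (((Nat.Prime.coprime_iff_not_dvd Fact.out).mpr
            (hasNormalPComplement_iff.mp (h2 H hH))).symm).pow_right j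
        obtain ⟨i, -, hi⟩ := (Nat.dvd_prime_pow hq).mp (hKco.dvd_of_dvd_mul_left hd)
        exact IsPGroup.of_card hi
      have hRK : (R : Subgroup H) ≤ K := by
        intro x hx
        refine mem_residual_of_coprime ?_
        haveI := hr
        obtain ⟨i, hi⟩ := IsPGroup.iff_orderOf.mp R.2 ⟨x, hx⟩
        rw [← Subgroup.orderOf_coe] at hi
        rw [hi]
        exact (((Nat.coprime_primes hr.out Fact.out).mpr hrp).pow_left i)
      haveI := hr
      by_cases hrq : r = q
      · subst hrq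
        rw [← R.3 hKq hRK]
        exact pResidual_normal p
      · have : (R : Subgroup H) = ⊥ := by
          obtain ⟨i, hi⟩ := (hKq.to_le hRK).exists_card_eq
          obtain ⟨j, hj⟩ := R.2.exists_card_eq
          rw [← Subgroup.card_eq_one]
          exact Nat.eq_one_of_dvd_coprimes (((Nat.coprime_primes hr.out hq).mpr hrq).pow j i)
            hj.dvd hi.dvd
        rw [this]
        infer_instance
  · have htfae := (Group.isNilpotent_of_finite_tfae (G := G)).out 0 3
    have hN := htfae.mp hnil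
    have hz : IsPGroup q (Subgroup.zpowers g) :=
      IsPGroup.of_card (n := k) (by rw [Nat.card_zpowers, hord])
    obtain ⟨R, hR⟩ := hz.exists_le_sylow
    haveI := hN q ⟨hq⟩ R
    apply hgC
    rw [Subgroup.mem_centralizer_iff]
    intro x hx
    have hgR : g ∈ (R : Subgroup G) := hR (Subgroup.mem_zpowers g)
    have h3 : x * g * x⁻¹ * g⁻¹ ∈ Q := by
      have h6 := (Subgroup.mem_normalizer_iff.mp hgN x⁻¹).mp (inv_mem hx)
      simpa [mul_assoc] using mul_mem (SetLike.mem_coe.mp hx) h6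
    have h4 : x * g * x⁻¹ * g⁻¹ ∈ (R : Subgroup G) :=
      mul_mem ((inferInstance : (R : Subgroup G).Normal).conj_mem g hgR x) (inv_mem hgR)
    have h5 := Subgroup.disjoint_def.mp (IsPGroup.disjoint_of_ne p q hqp.symm _ _ hQp R.2) h3 h4
    exact commutatorElement_eq_one_iff_mul_comm.mp h5

end Cfsg.Agent.Transfer
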