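import Cfsg.Agent.Lib.Transfer.Fusion

/-!
# Nilpotent Hall subgroups

* `exists_conj_eq_of_nilpotent_hall`: Wielandt's theorem that nilpotent Hall subgroups of the same
  order are conjugate.
* `exists_normal_isComplement'_of_normalizer_le_centralizer`: Burnside's theorem for Hall subgroups.
-/

set_option linter.style.haveILetI false

namespace Cfsg.Agent.Transfer

universe u

private theorem hall_conj_aux : ∀ n : ℕ, ∀ (G : Type u) [Group G] [Finite G], Nat.card G = n →
    ∀ H K : Subgroup G, Group.IsNilpotent H → Group.IsNilpotent K →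
      Nat.Coprime (Nat.card H) H.index → Nat.card H = Nat.card K →
      ∃ g : G, H.map (MulAut.conj g).toMonoidHom = K := by
  intro n
  induction n using Nat.strong_induction_on with
  | _ n IH =>
  intro G _ _ hn H K hHn hKn hco hcard
  by_cases h1 : Nat.card H = 1
  · refine ⟨1, ?_⟩
    rw [Subgroup.eq_bot_of_card_eq H h1, Subgroup.eq_bot_of_card_eq K (hcard.symm.trans h1),
      Subgroup.map_bot]
  obtain ⟨p, hp, hpd⟩ := Nat.exists_prime_and_dvd h1
  haveI := Fact.mk hp
  -- the Sylow subgroup of a nilpotent Hall subgroup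
  have key : ∀ L : Subgroup G, Group.IsNilpotent L → Nat.card L = Nat.card H →
      ∃ S : Sylow p G, (S : Subgroup G) ≤ L ∧ L ≤ Subgroup.normalizer (S : Set G) := by
    intro L hL hLc
    obtain ⟨P⟩ := (inferInstance : Nonempty (Sylow p L))
    have hLco : Nat.Coprime (Nat.card L) L.index := by
      have e : L.index = H.index := by
        have a := L.card_mul_index
        have b := H.card_mul_index
        rw [hLc, ← b] at a
        exact mul_left_cancel₀ Nat.card_pos.ne' a
      rw [e, hLc]
      exact hco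
    have hidx : ¬ p ∣ ((P : Subgroup L).map L.subtype).index := by
      rw [Subgroup.index_map_subtype]
      intro hd
      rcases hp.dvd_mul.mp hd with hd | hd
      · exact P.not_dvd_index hd
      · exact hp.ne_one (Nat.eq_one_of_dvd_coprimes hLco (hLc ▸ hpd) hd)
    refine ⟨(P.2.map L.subtype).toSylow hidx, Subgroup.map_subtype_le _, ?_⟩
    have htfae := (Group.isNilpotent_of_finite_tfae (G := L)).out 0 3
    haveI hPn := htfae.mp hL p ⟨hp⟩ P
    intro x hx
    refine mem_normalizer_of_conj_mem ?_
    rintro _ ⟨y, hy, rfl⟩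
    exact ⟨⟨x, hx⟩ * y * ⟨x, hx⟩⁻¹, hPn.conj_mem y hy _, rfl⟩
  obtain ⟨P, hPH, hHN⟩ := key H hHn rfl
  obtain ⟨R, hRK, hKN⟩ := key K hKn hcard.symm
  obtain ⟨g, hg⟩ := MulAction.exists_smul_eq G P R
  set H' := H.map (MulAut.conj g).toMonoidHom with hH'
  have hH'card : Nat.card H' = Nat.card H :=
    Subgroup.card_map_of_injective (MulAut.conj g).injective
  have hH'co : Nat.Coprime (Nat.card H') H'.index := by
    rw [hH', Subgroup.index_map_of_bijective (MulAut.conj g).bijective, ← hH', hH'card]
    exact hco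
  have hH'n : Group.IsNilpotent H' :=
    Group.nilpotent_of_mulEquiv (Subgroup.equivMapOfInjective H _ (MulAut.conj g).injective)
  have hRH' : (R : Subgroup G) ≤ H' := by
    rw [← hg]
    exact Subgroup.map_mono hPH
  have hH'N : H' ≤ Subgroup.normalizer (R : Set G) := by
    rintro _ ⟨x, hx, rfl⟩
    rw [← hg]
    refine mem_normalizer_of_conj_mem ?_
    rintro _ ⟨y, hy, rfl⟩
    exact ⟨x * y * x⁻¹, (Subgroup.mem_normalizer_iff.mp (hHN hx) y).mp hy, by
      show g * (x * y * x⁻¹) * g⁻¹ = g * x * g⁻¹ * (g * y * g⁻¹) * (g * x * g⁻¹)⁻¹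
      group⟩
  suffices h : ∃ c : G, H'.map (MulAut.conj c).toMonoidHom = K by
    obtain ⟨c, hc⟩ := h
    refine ⟨c * g, ?_⟩
    rw [← hc, hH', Subgroup.map_map]
    congr 1
    ext x
    simp [mul_assoc]
  set N := Subgroup.normalizer (R : Set G) with hN
  by_cases htop : N = ⊤
  · -- `R` is normal: pass to the quotient
    haveI hRn : (R : Subgroup G).Normal := Subgroup.normalizer_eq_top_iff.mp htop
    set f := QuotientGroup.mk' (R : Subgroup G)
    have hker : f.ker = (R : Subgroup G) := QuotientGroup.ker_mk' _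
    have hRne : 1 < Nat.card (R : Subgroup G) := by
      have : (R : Subgroup G) ≠ ⊥ :=
        R.ne_bot_of_dvd_card (hpd.trans (Subgroup.card_subgroup_dvd_card H))
      exact (Subgroup.one_lt_card_iff_ne_bot _).mpr this
    have hlt : Nat.card (G ⧸ (R : Subgroup G)) < n := by
      rw [← hn, Subgroup.card_eq_card_quotient_mul_card_subgroup (R : Subgroup G)]
      exact lt_mul_of_one_lt_right Nat.card_pos hRne
    have hnil : ∀ L : Subgroup G, Group.IsNilpotent L → Group.IsNilpotent (L.map f) := fun L hL =>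
      haveI := hL
      Group.nilpotent_of_surjective (f.subgroupMap L) (f.subgroupMap_surjective L)
    have hidx : ∀ L : Subgroup G, (R : Subgroup G) ≤ L → (L.map f).index = L.index := fun L hL =>
      Subgroup.index_map_eq _ (QuotientGroup.mk'_surjective _) (hker.le.trans hL)
    have hc1 : Nat.Coprime (Nat.card (H'.map f)) (H'.map f).index := by
      rw [hidx _ hRH']
      exact hH'co.coprime_dvd_left (Subgroup.card_map_dvd _ f)
    have hc2 : Nat.card (H'.map f) = Nat.card (K.map f) := by
      have a := (H'.map f).card_mul_index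
      have b := (K.map f).card_mul_index
      rw [hidx _ hRH'] at a
      rw [hidx _ hRK] at b
      have e : H'.index = K.index := by
        have a' := H'.card_mul_index
        have b' := K.card_mul_index
        rw [hH'card, hcard, ← b'] at a'
        exact mul_left_cancel₀ Nat.card_pos.ne' a'
      rw [e, ← b] at a
      exact mul_right_cancel₀ Subgroup.FiniteIndex.index_ne_zero a
    obtain ⟨c, hc⟩ := IH _ hlt (G ⧸ (R : Subgroup G)) rfl _ _ (hnil _ hH'n) (hnil _ hKn) hc1 hc2
    obtain ⟨c, rfl⟩ := QuotientGroup.mk_surjective c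
    refine ⟨c, Subgroup.eq_of_le_of_card_ge ?_ (le_of_eq ?_)⟩
    · rintro _ ⟨x, hx, rfl⟩
      obtain ⟨y, hy, hyx⟩ := hc.le ⟨f x, ⟨x, hx, rfl⟩, rfl⟩
      have h5 : y⁻¹ * (c * x * c⁻¹) ∈ (R : Subgroup G) := by
        rw [← hker, MonoidHom.mem_ker]
        have h6 : f y = f c * f x * (f c)⁻¹ := hyx
        rw [map_mul, map_inv, map_mul, map_mul, map_inv, h6, inv_mul_cancel]
      have h7 := mul_mem hy (hRK h5)
      show c * x * c⁻¹ ∈ K
      simpa using h7
    · rw [Subgroup.card_map_of_injective (MulAut.conj c).injective, hH'card, hcard]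
  · -- work inside `N_G(R)`
    have hlt : Nat.card N < n := by
      rw [← hn]
      exact lt_of_le_of_ne (Subgroup.card_le_card_group N)
        fun h => htop (Subgroup.card_eq_iff_eq_top N |>.mp h)
    have hn' : ∀ L : Subgroup G, L ≤ N → Group.IsNilpotent L → Group.IsNilpotent (L.subgroupOf N) :=
      fun L hL hLn => haveI := hLn
        Group.nilpotent_of_mulEquiv (Subgroup.subgroupOfEquivOfLe hL).symm
    obtain ⟨c, hc⟩ := IH _ hlt N rfl (H'.subgroupOf N) (K.subgroupOf N) (hn' _ hH'N hH'n)
      (hn' _ hKN hKn)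
      (by
        rw [Nat.card_congr (Subgroup.subgroupOfEquivOfLe hH'N).toEquiv]
        exact hH'co.coprime_dvd_right (Subgroup.relIndex_dvd_index_of_le hH'N))
      (by
        rw [Nat.card_congr (Subgroup.subgroupOfEquivOfLe hH'N).toEquiv,
          Nat.card_congr (Subgroup.subgroupOfEquivOfLe hKN).toEquiv, hH'card, hcard])
    refine ⟨c, ?_⟩
    have h8 := congrArg (Subgroup.map N.subtype) hc
    rw [Subgroup.map_map, Subgroup.map_subgroupOf_eq_of_le hKN] at h8
    rw [← h8]
    conv_lhs => rw [← Subgroup.map_subgroupOf_eq_of_le hH'N, Subgroup.map_map]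
    rfl

variable {G : Type u} [Group G] [Finite G]

/-- **Wielandt**: nilpotent Hall subgroups of the same order are conjugate. -/
theorem exists_conj_eq_of_nilpotent_hall (H K : Subgroup G) (hHn : Group.IsNilpotent H)
    (hKn : Group.IsNilpotent K) (hco : Nat.Coprime (Nat.card H) H.index)
    (hcard : Nat.card H = Nat.card K) : ∃ g : G, H.map (MulAut.conj g).toMonoidHom = K :=
  hall_conj_aux _ G rfl H K hHn hKn hco hcard

/-- For an abelian Hall subgroup the normalizer controls fusion. -/
theorem controlsElementFusion_normalizer_of_abelian_hall (H : Subgroup G)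
    (hc : IsMulCommutative H) (hco : Nat.Coprime (Nat.card H) H.index) :
    ControlsElementFusion (Subgroup.normalizer (H : Set G)) H := by
  haveI := hc
  intro x hx g hg
  set y := g * x * g⁻¹
  set C := Subgroup.centralizer ({y} : Set G)
  set H' := H.map (MulAut.conj g).toMonoidHom
  have hH'card : Nat.card H' = Nat.card H :=
    Subgroup.card_map_of_injective (MulAut.conj g).injective
  have hcomm : ∀ a ∈ H, ∀ b ∈ H, a * b = b * a := fun a ha b hb =>
    congrArg Subtype.val (hc.is_comm.comm (⟨a, ha⟩ : H) ⟨b, hb⟩)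
  have hHC : H ≤ C := fun a ha => Subgroup.mem_centralizer_singleton_iff.mpr (hcomm a ha y hg)
  have hH'C : H' ≤ C := by
    rintro _ ⟨a, ha, rfl⟩
    rw [Subgroup.mem_centralizer_singleton_iff]
    show g * a * g⁻¹ * (g * x * g⁻¹) = g * x * g⁻¹ * (g * a * g⁻¹)
    calc g * a * g⁻¹ * (g * x * g⁻¹) = g * (a * x) * g⁻¹ := by group
      _ = g * (x * a) * g⁻¹ := by rw [hcomm a ha x hx]
      _ = g * x * g⁻¹ * (g * a * g⁻¹) := by group
  haveI hH'c : IsMulCommutative H' := Subgroup.map_isMulCommutative H _
  have hH'n : Group.IsNilpotent H' := open scoped IsMulCommutative in inferInstance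
  have hHn : Group.IsNilpotent H := open scoped IsMulCommutative in inferInstance
  obtain ⟨c, hcH⟩ := exists_conj_eq_of_nilpotent_hall (H'.subgroupOf C) (H.subgroupOf C)
    (Group.nilpotent_of_mulEquiv (Subgroup.subgroupOfEquivOfLe hH'C).symm)
    (Group.nilpotent_of_mulEquiv (Subgroup.subgroupOfEquivOfLe hHC).symm)
    (by
      rw [Nat.card_congr (Subgroup.subgroupOfEquivOfLe hH'C).toEquiv, hH'card]
      refine hco.coprime_dvd_right ((Subgroup.relIndex_dvd_index_of_le hH'C).trans ?_)
      rw [Subgroup.index_map_of_bijective (MulAut.conj g).bijective])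
    (by
      rw [Nat.card_congr (Subgroup.subgroupOfEquivOfLe hH'C).toEquiv,
        Nat.card_congr (Subgroup.subgroupOfEquivOfLe hHC).toEquiv, hH'card])
  refine ⟨(c : G) * g, mem_normalizer_of_conj_mem fun a ha => ?_, ?_⟩
  · have h1 : c * (⟨g * a * g⁻¹, hH'C ⟨a, ha, rfl⟩⟩ : C) * c⁻¹ ∈ H.subgroupOf C :=
      hcH.le ⟨⟨g * a * g⁻¹, hH'C ⟨a, ha, rfl⟩⟩, ⟨a, ha, rfl⟩, rfl⟩
    have h2 : (c : G) * (g * a * g⁻¹) * (c : G)⁻¹ ∈ H := h1
    convert h2 using 1
    group
  · have h3 : (c : G) * y = y * c := Subgroup.mem_centralizer_singleton_iff.mp c.2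
    calc (c : G) * g * x * ((c : G) * g)⁻¹ = (c : G) * y * (c : G)⁻¹ := by
          show _ = (c : G) * (g * x * g⁻¹) * (c : G)⁻¹
          group
      _ = y := by rw [h3, mul_inv_cancel_right]

/-- **Burnside's theorem** for Hall subgroups. -/
theorem exists_normal_isComplement'_of_normalizer_le_centralizer (H : Subgroup G)
    (hco : Nat.Coprime (Nat.card H) H.index)
    (h : Subgroup.normalizer (H : Set G) ≤ Subgroup.centralizer (H : Set G)) :
    ∃ N : Subgroup G, N.Normal ∧ N.IsComplement' H := by
  have hc : IsMulCommutative H := ⟨⟨fun a b => Subtype.ext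
    (h (Subgroup.le_normalizer b.2) a a.2)⟩⟩
  haveI := hc
  refine exists_normal_isComplement'_of_own_fusion H (open scoped IsMulCommutative in inferInstance) hco fun x hx g hg => ?_
  obtain ⟨n, hn, he⟩ := controlsElementFusion_normalizer_of_abelian_hall H hc hco x hx g hg
  refine ⟨1, one_mem _, ?_⟩
  rw [← he, ← h hn x hx]
  group

end Cfsg.Agent.Transfer
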