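import Cfsg.Agent.Lib.Transfer.Fusion

/-!
# Weakly closed subgroups

* `exists_mul_mem_normalizer`: if `W` is weakly closed in `P` and `W`, `gWg⁻¹` lie in a subgroup `C`,
  then `c g ∈ N_G(W)` for some `c ∈ C`.
* `conj_pow_eq_of_conj_eq`: powers of weakly closed elements are weakly closed.
-/

set_option linter.style.haveILetI false

namespace Cfsg.Agent.Transfer

open scoped Pointwise

variable {G : Type*} [Group G] [Finite G] {p : ℕ} [Fact p.Prime]

theorem exists_mul_mem_normalizer (P : Sylow p G) {W : Subgroup G}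
    (hW : Cfsg.IsWeaklyClosed W (P : Subgroup G)) (C : Subgroup G) (hWC : W ≤ C) (g : G)
    (hgWC : ∀ w ∈ W, g * w * g⁻¹ ∈ C) :
    ∃ c ∈ C, c * g ∈ Subgroup.normalizer (W : Set G) := by
  have hWp : IsPGroup p W := P.2.to_le hW.1
  have h1 : IsPGroup p (W.subgroupOf C) := hWp.comap_subtype
  have h2 : IsPGroup p ((W.map (MulAut.conj g).toMonoidHom).subgroupOf C) :=
    (hWp.map _).comap_subtype
  obtain ⟨S₁, hS₁⟩ := h1.exists_le_sylow
  obtain ⟨S₂, hS₂⟩ := h2.exists_le_sylow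
  obtain ⟨c, rfl⟩ := MulAction.exists_smul_eq C S₂ S₁
  obtain ⟨R, hR⟩ := (IsPGroup.map (c • S₂).2 C.subtype).exists_le_sylow
  obtain ⟨r, rfl⟩ := MulAction.exists_smul_eq G P R
  have memP : ∀ x : G, x ∈ ((r • P : Sylow p G) : Subgroup G) → r⁻¹ * x * r ∈ (P : Subgroup G) := by
    rintro x ⟨y, hy, hyx⟩
    have hyx' : r * y * r⁻¹ = x := hyx
    have hy' : y ∈ (P : Subgroup G) := hy
    rw [← hyx']
    simpa [mul_assoc] using hy'
  have hr : r⁻¹ ∈ Subgroup.normalizer (W : Set G) := by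
    refine mem_normalizer_of_weaklyClosed hW fun w hw => ?_
    rw [inv_inv]
    exact memP w (hR ⟨⟨w, hWC hw⟩, hS₁ hw, rfl⟩)
  have hcg : r⁻¹ * ((c : G) * g) ∈ Subgroup.normalizer (W : Set G) := by
    refine mem_normalizer_of_weaklyClosed hW fun w hw => ?_
    have hwm : g * w * g⁻¹ ∈ W.map (MulAut.conj g).toMonoidHom := ⟨w, hw, rfl⟩
    have h3 : (⟨g * w * g⁻¹, hgWC w hw⟩ : C) ∈ S₂ := hS₂ hwm
    have h4 : c * ⟨g * w * g⁻¹, hgWC w hw⟩ * c⁻¹ ∈ (c • S₂ : Sylow p C) := ⟨_, h3, rfl⟩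
    have h5 := memP _ (hR ⟨_, h4, rfl⟩)
    simpa [mul_assoc] using h5
  refine ⟨c, c.2, ?_⟩
  have h6 := mul_mem (inv_mem hr) hcg
  simpa using h6

/-- Powers of an element weakly closed in `P` are weakly closed. -/
theorem conj_pow_eq_of_conj_eq (P : Sylow p G) {a : G} (ha : a ∈ (P : Subgroup G))
    (hwc : ∀ g : G, g * a * g⁻¹ ∈ (P : Subgroup G) → g * a * g⁻¹ = a) (n : ℕ) {g : G}
    (hg : g * a ^ n * g⁻¹ ∈ (P : Subgroup G)) : g * a ^ n * g⁻¹ = a ^ n := by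
  have hle : Subgroup.zpowers a ≤ (P : Subgroup G) := Subgroup.zpowers_le.mpr ha
  have hW : Cfsg.IsWeaklyClosed (Subgroup.zpowers a) (P : Subgroup G) := by
    refine ⟨hle, fun g hg => ?_⟩
    rw [MonoidHom.map_zpowers]
    congr 1
    exact hwc g (hg ⟨a, Subgroup.mem_zpowers a, rfl⟩)
  have hc : Subgroup.zpowers a ≤ Subgroup.centralizer (P : Set G) := by
    rw [Subgroup.zpowers_le, Subgroup.mem_centralizer_iff]
    intro x hx
    exact mul_inv_eq_iff_eq_mul.mp (hwc x (mul_mem (mul_mem hx ha) (inv_mem hx)))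
  obtain ⟨h, hh, he⟩ := controlsElementFusion_normalizer_of_weaklyClosed P hW hc _
    (pow_mem ha n) g hg
  have h1 : h * a * h⁻¹ = a :=
    hwc h (hle ((Subgroup.mem_normalizer_iff.mp hh a).mp (Subgroup.mem_zpowers a)))
  rw [← he, ← conj_pow, h1]

end Cfsg.Agent.Transfer
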