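import Mathlib
import Cfsg.Agent.Lib.Transfer.Burnside

/-!
# Counting the elements centralised by a Sylow subgroup

* `exists_sylow_le_centralizer`: if `p` does not divide the class size of `x`, a Sylow
  `p`-subgroup centralises `x`.
* `two_mul_card_le`: if `G` has no normal `p`-complement, at most half of the elements
  have class size prime to `p`.
-/

namespace Cfsg.Agent.Transfer

open scoped Pointwise

variable {G : Type*} [Group G] [Finite G] {p : ℕ} [Fact p.Prime]

/-- If `p` does not divide the class size of `x`, some Sylow `p`-subgroup centralises `x`. -/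
theorem exists_sylow_le_centralizer (x : G)
    (h : ¬ p ∣ (Subgroup.centralizer ({x} : Set G)).index) :
    ∃ Q : Sylow p G, (Q : Subgroup G) ≤ Subgroup.centralizer ({x} : Set G) := by
  set C := Subgroup.centralizer ({x} : Set G)
  obtain ⟨R⟩ := (Sylow.nonempty : Nonempty (Sylow p C))
  have hR : IsPGroup p ((R : Subgroup C).map C.subtype) := R.2.map _
  have hi : ¬ p ∣ ((R : Subgroup C).map C.subtype).index := by
    rw [Subgroup.index_map_subtype]
    exact Nat.Prime.not_dvd_mul Fact.out R.not_dvd_index h
  exact ⟨hR.toSylow hi, by rw [IsPGroup.toSylow_coe]; exact Subgroup.map_subtype_le _⟩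

/-- Elements with class size prime to `p`. -/
def classSizeCoprimeSet (p : ℕ) (G : Type*) [Group G] : Set G :=
  {x : G | ¬ p ∣ (Subgroup.centralizer ({x} : Set G)).index}

theorem one_mem_classSizeCoprimeSet : (1 : G) ∈ classSizeCoprimeSet p G := by
  have h : Subgroup.centralizer ({1} : Set G) = ⊤ := by
    ext y; simp [Subgroup.mem_centralizer_singleton_iff]
  simp [classSizeCoprimeSet, h, Nat.Prime.ne_one (Fact.out : p.Prime)]

/-- If `G` has no normal `p`-complement, at most half of its elements have class size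
prime to `p`. -/
theorem two_mul_card_le (h : ¬ Cfsg.HasNormalPComplement p G) :
    2 * Nat.card (classSizeCoprimeSet p G) ≤ Nat.card G := by
  obtain ⟨P⟩ := (Sylow.nonempty : Nonempty (Sylow p G))
  set N := Subgroup.normalizer (P : Set G)
  set C := Subgroup.centralizer (P : Set G)
  have hCN : C ≤ N := Subgroup.centralizer_le_normalizer _
  have hne : ¬ N ≤ C := fun hle => h (hasNormalPComplement_of_normalizer_le_centralizer P hle)
  have hrel : 2 ≤ C.relIndex N := by
    have h0 : C.relIndex N ≠ 0 := Subgroup.index_ne_zero_of_finite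
    have h1 : C.relIndex N ≠ 1 := fun h1 => hne (Subgroup.relIndex_eq_one.mp h1)
    omega
  classical
  haveI : Fintype G := Fintype.ofFinite G
  have hcover : classSizeCoprimeSet p G ⊆
      insert (1 : G) (⋃ Q : Sylow p G, ((Subgroup.centralizer (Q : Set G) : Set G) \ {1})) := by
    intro x hx
    by_cases h1 : x = 1
    · exact Or.inl h1
    refine Or.inr (Set.mem_iUnion.mpr ?_)
    obtain ⟨Q, hQ⟩ := exists_sylow_le_centralizer x hx
    refine ⟨Q, ?_, h1⟩
    rw [SetLike.mem_coe, Subgroup.mem_centralizer_iff]
    intro y hy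
    exact Subgroup.mem_centralizer_singleton_iff.mp (hQ hy)
  have hcard : ∀ Q : Sylow p G,
      Set.ncard ((Subgroup.centralizer (Q : Set G) : Set G) \ {1}) = Nat.card C - 1 := by
    intro Q
    rw [Set.ncard_diff_singleton_of_mem (one_mem _)]
    congr 1
    obtain ⟨g, rfl⟩ := MulAction.exists_smul_eq G P Q
    have he : (Subgroup.centralizer ((g • P : Sylow p G) : Set G)) =
        C.map (MulAut.conj g).toMonoidHom := by
      ext z
      simp only [Subgroup.mem_map, Subgroup.mem_centralizer_iff, C, Sylow.coe_smul]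
      constructor
      · intro hz
        refine ⟨g⁻¹ * z * g, fun y hy => ?_, by simp [mul_assoc]⟩
        have := hz (g * y * g⁻¹) (Set.mem_smul_set.mpr ⟨y, hy, rfl⟩)
        have h2 : g⁻¹ * (g * y * g⁻¹ * z) * g = g⁻¹ * (z * (g * y * g⁻¹)) * g := by rw [this]
        simpa [mul_assoc] using h2
      · rintro ⟨w, hw, rfl⟩ y hy
        obtain ⟨v, hv, rfl⟩ := Set.mem_smul_set.mp hy
        show g * v * g⁻¹ * (g * w * g⁻¹) = g * w * g⁻¹ * (g * v * g⁻¹)
        calc g * v * g⁻¹ * (g * w * g⁻¹) = g * (v * w) * g⁻¹ := by group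
          _ = g * (w * v) * g⁻¹ := by rw [hw v hv]
          _ = _ := by group
    rw [he, ← Nat.card_coe_set_eq]
    exact Subgroup.card_map_of_injective (MulAut.conj g).injective
  haveI : Fintype (Sylow p G) := Fintype.ofFinite _
  have h1 : Nat.card (classSizeCoprimeSet p G) ≤ 1 + Nat.card (Sylow p G) * (Nat.card C - 1) := by
    rw [Nat.card_coe_set_eq]
    refine (Set.ncard_le_ncard hcover (Set.toFinite _)).trans ?_
    refine (Set.ncard_insert_le _ _).trans ?_
    rw [add_comm]
    refine Nat.add_le_add_left ((Set.ncard_iUnion_le_of_fintype _).trans ?_) _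
    simp [hcard]
  have hG : Nat.card (Sylow p G) * C.relIndex N * Nat.card C = Nat.card G := by
    rw [P.card_eq_index_normalizer]
    have e1 : C.relIndex N * N.index = C.index := Subgroup.relIndex_mul_index hCN
    rw [mul_comm N.index, e1, Subgroup.index_mul_card]
  have hn : 0 < Nat.card (Sylow p G) := Nat.card_pos
  have hc : 0 < Nat.card C := Nat.card_pos
  obtain ⟨c, hc'⟩ : ∃ c, Nat.card C = c + 1 := ⟨Nat.card C - 1, by omega⟩
  rw [hc'] at h1 hG
  simp only [Nat.add_sub_cancel] at h1
  calc 2 * Nat.card (classSizeCoprimeSet p G)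
      ≤ 2 * (1 + Nat.card (Sylow p G) * c) := by omega
    _ ≤ 2 * (Nat.card (Sylow p G) * (c + 1)) := by nlinarith
    _ ≤ Nat.card (Sylow p G) * C.relIndex N * (c + 1) := by
        have := Nat.mul_le_mul_left (Nat.card (Sylow p G) * (c + 1)) hrel
        nlinarith
    _ = Nat.card G := hG

end Cfsg.Agent.Transfer
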