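import Cfsg.Agent.Lib.Transfer.Alperin

/-!
# The focal subgroup from local data

`focalSubgroup_le_of_local`: `P ∩ G'` is generated by `[P, N_G(P)]` and the `[D, x]`, `D` a tame
intersection and `x` a `p`-element of `N_G(D)`.
-/

set_option linter.style.haveILetI false

namespace Cfsg.Agent.Transfer

open scoped commutatorElement

variable {G : Type*} [Group G] [Finite G]

theorem FusionChain.strengthen {C : Subgroup G → Prop} {A : Set G} {g : G}
    (h : FusionChain C A g) :
    ∀ n : ℕ, n ≤ A.ncard → FusionChain (fun E => C E ∧ n ≤ Nat.card E) A g := by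
  induction h with
  | one A => exact fun n _ => .one A
  | @step A D x h hD hA hx _ ih =>
    intro n hn
    refine .step ⟨hD, hn.trans ?_⟩ hA hx (ih n ?_)
    · rw [← Nat.card_coe_set_eq]
      exact Nat.card_le_card_of_injective (Set.inclusion hA) (Set.inclusion_injective hA)
    · rwa [Set.ncard_image_of_injective]
      intro a b hab
      simpa using hab

/-- Telescoping a chain: the quotients `a⁻¹ a^g` lie in `T` when those of all steps do. -/
theorem FusionChain.quot_mem {C : Subgroup G → Prop} {T : Subgroup G}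
    (hT : ∀ D, C D → ∀ x ∈ Subgroup.normalizer (D : Set G), ∀ a ∈ D, a⁻¹ * (x⁻¹ * a * x) ∈ T)
    {A : Set G} {g : G} (h : FusionChain C A g) : ∀ a ∈ A, a⁻¹ * (g⁻¹ * a * g) ∈ T := by
  induction h with
  | one A => intro a _; simp
  | @step A D x h hD hA hx _ ih =>
    intro a ha
    have h1 := mul_mem (hT D hD x hx a (hA ha)) (ih _ ⟨a, ha, rfl⟩)
    convert h1 using 1
    group

variable {p : ℕ} [Fact p.Prime]

/-- The focal subgroup is generated by `[P, N(P)]` and the `[D, x]` for tame intersections `D`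
and `p`-elements `x` of `N(D)`. -/
theorem focalSubgroup_le_of_local (P : Sylow p G) (T : Subgroup G)
    (hN : ∀ x ∈ Subgroup.normalizer (P : Set G), ∀ a ∈ (P : Subgroup G), a⁻¹ * (x⁻¹ * a * x) ∈ T)
    (hT : ∀ D : Subgroup G, IsTame P D → ∀ x ∈ Subgroup.normalizer (D : Set G),
      (∃ k : ℕ, orderOf x = p ^ k) → ∀ a ∈ D, a⁻¹ * (x⁻¹ * a * x) ∈ T) :
    (P : Subgroup G).focalSubgroup ≤ T := by
  have step : ∀ k, ∀ D : Subgroup G, IsTame P D → Nat.card (P : Subgroup G) - Nat.card D = k →
      ∀ x ∈ Subgroup.normalizer (D : Set G), ∀ a ∈ D, a⁻¹ * (x⁻¹ * a * x) ∈ T := by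
    intro k
    induction k using Nat.strong_induction_on with
    | _ k IH =>
    intro D hD hk x hx a ha
    have hDP := hD.le
    by_cases hDeq : D = (P : Subgroup G)
    · subst hDeq
      exact hN x hx a ha
    have hlt : D < (P : Subgroup G) := lt_of_le_of_ne hDP hDeq
    set N := Subgroup.normalizer (D : Set G) with hNdef
    -- the elements of `N` acting trivially modulo `T`
    let M₀ : Subgroup G :=
      { carrier := {y | y ∈ N ∧ ∀ b ∈ D, b⁻¹ * (y⁻¹ * b * y) ∈ T}
        one_mem' := ⟨one_mem _, fun b _ => by simp⟩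
        mul_mem' := by
          rintro y z ⟨hy, hy'⟩ ⟨hz, hz'⟩
          refine ⟨mul_mem hy hz, fun b hb => ?_⟩
          have h1 := mul_mem (hy' b hb) (hz' _ ((Subgroup.mem_normalizer_iff''.mp hy b).mp hb))
          convert h1 using 1
          group
        inv_mem' := by
          rintro y ⟨hy, hy'⟩
          refine ⟨inv_mem hy, fun b hb => ?_⟩
          have h1 := inv_mem (hy' _ ((Subgroup.mem_normalizer_iff.mp hy b).mp hb))
          convert h1 using 1
          group }
    suffices hM : x ∈ M₀ from hM.2 a ha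
    obtain ⟨Q, hQ⟩ := hD
    set S : Subgroup G := (P : Subgroup G) ⊓ N with hS
    have hSp : IsPGroup p (S.subgroupOf N) := (P.2.to_le inf_le_left).comap_subtype
    let S' : Sylow p N := hSp.toSylow hQ.2.1
    let K : Subgroup N := Subgroup.closure {z : N | ∃ j : ℕ, orderOf z = p ^ j}
    haveI hKn : K.Normal := by
      constructor
      intro n hn g
      have : (K.map (MulAut.conj g).toMonoidHom) ≤ K := by
        rw [MonoidHom.map_closure, Subgroup.closure_le]
        rintro _ ⟨z, ⟨j, hj⟩, rfl⟩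
        exact Subgroup.subset_closure ⟨j, by rw [orderOf_injective _ (MulAut.conj g).injective, hj]⟩
      exact this ⟨n, hn, rfl⟩
    have hKM : K ≤ M₀.subgroupOf N := by
      rw [Subgroup.closure_le]
      rintro z ⟨j, hj⟩
      exact ⟨z.2, hT D ⟨Q, hQ⟩ z z.2 ⟨j, by rw [Subgroup.orderOf_coe, hj]⟩⟩
    have hSK : (S' : Subgroup N) ≤ K := by
      intro z hz
      obtain ⟨j, hj⟩ := IsPGroup.iff_orderOf.mp S'.2 ⟨z, hz⟩
      exact Subgroup.subset_closure ⟨j, by rwa [← Subgroup.orderOf_coe] at hj⟩
    have htop := Sylow.normalizer_sup_eq_top' S' hSK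
    obtain ⟨y, hy, z, hz, hyz⟩ := Subgroup.mem_sup_of_normal_right.mp
      (htop.symm ▸ Subgroup.mem_top (⟨x, hx⟩ : N))
    have hzM : (z : G) ∈ M₀ := hKM hz
    have hyM : (y : G) ∈ M₀ := by
      refine ⟨y.2, fun b hb => ?_⟩
      have hlt' := lt_inf_normalizer_of_lt P.2 hlt
      have hcard : Nat.card D < Nat.card S := by
        by_contra hle
        exact hlt'.ne (Subgroup.eq_of_le_of_card_ge hlt'.le (not_lt.mp hle))
      have hch := (alperin P (S : Set G) (y : G) (fun s hs => hs.1) (fun s hs => by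
        have h1 := (Subgroup.mem_normalizer_iff''.mp hy ⟨s, hs.2⟩).mp
          (show (⟨s, hs.2⟩ : N) ∈ (S' : Subgroup N) from hs)
        exact (Subgroup.mem_subgroupOf.mp h1).1)).strengthen (Nat.card S)
          (Nat.card_coe_set_eq (S : Set G)).le
      refine hch.quot_mem (T := T) (fun E hE => ?_) b ⟨hDP hb, Subgroup.le_normalizer hb⟩
      refine IH _ ?_ E hE.1 rfl
      have h2 := Subgroup.card_le_of_le hE.1.le
      have h3 := hE.2
      omega
    have hxyz : (y : G) * (z : G) = x := congrArg Subtype.val hyz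
    exact hxyz ▸ mul_mem hyM hzM
  rw [Subgroup.focalSubgroup_def, Subgroup.closure_le]
  rintro _ ⟨hz, a, ha, u, rfl⟩
  have h2 : u * a⁻¹ * u⁻¹ ∈ (P : Subgroup G) := by
    have h1 := mul_mem (inv_mem ha) hz
    simpa [commutatorElement_def, mul_assoc] using h1
  have hch := alperin P {a⁻¹} u⁻¹ (fun b hb => by rw [Set.mem_singleton_iff.mp hb]; exact inv_mem ha)
    (fun b hb => by rw [Set.mem_singleton_iff.mp hb, inv_inv]; exact h2)
  have := hch.quot_mem (T := T) (fun D hD => step _ D hD rfl) a⁻¹ rfl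
  simpa [commutatorElement_def, mul_assoc] using this

end Cfsg.Agent.Transfer
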