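import Cfsg.Agent.Lib.Transfer.FunctorFusion
import Cfsg.Agent.Lib.Transfer.ConjFamily
import Cfsg.Agent.Lib.ConjFun.Basic
import Cfsg.Agent.Lib.Solvable.Basic

/-!
# Strong fusion: from the constrained sections to the whole group

`Fus p 𝓦 G`: the functors induced by `𝓦` control strong fusion in `G`.
* `familyControls_map`, `fus_congr`: transport along injective homomorphisms;
* `fus_of_coprime_quotient`: lifting through a normal `p'`-subgroup;
* `fus_step`: `Fus` for all smaller sections and for `G` when constrained gives `Fus` for `G`;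
* `fus_of_constrained_sections`.
-/

set_option autoImplicit false
set_option linter.style.haveILetI false

namespace Cfsg.Agent.Transfer

open Subgroup
open scoped Pointwise

universe u

variable {p : ℕ} {𝓦 : Set (∀ (Q : Type u) [Group Q], Subgroup Q)}

/-- The conjugacy functors induced on `G`. -/
abbrev sectionFamily (𝓦 : Set (∀ (Q : Type u) [Group Q], Subgroup Q)) (G : Type u) [Group G] :
    Set (Subgroup G → Subgroup G) :=
  (fun W => Cfsg.inducedFunctor (G := G) W) '' 𝓦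

/-- The family controls strong fusion in `G`. -/
abbrev Fus (p : ℕ) (𝓦 : Set (∀ (Q : Type u) [Group Q], Subgroup Q)) (G : Type u) [Group G] : Prop :=
  Cfsg.FamilyControlsStrongFusionIn p (sectionFamily 𝓦 G) ⊤

theorem LChain.mono_set {G : Type*} [Group G] {𝓛 : Set (Subgroup G)} {T : Subgroup G} {A : Set G}
    {g : G} (h : LChain 𝓛 T A g) : ∀ B : Set G, B ⊆ A → LChain 𝓛 T B g := by
  induction h with
  | one h1 => exact fun B hB => .one fun b hb => h1 b (hB hb)
  | step hL hy hT _ hg ih =>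
    exact fun B hB => .step hL hy (fun b hb => hT b (hB hb)) (ih _ (Set.image_mono hB))
      fun b hb => hg b (hB hb)

/-- Chains from a fusion chain all of whose steps are chains. -/
theorem lchain_of_fusionChain {G : Type*} [Group G] {𝓛 : Set (Subgroup G)} {T : Subgroup G}
    {C : Subgroup G → Prop}
    (hC : ∀ D, C D → ∀ x ∈ normalizer (D : Set G), LChain 𝓛 T (D : Set G) x)
    {A : Set G} {g : G} (h : FusionChain C A g) : LChain 𝓛 T A g⁻¹ := by
  induction h with
  | one A => exact LChain.one fun a _ => by simp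
  | @step A D x h hD hA hx _ ih =>
    rw [mul_inv_rev]
    refine LChain.trans ((hC D hD x⁻¹ (inv_mem hx)).mono_set A hA) h⁻¹ ?_
    simpa using ih

variable (h𝓦 : ∀ W ∈ 𝓦, Cfsg.IsCharPFunctor.{u} p W)
include h𝓦

theorem isConjugacyFunctor_sectionFamily {G : Type u} [Group G] [Finite G] :
    ∀ V ∈ sectionFamily 𝓦 G, Cfsg.IsConjugacyFunctor p V := by
  rintro _ ⟨W, hW, rfl⟩
  exact ConjFun.isConjugacyFunctor_inducedFunctor (h𝓦 W hW)

/-- Control in `H` gives control in its image under an injective homomorphism. -/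
theorem familyControls_map {G H : Type u} [Group G] [Group H] [Finite H] [Finite G] (f : H →* G)
    (hf : Function.Injective f) (h : Fus p 𝓦 H) :
    Cfsg.FamilyControlsStrongFusionIn p (sectionFamily 𝓦 G) f.range := by
  classical
  obtain ⟨T, -, hTp, hTi, hc⟩ := h
  refine ⟨T.map f, map_le_range f T, hTp.map f, ?_, fun A g hg hA hAg => ?_⟩
  · rw [MonoidHom.range_eq_map, relIndex_map_map_of_injective _ _ hf]
    exact hTi
  obtain ⟨g, rfl⟩ := hg
  have hpre : ∀ a ∈ A, ∃ b ∈ T, f b = a := fun a ha => hA ha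
  obtain ⟨n, c, h0, hs, hcT, hl⟩ := hc (f ⁻¹' A) g (mem_top g)
    (fun b hb => by
      obtain ⟨b', hb', he⟩ := hpre _ hb
      exact hf he ▸ hb')
    (by
      rintro _ ⟨b, hb, rfl⟩
      obtain ⟨b', hb', he⟩ := hAg ⟨f b, hb, rfl⟩
      have e : b' = g * b * g⁻¹ := hf (by rw [he]; simp)
      show g * b * g⁻¹ ∈ T
      rw [← e]; exact hb')
  refine ⟨n, fun i => f (c i), by simp [h0], fun i => ?_, fun i => ?_, fun a ha => ?_⟩
  · obtain ⟨_, ⟨W, hW, rfl⟩, hi⟩ := hs i
    refine ⟨_, ⟨W, hW, rfl⟩, ⟨c i.succ * (c i.castSucc)⁻¹, by simp⟩, ?_⟩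
    show f (c i.succ) * (f (c i.castSucc))⁻¹ ∈
      normalizer ((Cfsg.inducedFunctor W (T.map f) : Subgroup G) : Set G)
    rw [ConjFun.inducedFunctor_map (h𝓦 W hW) f T hTp hf.injOn, ← map_inv, ← map_mul]
    exact le_normalizer_map f ⟨_, hi.2, rfl⟩
  · rintro _ ⟨a, ha, rfl⟩
    obtain ⟨b, hb, rfl⟩ := hpre a ha
    exact ⟨_, hcT i ⟨b, ha, rfl⟩, by simp⟩
  · obtain ⟨b, hb, rfl⟩ := hpre a ha
    show f (c (Fin.last n)) * f b * (f (c (Fin.last n)))⁻¹ = f g * f b * (f g)⁻¹
    rw [← map_mul, ← map_inv, ← map_mul, hl b ha]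
    simp

theorem fus_congr {G H : Type u} [Group G] [Group H] [Finite H] [Finite G] (e : H ≃* G)
    (h : Fus p 𝓦 H) : Fus p 𝓦 G := by
  have h1 := familyControls_map h𝓦 e.toMonoidHom e.injective h
  rwa [MonoidHom.range_eq_top.mpr e.surjective] at h1

variable [Fact p.Prime] {G : Type u} [Group G] [Finite G]

/-- Fusion realised in an overgroup `M` of `S` with `Fus` is a chain in `G`. -/
theorem lchain_of_overgroup (S : Sylow p G) {M : Subgroup G} (hSM : (S : Subgroup G) ≤ M)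
    (hM : Fus p 𝓦 M) {A : Set G} {y : G} (hy : y ∈ M) (hA : ∀ a ∈ A, a ∈ (S : Subgroup G))
    (hAy : ∀ a ∈ A, y * a * y⁻¹ ∈ (S : Subgroup G)) :
    LChain (functorNormalizers (sectionFamily 𝓦 G) ⊤ (S : Subgroup G)) (S : Subgroup G) A y := by
  have hc := familyControls_map h𝓦 M.subtype M.subtype_injective hM
  rw [range_subtype] at hc
  refine LChain.lift le_rfl ?_ (lchain_of_familyControlsStrongFusionIn
    (isConjugacyFunctor_sectionFamily h𝓦) hSM S.2
    (fun hd => S.not_dvd_index (hd.trans (relIndex_dvd_index_of_le hSM))) hc hy hA hAy) hA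
  rintro _ ⟨W, hW, rfl⟩ z hz B - hBz
  exact LChain.single ⟨W, hW, rfl⟩ ⟨mem_top z, hz.2⟩ hBz

/-- Control lifts through a normal subgroup of order prime to `p`. -/
theorem fus_of_coprime_quotient (K : Subgroup G) [K.Normal] (hK : (Nat.card K).Coprime p)
    (h : Fus p 𝓦 (G ⧸ K)) : Fus p 𝓦 G := by
  obtain ⟨S⟩ : Nonempty (Sylow p G) := inferInstance
  set π := QuotientGroup.mk' K with hπdef
  have hπ : Function.Surjective π := QuotientGroup.mk'_surjective K
  have hker : π.ker = K := QuotientGroup.ker_mk' K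
  set Sb := S.mapSurjective hπ with hSb
  have hSK : Disjoint (S : Subgroup G) K := PCore.disjoint_of_isPGroup_of_coprime S.2 hK
  have hinj : Set.InjOn π ((S : Subgroup G) : Set G) := by
    intro a ha b hb hab
    have h1 : a⁻¹ * b ∈ K := QuotientGroup.eq.mp hab
    exact inv_mul_eq_one.mp (disjoint_def.mp hSK (mul_mem (inv_mem ha) hb) h1)
  -- lifting a chain
  have key : ∀ (Ab : Set (G ⧸ K)) (gb : G ⧸ K),
      LChain (functorNormalizers (sectionFamily 𝓦 (G ⧸ K)) ⊤ (Sb : Subgroup (G ⧸ K)))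
        (Sb : Subgroup (G ⧸ K)) Ab gb →
      ∀ A : Set G, (∀ a ∈ A, a ∈ (S : Subgroup G)) → π '' A = Ab → ∀ g : G,
      (∀ a ∈ A, g * a * g⁻¹ ∈ (S : Subgroup G)) →
      (∀ a ∈ A, π (g * a * g⁻¹) = gb * π a * gb⁻¹) →
      LChain (functorNormalizers (sectionFamily 𝓦 G) ⊤ (S : Subgroup G)) (S : Subgroup G) A g := by
    intro Ab gb hch
    induction hch with
    | @one Ab gb h1 =>
      intro A hA hAb g hg hgb
      refine .one fun a ha => hinj (hg a ha) (hA a ha) ?_
      rw [hgb a ha, h1 _ (hAb ▸ Set.mem_image_of_mem _ ha)]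
    | @step Ab gb yb hb L hL hyb hT hch' hgb' ih =>
      intro A hA hAb g hg hgb
      obtain ⟨_, ⟨W, hW, rfl⟩, rfl⟩ := hL
      set WS := Cfsg.inducedFunctor (G := G) W (S : Subgroup G) with hWS
      have hWmap : Cfsg.inducedFunctor (G := G ⧸ K) W (Sb : Subgroup (G ⧸ K)) = WS.map π := by
        rw [hSb, Sylow.coe_mapSurjective]
        exact ConjFun.inducedFunctor_map (h𝓦 W hW) π _ S.2 hinj
      have hyb' : yb ∈ normalizer
          ((Cfsg.inducedFunctor (G := G ⧸ K) W (Sb : Subgroup (G ⧸ K)) : Subgroup (G ⧸ K)) : Set (G ⧸ K)) :=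
        hyb.2
      rw [hWmap, ← ConjFun.map_normalizer_eq π hπ (by rwa [hker])
        (S.2.to_le (ConjFun.inducedFunctor_le W _))] at hyb'
      obtain ⟨y₀, hy₀, rfl⟩ := hyb'
      set N := normalizer (WS : Set G) with hN
      replace hy₀ : y₀ ∈ N := hy₀
      have hSN : (S : Subgroup G) ≤ N :=
        ConjFun.le_normalizer_functor (ConjFun.isConjugacyFunctor_inducedFunctor (h𝓦 W hW)) S.2
      -- correct `y₀` by an element of `K ∩ N`
      set B := (Subgroup.closure A).map (MulAut.conj y₀).toMonoidHom with hB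
      set L₀ := (S : Subgroup G) ⊔ (K ⊓ N) with hL₀
      have hclS : Subgroup.closure A ≤ (S : Subgroup G) := (closure_le _).mpr hA
      have hBL : B ≤ L₀ := by
        rw [hB, map_le_iff_le_comap, closure_le]
        intro a ha
        have h1 : π (y₀ * a * y₀⁻¹) ∈ (Sb : Subgroup (G ⧸ K)) := by
          simpa using hT _ (hAb ▸ Set.mem_image_of_mem π ha)
        obtain ⟨s, hs, hse⟩ := h1
        have h2 : s⁻¹ * (y₀ * a * y₀⁻¹) ∈ K := QuotientGroup.eq.mp hse
        have h3 : y₀ * a * y₀⁻¹ ∈ N := mul_mem (mul_mem hy₀ (hSN (hA a ha))) (inv_mem hy₀)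
        have h4 := mul_mem (mem_sup_left hs : s ∈ L₀)
          (mem_sup_right (mem_inf.mpr ⟨h2, mul_mem (inv_mem (hSN hs : s ∈ N)) h3⟩) : s⁻¹ * (y₀ * a * y₀⁻¹) ∈ L₀)
        show y₀ * a * y₀⁻¹ ∈ L₀
        simpa using h4
      have hBp : IsPGroup p B := (S.2.to_le hclS).map _
      obtain ⟨h, hh, hhB⟩ := ConjFun.exists_conj_le_of_relIndex S.2
        (fun hd => S.not_dvd_index (hd.trans (relIndex_dvd_index_of_le le_sup_left)) :
          ¬ p ∣ (S : Subgroup G).relIndex L₀) hBL hBp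
      have hnorm : (S : Subgroup G) ≤ normalizer ((K ⊓ N : Subgroup G) : Set G) := fun s hs =>
        mem_normalizer_of_conj_mem fun k hk =>
          mem_inf.mpr ⟨(inferInstance : K.Normal).conj_mem k hk.1 s,
            mul_mem (mul_mem (hSN hs : s ∈ N) (mem_inf.mp hk).2) (inv_mem (hSN hs : s ∈ N))⟩
      have hh' : h ∈ (↑(S : Subgroup G) * ↑(K ⊓ N) : Set G) := by
        rw [← coe_mul_of_left_le_normalizer_right _ _ hnorm]
        exact hh
      obtain ⟨s, hs, k, hk, rfl⟩ := hh'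
      set y := k * y₀ with hy
      have hyS : ∀ a ∈ A, y * a * y⁻¹ ∈ (S : Subgroup G) := by
        intro a ha
        have h1 := hhB ⟨_, ⟨a, subset_closure ha, rfl⟩, rfl⟩
        have h2 := mul_mem (mul_mem (inv_mem hs) h1) hs
        convert h2 using 1
        simp [hy, MulAut.conj_apply, mul_assoc]
      have hπk : π k = 1 := (QuotientGroup.eq_one_iff k).mpr hk.1
      have hπy : π y = π y₀ := by rw [hy, map_mul, hπk, one_mul]
      refine (LChain.trans (LChain.single (L := (⊤ : Subgroup G) ⊓ N)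
        (⟨_, ⟨W, hW, rfl⟩, rfl⟩ : (⊤ : Subgroup G) ⊓ N ∈
          functorNormalizers (sectionFamily 𝓦 G) ⊤ (S : Subgroup G))
        (mem_inf.mpr ⟨mem_top y, mul_mem (mem_inf.mp hk).2 hy₀⟩) hyS) (g * y⁻¹) ?_).congr'
          fun a _ => by group
      refine ih _ ?_ ?_ _ ?_ ?_
      · rintro _ ⟨a, ha, rfl⟩
        exact hyS a ha
      · rw [Set.image_image, ← hAb, Set.image_image]
        exact Set.image_congr fun a _ => by simp [hπy]
      · rintro _ ⟨a, ha, rfl⟩
        convert hg a ha using 1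
        group
      · rintro _ ⟨a, ha, rfl⟩
        have h1 := hgb' _ (hAb ▸ Set.mem_image_of_mem π ha)
        rw [← hgb a ha] at h1
        have e : g * y⁻¹ * (y * a * y⁻¹) * (g * y⁻¹)⁻¹ = g * a * g⁻¹ := by group
        rw [e, h1]
        simp [hπy]
  refine familyControlsStrongFusionIn_of_lchain le_top S.2
    (by rw [relIndex_top_right]; exact S.not_dvd_index) fun A g _ hA hAg =>
    key _ (π g) (lchain_of_familyControlsStrongFusionIn (isConjugacyFunctor_sectionFamily h𝓦)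
      le_top Sb.2 (by rw [relIndex_top_right]; exact Sb.not_dvd_index) h (mem_top _) ?_ ?_)
      A hA rfl g hAg fun a _ => by simp
  · rintro _ ⟨a, ha, rfl⟩
    exact ⟨a, hA a ha, rfl⟩
  · rintro _ ⟨a, ha, rfl⟩
    exact ⟨_, hAg a ha, by simp⟩

/-- Lifting a chain of `G/Q` for `Q = O_p(G) ≠ 1`. -/
private theorem exists_lift (S : Sylow p G) (Q : Subgroup G) [Q.Normal] (hQ : IsPGroup p Q)
    (hQS : Q ≤ (S : Subgroup G)) (hQmax : ∀ X : Subgroup G, X.Normal → IsPGroup p X → X ≤ Q)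
    (hsub : ∀ M : Subgroup G, M ≠ ⊤ → Fus p 𝓦 M)
    {Ab : Set (G ⧸ Q)} {gb : G ⧸ Q}
    (hch : LChain (functorNormalizers (sectionFamily 𝓦 (G ⧸ Q)) ⊤
      ((S : Subgroup G).map (QuotientGroup.mk' Q))) ((S : Subgroup G).map (QuotientGroup.mk' Q)) Ab gb) :
    ∀ A : Set G, (∀ a ∈ A, a ∈ (S : Subgroup G)) → QuotientGroup.mk' Q '' A = Ab →
      (∀ a ∈ Ab, gb * a * gb⁻¹ ∈ (S : Subgroup G).map (QuotientGroup.mk' Q)) →
      ∃ c : G, LChain (functorNormalizers (sectionFamily 𝓦 G) ⊤ (S : Subgroup G)) (S : Subgroup G) A c ∧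
        ∀ a ∈ A, c * a * c⁻¹ ∈ (S : Subgroup G) ∧
          QuotientGroup.mk' Q (c * a * c⁻¹) = gb * QuotientGroup.mk' Q a * gb⁻¹ := by
  set π := QuotientGroup.mk' Q with hπdef
  have hπ : Function.Surjective π := QuotientGroup.mk'_surjective Q
  have hker : π.ker = Q := QuotientGroup.ker_mk' Q
  have hcomap : ((S : Subgroup G).map π).comap π = (S : Subgroup G) := by
    rw [comap_map_eq, hker, sup_eq_left.mpr hQS]
  induction hch with
  | @one Ab gb h1 =>
    intro A hA hAb _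
    refine ⟨1, .one fun a _ => by simp, fun a ha => ⟨by simpa using hA a ha, ?_⟩⟩
    rw [h1 _ (hAb ▸ Set.mem_image_of_mem _ ha)]
    simp
  | @step Ab gb yb hb L hL hyb hT hch' hgb' ih =>
    intro A hA hAb hend
    obtain ⟨_, ⟨W, hW, rfl⟩, rfl⟩ := hL
    obtain ⟨y, rfl⟩ := hπ yb
    set Wb := Cfsg.inducedFunctor (G := G ⧸ Q) W ((S : Subgroup G).map π) with hWb
    set M := normalizer ((Wb.comap π : Subgroup G) : Set G) with hMdef
    have hyM : y ∈ M := by
      rw [hMdef, ← comap_normalizer_eq_of_surjective _ hπ]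
      exact hyb.2
    have hSM : (S : Subgroup G) ≤ M := fun s hs => by
      rw [hMdef, ← comap_normalizer_eq_of_surjective _ hπ]
      exact ConjFun.le_normalizer_functor (ConjFun.isConjugacyFunctor_inducedFunctor (h𝓦 W hW))
        (S.2.map π) ⟨s, hs, rfl⟩
    have hyS : ∀ a ∈ A, y * a * y⁻¹ ∈ (S : Subgroup G) := fun a ha => by
      have h1 := hT _ (hAb ▸ Set.mem_image_of_mem π ha)
      rw [← hcomap]
      simpa using h1
    have hchain : LChain (functorNormalizers (sectionFamily 𝓦 G) ⊤ (S : Subgroup G))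
        (S : Subgroup G) A y := by
      by_cases hS1 : (S : Subgroup G).map π = ⊥
      · -- then `S = Q`
        have hSQ : (S : Subgroup G) = Q :=
          le_antisymm (hker ▸ (Subgroup.map_eq_bot_iff _).mp hS1) hQS
        refine LChain.single ⟨_, ⟨W, hW, rfl⟩, rfl⟩ ⟨mem_top y, ?_⟩ hyS
        refine mem_normalizer_functor (ConjFun.isConjugacyFunctor_inducedFunctor (h𝓦 W hW)) S.2 ?_
        rw [hSQ, normalizer_eq_top_iff.mpr inferInstance]
        exact mem_top y
      refine lchain_of_overgroup h𝓦 S hSM (hsub M fun hM => ?_) hyM hA hyS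
      have hWne : Wb ≠ ⊥ := ConjFun.inducedFunctor_ne_bot (h𝓦 W hW) (S.2.map π) hS1
      have hX : IsPGroup p (Wb.comap π) :=
        ((S.2.map π).to_le (ConjFun.inducedFunctor_le W _)).comap_of_ker_isPGroup π (by rwa [hker])
      have h1 := hQmax _ (normalizer_eq_top_iff.mp hM) hX
      refine hWne (eq_bot_iff.mpr ?_)
      rw [← map_comap_eq_self_of_surjective hπ Wb]
      exact ((map_mono h1).trans ((Subgroup.map_eq_bot_iff Q).mpr hker.ge).le)
    obtain ⟨c, hc, hce⟩ := ih ((fun a => y * a * y⁻¹) '' A)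
      (by rintro _ ⟨a, ha, rfl⟩; exact hyS a ha)
      (by
        rw [Set.image_image, ← hAb, Set.image_image]
        exact Set.image_congr fun a _ => by simp)
      (by
        rintro _ ⟨a, ha, rfl⟩
        rw [← hgb' a ha]
        exact hend a ha)
    refine ⟨c * y, hchain.trans c hc, fun a ha => ?_⟩
    obtain ⟨h1, h2⟩ := hce _ ⟨a, ha, rfl⟩
    have e : c * y * a * (c * y)⁻¹ = c * (y * a * y⁻¹) * c⁻¹ := by group
    rw [e]
    refine ⟨h1, h2.trans ?_⟩
    rw [hgb' _ (hAb ▸ Set.mem_image_of_mem π ha)]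
    simp

omit h𝓦 in
/-- A `p`-element centralizing `O_p(G)` and `D/O_p(G)` lies in a member `D` of the family. -/
private theorem mem_of_stabilizes_series (P : Sylow p G) {D Q : Subgroup G} [Q.Normal] (hQD : Q ≤ D)
    (hD : IsGoldschmidt P D) {x : G} (hxP : x ∈ (P : Subgroup G))
    (hxQ : x ∈ centralizer (Q : Set G)) (hxD : ∀ d ∈ D, x * d * x⁻¹ * d⁻¹ ∈ Q) : x ∈ D := by
  obtain ⟨hDP, hC, hprod, -⟩ := hD
  set N := normalizer (D : Set G) with hN
  have hxN : x ∈ N := mem_normalizer_of_conj_mem fun d hd => by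
    have := mul_mem (hQD (hxD d hd)) hd
    simpa using this
  set X := pPrimePCore p N
  -- the stabilizer of the series
  let K : Subgroup N :=
    { carrier := {n | (n : G) ∈ centralizer (Q : Set G) ∧ ∀ d ∈ D, (n : G) * d * (n : G)⁻¹ * d⁻¹ ∈ Q}
      one_mem' := ⟨one_mem _, fun d _ => by simp⟩
      mul_mem' := fun {a b} ha hb => ⟨mul_mem ha.1 hb.1, fun d hd => by
        have h1 := mul_mem (ha.2 _ ((mem_normalizer_iff.mp b.2 d).mp hd)) (hb.2 d hd)
        convert h1 using 1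
        simp only [Subgroup.coe_mul]
        group⟩
      inv_mem' := fun {a} ha => ⟨inv_mem ha.1, fun d hd => by
        have h1 := inv_mem (ha.2 _ ((mem_normalizer_iff''.mp a.2 d).mp hd))
        convert h1 using 1
        simp only [Subgroup.coe_inv]
        group⟩ }
  haveI hKn : K.Normal := ⟨fun n hn g => ⟨(inferInstance : (centralizer (Q : Set G)).Normal).conj_mem _ hn.1 _,
    fun d hd => by
      have h1 := (inferInstance : Q.Normal).conj_mem _
        (hn.2 _ ((mem_normalizer_iff''.mp g.2 d).mp hd)) (g : G)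
      convert h1 using 1
      simp only [Subgroup.coe_mul, Subgroup.coe_inv]
      group⟩⟩
  set π := QuotientGroup.mk' (pPrimeCore p N)
  have hKX : K ≤ X := by
    have hKp : IsPGroup p (K.map π) := by
      rintro ⟨_, n, hn, rfl⟩
      obtain ⟨j, hj⟩ := ((P.2.to_le hDP).to_le hQD).exists_card_eq
      obtain ⟨hn1, hn2⟩ := hn
      -- `n ^ |Q|` centralizes `D`
      have hcen : (n : G) ^ p ^ j ∈ centralizer (D : Set G) := by
        rw [mem_centralizer_iff]
        intro d hd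
        set c := (n : G) * d * (n : G)⁻¹ * d⁻¹ with hc
        have hcQ : c ∈ Q := hn2 d hd
        have hnc : Commute (n : G) c := (mem_centralizer_iff.mp hn1 c hcQ).symm
        have hit : ∀ i : ℕ, (n : G) ^ i * d * ((n : G) ^ i)⁻¹ = c ^ i * d := by
          intro i
          induction i with
          | zero => simp
          | succ i ih =>
            calc (n : G) ^ (i + 1) * d * ((n : G) ^ (i + 1))⁻¹
                = n * ((n : G) ^ i * d * ((n : G) ^ i)⁻¹) * (n : G)⁻¹ := by rw [pow_succ']; group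
              _ = n * c ^ i * d * (n : G)⁻¹ := by rw [ih]; group
              _ = c ^ i * n * d * (n : G)⁻¹ := by rw [(hnc.pow_right i).eq]
              _ = c ^ (i + 1) * d := by rw [pow_succ, hc]; group
        have h1 := hit (p ^ j)
        have hcq : c ^ p ^ j = 1 :=
          orderOf_dvd_iff_pow_eq_one.mp (hj ▸ Subgroup.orderOf_dvd_natCard Q hcQ)
        rw [hcq, one_mul] at h1
        exact (mul_inv_eq_iff_eq_mul.mp h1).symm
      obtain ⟨z, hz, hze⟩ := hC hcen
      have hzn : z = n ^ p ^ j := Subtype.ext (hze.trans (by simp))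
      have h2 : π (n ^ p ^ j) ∈ pCore p (N ⧸ pPrimeCore p N) := by
        rw [← PCore.map_pPrimePCore]
        exact ⟨_, hzn ▸ hz, rfl⟩
      obtain ⟨i, hi⟩ := PCore.isPGroup_pCore ⟨_, h2⟩
      refine ⟨j + i, Subtype.ext ?_⟩
      have h3 : (π (n ^ p ^ j)) ^ p ^ i = 1 := by simpa using congrArg Subtype.val hi
      rw [map_pow, ← pow_mul, ← pow_add] at h3
      simpa using h3
    have hn := hKn.map π (QuotientGroup.mk'_surjective _)
    exact map_le_iff_le_comap.mp (PCore.le_pCore hKp)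
  have hxX : x ∈ X.map N.subtype := ⟨⟨x, hxN⟩, hKX ⟨hxQ, hxD⟩, rfl⟩
  rw [← hprod.2.2.2.2] at hxX
  have hnorm : D ≤ normalizer (((pPrimeCore p N).map N.subtype : Subgroup G) : Set G) :=
    le_normalizer.trans (by
      intro y hy
      have : (⟨y, hy⟩ : N) ∈ normalizer ((pPrimeCore p N : Subgroup N) : Set N) := by
        rw [normalizer_eq_top]; exact mem_top _
      exact le_normalizer_map N.subtype ⟨_, this, rfl⟩)
  have hxm : x ∈ (((pPrimeCore p N).map N.subtype : Subgroup G) : Set G) * (D : Set G) := by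
    rw [← coe_mul_of_right_le_normalizer_left _ _ hnorm]
    exact hxX
  obtain ⟨_, ⟨o, ho, rfl⟩, d, hd, rfl⟩ := hxm
  have hoP : (o : G) ∈ (P : Subgroup G) := by
    simpa using mul_mem hxP (inv_mem (hDP hd))
  have ho1 : o = 1 := disjoint_def.mp (PCore.disjoint_of_isPGroup_of_coprime
    (P.2.comap_subtype (K := N)) PCore.coprime_card_pPrimeCore) hoP ho
  subst ho1
  simpa using hd

/-- The inductive step, asking only for the subgroups and the quotients used. -/
theorem fus_step' (hsub : ∀ M : Subgroup G, M ≠ ⊤ → Fus p 𝓦 M)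
    (hcop : Cfsg.pPrimeCore p G ≠ ⊥ → Fus p 𝓦 (G ⧸ Cfsg.pPrimeCore p G))
    (hquo : Cfsg.pCore p G ≠ ⊥ → Cfsg.pPrimeCore p G = ⊥ →
      ¬ centralizer ((Cfsg.pCore p G : Subgroup G) : Set G) ≤ Cfsg.pCore p G →
      Fus p 𝓦 (G ⧸ Cfsg.pCore p G))
    (hcon : centralizer ((Cfsg.pCore p G : Subgroup G) : Set G) ≤ Cfsg.pCore p G → Fus p 𝓦 G) :
    Fus p 𝓦 G := by
  obtain ⟨S⟩ : Nonempty (Sylow p G) := inferInstance
  set Q := Cfsg.pCore p G with hQdef
  have hQp : IsPGroup p Q := PCore.isPGroup_pCore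
  have hQS : Q ≤ (S : Subgroup G) := PCore.pCore_le_sylow S
  have hQmax : ∀ X : Subgroup G, X.Normal → IsPGroup p X → X ≤ Q := fun X hX hXp => by
    haveI := hX
    exact PCore.le_pCore hXp
  -- trivial core: every local subgroup is proper
  by_cases hQ1 : Q = ⊥
  · refine familyControlsStrongFusionIn_top_of_local (isGoodPred_fullyNormalized S)
      (isConjugacyFunctor_sectionFamily h𝓦) fun E hES hE _ => ?_
    have hc := familyControls_map h𝓦 (normalizer (E : Set G)).subtype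
      (Subgroup.subtype_injective _) (hsub _ fun h => hE ?_)
    · rwa [range_subtype] at hc
    · exact le_bot_iff.mp (hQ1 ▸ hQmax E (normalizer_eq_top_iff.mp h) (S.2.to_le hES))
  by_cases hO : Cfsg.pPrimeCore p G ≠ ⊥
  · exact fus_of_coprime_quotient h𝓦 _ PCore.coprime_card_pPrimeCore (hcop hO)
  rw [not_not] at hO
  by_cases hCQ : centralizer (Q : Set G) ≤ Q
  · exact hcon hCQ
  set π := QuotientGroup.mk' Q with hπdef
  have hπ : Function.Surjective π := QuotientGroup.mk'_surjective Q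
  have hker : π.ker = Q := QuotientGroup.ker_mk' Q
  set Sb := (S : Subgroup G).map π with hSb
  have hcomap : Sb.comap π = (S : Subgroup G) := by
    rw [hSb, comap_map_eq, hker, sup_eq_left.mpr hQS]
  set C := centralizer (Q : Set G) with hCdef
  -- `X`: a subgroup `> Q`, central in `S` modulo `Q`, inside `Q C`
  set Xb := Sb ⊓ C.map π ⊓ centralizer (Sb : Set (G ⧸ Q)) with hXb
  have hXne : Xb ≠ ⊥ := by
    have hne : (S : Subgroup G) ⊓ C ≤ Q → False := by
      intro hle
      refine hCQ ?_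
      have h := le_pPrimeCore_sup_of_inf_le S C Q
        (fun c hc d hd => (mem_centralizer_iff.mp hc d hd).symm) hle
      rwa [hO, bot_sup_eq] at h
    haveI hCn : (C.map π).Normal := Subgroup.Normal.map inferInstance π hπ
    set R := (C.map π).subgroupOf Sb with hR
    haveI : R.Normal := inferInstance
    have hR1 : R ≠ ⊥ := by
      intro h0
      refine hne fun s hs => ?_
      have hs' : (⟨π s, ⟨s, hs.1, rfl⟩⟩ : Sb) ∈ R := ⟨s, hs.2, rfl⟩
      rw [h0, mem_bot] at hs'
      exact (QuotientGroup.eq_one_iff s).mp (congrArg Subtype.val hs')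
    haveI : Group.IsNilpotent Sb := (S.2.map π).isNilpotent
    have h := Solvable.inf_center_ne_bot (N := R) hR1
    intro h0
    refine h (eq_bot_iff.mpr ?_)
    rintro z ⟨hz, hzc⟩
    have hmem : (z : G ⧸ Q) ∈ Xb := ⟨⟨z.2, hz⟩, mem_centralizer_iff.mpr fun y hy =>
      congrArg Subtype.val (mem_center_iff.mp hzc ⟨y, hy⟩)⟩
    rw [h0, mem_bot] at hmem
    exact Subtype.ext hmem
  set X := Xb.comap π with hXdef
  have hXS : X ≤ (S : Subgroup G) := hcomap ▸ comap_mono (inf_le_left.trans inf_le_left)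
  have hSX : (S : Subgroup G) ≤ normalizer (X : Set G) := fun s hs => by
    refine mem_normalizer_of_conj_mem fun z hz => ?_
    show π (s * z * s⁻¹) ∈ Xb
    have h1 : π s * π z = π z * π s :=
      mem_centralizer_iff.mp (hz : π z ∈ Xb).2 (π s) ⟨s, hs, rfl⟩
    rw [map_mul, map_mul, map_inv, h1, mul_inv_cancel_right]
    exact hz
  have hXM : normalizer (X : Set G) ≠ ⊤ := fun h => hXne (eq_bot_iff.mpr (by
    rw [← map_comap_eq_self_of_surjective hπ Xb]
    exact (map_mono (hQmax X (normalizer_eq_top_iff.mp h) (S.2.to_le hXS))).trans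
      ((Subgroup.map_eq_bot_iff Q).mpr hker.ge).le))
  have hquot : Fus p 𝓦 (G ⧸ Q) := hquo hQ1 hO hCQ
  set 𝓛 := functorNormalizers (sectionFamily 𝓦 G) ⊤ (S : Subgroup G)
  -- downward induction over the tame intersections
  suffices main : ∀ k, ∀ D : Subgroup G, IsTame S D → Nat.card (S : Subgroup G) - Nat.card D = k →
      ∀ x ∈ normalizer (D : Set G), LChain 𝓛 (S : Subgroup G) (D : Set G) x by
    refine familyControlsStrongFusionIn_of_lchain le_top S.2
      (by rw [relIndex_top_right]; exact S.not_dvd_index) fun A g _ hA hAg => ?_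
    have := lchain_of_fusionChain (fun D hD => main _ D hD rfl)
      (alperin S A g⁻¹ hA fun a ha => by rw [inv_inv]; exact hAg a ha)
    rwa [inv_inv] at this
  intro k
  induction k using Nat.strong_induction_on with
  | _ k IH =>
  intro D hD hk x hx
  have hDS := hD.le
  have hQD : Q ≤ D := by
    obtain ⟨P', rfl, -, -⟩ := hD
    exact le_inf hQS (PCore.pCore_le_sylow P')
  rcases isGoldschmidt_or_enlarge S hD with hgood | ⟨R, hDR, hRS, hR⟩
  swap
  · obtain ⟨c, hc, hy⟩ := hR x⁻¹ (inv_mem hx)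
    have hch := (alperin S (R : Set G) (c⁻¹ * x⁻¹) hRS
      (fun a ha => hRS ((mem_normalizer_iff''.mp hy a).mp ha))).strengthen (Nat.card R)
        (Nat.card_coe_set_eq (R : Set G)).le
    have hlt : Nat.card D < Nat.card R := by
      by_contra hle
      exact hDR.ne (eq_of_le_of_card_ge hDR.le (not_lt.mp hle))
    have h1 := lchain_of_fusionChain (fun E hE => IH _ (by
      have h2 := card_le_of_le hE.1.le
      have h3 := hE.2
      omega) E hE.1 rfl) hch
    refine (h1.mono_set _ hDR.le).congr' fun d hd => ?_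
    have h2 : d * c = c * d := mem_centralizer_iff.mp hc d hd
    calc x * d * x⁻¹ = x * (d * c) * c⁻¹ * x⁻¹ := by group
      _ = x * (c * d) * c⁻¹ * x⁻¹ := by rw [h2]
      _ = (c⁻¹ * x⁻¹)⁻¹ * d * (c⁻¹ * x⁻¹)⁻¹⁻¹ := by group
  -- a member of the family: realise `x` modulo `Q`, then the rest inside `N(X)`
  have hxmem : ∀ d ∈ D, x * d * x⁻¹ ∈ D := fun d hd => (mem_normalizer_iff.mp hx d).mp hd
  have hqch := lchain_of_familyControlsStrongFusionIn (isConjugacyFunctor_sectionFamily h𝓦)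
    le_top (S.2.map π) (by
      rw [relIndex_top_right]
      exact (S.mapSurjective hπ).not_dvd_index) hquot (mem_top (π x))
    (A := π '' (D : Set G)) (by rintro _ ⟨d, hd, rfl⟩; exact ⟨d, hDS hd, rfl⟩)
    (by rintro _ ⟨d, hd, rfl⟩; exact ⟨_, hDS (hxmem d hd), by simp only [hπdef, map_mul, map_inv]⟩)
  obtain ⟨c, hc, hce⟩ := exists_lift h𝓦 S Q hQp hQS hQmax hsub hqch (D : Set G) hDS rfl
    (by rintro _ ⟨d, hd, rfl⟩; exact ⟨_, hDS (hxmem d hd), by simp only [hπdef, map_mul, map_inv]⟩)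
  set k₀ := x⁻¹ * c with hk₀
  have hk₀Q : ∀ d ∈ D, π (k₀ * d * k₀⁻¹) = π d := fun d hd => by
    have e : k₀ * d * k₀⁻¹ = x⁻¹ * (c * d * c⁻¹) * x := by rw [hk₀]; group
    have h : π (c * d * c⁻¹) = π x * π d * (π x)⁻¹ := (hce d hd).2
    rw [e, map_mul, map_mul, h, map_inv]
    group
  have hDQ : ∀ (z : G) (d : G), d ∈ D → π z = π d → z ∈ D := fun z d hd he => by
    have h1 : d⁻¹ * z ∈ Q := QuotientGroup.eq.mp he.symm
    simpa using mul_mem hd (hQD h1)
  have hk₀N : k₀ ∈ normalizer (D : Set G) :=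
    mem_normalizer_of_conj_mem fun d hd => hDQ _ d hd (hk₀Q d hd)
  have hXD : X ≤ D := by
    intro z hz
    obtain ⟨⟨-, c₀, hc₀, hce₀⟩, hzc⟩ := (id hz : π z ∈ Xb)
    have hq : z⁻¹ * c₀ ∈ Q := QuotientGroup.eq.mp hce₀.symm
    have hc₀X : c₀ ∈ X := by
      show π c₀ ∈ Xb
      rw [hce₀]
      exact hz
    have hc₀D : c₀ ∈ D := by
      refine mem_of_stabilizes_series S hQD hgood (hXS hc₀X) hc₀ fun d hd => ?_
      have h1 : π d * π c₀ = π c₀ * π d :=
        mem_centralizer_iff.mp (hc₀X : π c₀ ∈ Xb).2 (π d) ⟨d, hDS hd, rfl⟩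
      have h2 : π (c₀ * d * c₀⁻¹ * d⁻¹) = 1 := by
        rw [map_mul, map_mul, map_mul, map_inv, map_inv, ← h1, mul_inv_cancel_right, mul_inv_cancel]
      exact (QuotientGroup.eq_one_iff _).mp h2
    simpa using mul_mem hc₀D (inv_mem (hQD hq))
  have hk₀X : k₀ ∈ normalizer (X : Set G) := mem_normalizer_of_conj_mem fun z hz => by
    show π (k₀ * z * k₀⁻¹) ∈ Xb
    rw [hk₀Q z (hXD hz)]
    exact hz
  have hk₀ch : LChain 𝓛 (S : Subgroup G) (D : Set G) k₀⁻¹ :=
    lchain_of_overgroup h𝓦 S hSX (hsub _ hXM) (inv_mem hk₀X) hDS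
      fun d hd => hDS ((mem_normalizer_iff.mp (inv_mem hk₀N) d).mp hd)
  have e : (fun d => k₀⁻¹ * d * k₀⁻¹⁻¹) '' (D : Set G) = (D : Set G) := by
    ext d
    constructor
    · rintro ⟨a, ha, rfl⟩
      exact (mem_normalizer_iff.mp (inv_mem hk₀N) a).mp ha
    · intro hd
      exact ⟨_, (mem_normalizer_iff.mp hk₀N d).mp hd, by group⟩
  have htot := hk₀ch.trans c (e.symm ▸ hc)
  have exc : c * k₀⁻¹ = x := by rw [hk₀]; group
  exact exc ▸ htot

/-- The inductive step. -/
theorem fus_step (hsmall : ∀ (X : Type u) [Group X], Cfsg.Involves X G → Nat.card X < Nat.card G →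
      Fus p 𝓦 X)
    (hcon : centralizer ((Cfsg.pCore p G : Subgroup G) : Set G) ≤ Cfsg.pCore p G → Fus p 𝓦 G) :
    Fus p 𝓦 G :=
  fus_step' h𝓦 (fun M hM => hsmall M (ConjFun.involves_subgroup M) (ConjFun.card_lt_of_ne_top hM))
    (fun hO => hsmall _ (ConjFun.involves_quotient _) (ConjFun.card_quotient_lt hO))
    (fun hQ _ _ => hsmall _ (ConjFun.involves_quotient _) (ConjFun.card_quotient_lt hQ)) hcon

/-- A factorization by two functor normalizers gives control. -/
theorem fus_of_factor {W₁ W₂ : ∀ (Q : Type u) [Group Q], Subgroup Q} (h₁ : W₁ ∈ 𝓦) (h₂ : W₂ ∈ 𝓦)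
    (T : Sylow p G)
    (hfac : ∀ x : G, ∃ a ∈ normalizer
        ((Cfsg.inducedFunctor (G := G) W₁ (T : Subgroup G) : Subgroup G) : Set G),
      ∃ b ∈ normalizer ((Cfsg.inducedFunctor (G := G) W₂ (T : Subgroup G) : Subgroup G) : Set G),
        x = a * b) : Fus p 𝓦 G := by
  refine familyControlsStrongFusionIn_of_lchain le_top T.2
    (by rw [relIndex_top_right]; exact T.not_dvd_index) fun A g _ hA hAg => ?_
  obtain ⟨a, ha, b, hb, rfl⟩ := hfac g
  set N₁ := normalizer ((Cfsg.inducedFunctor (G := G) W₁ (T : Subgroup G) : Subgroup G) : Set G)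
  set N₂ := normalizer ((Cfsg.inducedFunctor (G := G) W₂ (T : Subgroup G) : Subgroup G) : Set G)
  have hT₁ : (T : Subgroup G) ≤ N₁ :=
    ConjFun.le_normalizer_functor (isConjugacyFunctor_sectionFamily h𝓦 _ ⟨W₁, h₁, rfl⟩) T.2
  have hT₂ : (T : Subgroup G) ≤ N₂ :=
    ConjFun.le_normalizer_functor (isConjugacyFunctor_sectionFamily h𝓦 _ ⟨W₂, h₂, rfl⟩) T.2
  set B := (Subgroup.closure A).map (MulAut.conj b).toMonoidHom with hB
  have hBp : IsPGroup p B := (T.2.to_le ((closure_le _).mpr hA)).map _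
  have hBN : B ≤ N₁ ⊓ N₂ := by
    rw [hB, map_le_iff_le_comap, closure_le]
    intro x hx
    refine mem_inf.mpr ⟨?_, mul_mem (mul_mem hb (hT₂ (hA x hx))) (inv_mem hb)⟩
    have h1 := mul_mem (mul_mem (inv_mem ha)
      (hT₁ (hAg x hx) : a * b * x * (a * b)⁻¹ ∈ N₁)) ha
    show b * x * b⁻¹ ∈ N₁
    convert h1 using 1
    group
  obtain ⟨m, hm, hle⟩ := ConjFun.exists_conj_le_of_relIndex T.2
    (fun hd => T.not_dvd_index (hd.trans (relIndex_dvd_index_of_le (le_inf hT₁ hT₂))) :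
      ¬ p ∣ (T : Subgroup G).relIndex (N₁ ⊓ N₂)) hBN hBp
  have hmT : ∀ x ∈ A, m * b * x * (m * b)⁻¹ ∈ (T : Subgroup G) := fun x hx => by
    have h1 := hle ⟨_, ⟨x, subset_closure hx, rfl⟩, rfl⟩
    simpa [MulAut.conj_apply, mul_assoc] using h1
  refine (LChain.trans (LChain.single (L := (⊤ : Subgroup G) ⊓ N₂)
    (⟨_, ⟨W₂, h₂, rfl⟩, rfl⟩ : (⊤ : Subgroup G) ⊓ N₂ ∈
      functorNormalizers (sectionFamily 𝓦 G) ⊤ (T : Subgroup G)) (mem_inf.mpr ⟨mem_top _, mul_mem (mem_inf.mp hm).2 hb⟩) hmT)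
    (a * m⁻¹) (LChain.single (L := (⊤ : Subgroup G) ⊓ N₁) (⟨_, ⟨W₁, h₁, rfl⟩, rfl⟩ :
      (⊤ : Subgroup G) ⊓ N₁ ∈ functorNormalizers (sectionFamily 𝓦 G) ⊤ (T : Subgroup G))
      (mem_inf.mpr ⟨mem_top _, mul_mem ha (inv_mem (mem_inf.mp hm).1)⟩) ?_)).congr'
        fun x _ => by group
  rintro _ ⟨x, hx, rfl⟩
  convert hAg x hx using 1
  group

/-- **Constrained sections suffice.** -/
theorem fus_of_constrained_sections
    (hcon : ∀ (K R : Subgroup G) [hR : (R.subgroupOf K).Normal],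
      centralizer ((Cfsg.pCore p (↥K ⧸ R.subgroupOf K) : Subgroup (↥K ⧸ R.subgroupOf K)) :
          Set (↥K ⧸ R.subgroupOf K)) ≤ Cfsg.pCore p (↥K ⧸ R.subgroupOf K) →
      Fus p 𝓦 (↥K ⧸ R.subgroupOf K))
    (X : Type u) [Group X] (hX : Cfsg.Involves X G) : Fus p 𝓦 X := by
  suffices H : ∀ (n : ℕ) (X : Type u) [Group X], Cfsg.Involves X G → Nat.card X = n →
      Fus p 𝓦 X from H _ X hX rfl
  intro n
  induction n using Nat.strong_induction_on with
  | _ n IH =>
  intro X _ hX hn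
  obtain ⟨K, R, hR, ⟨e⟩⟩ := hX
  haveI : Finite X := Finite.of_equiv _ e.toEquiv
  refine fus_congr h𝓦 e (fus_step h𝓦 (fun Z _ hZ hlt => ?_) (hcon K R))
  rw [Nat.card_congr e.toEquiv, hn] at hlt
  exact IH _ hlt Z (ConjFun.involves_trans hZ (ConjFun.involves_of_section K R)) rfl

end Cfsg.Agent.Transfer
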