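import Mathlib.GroupTheory.Transfer
import Mathlib.GroupTheory.Sylow
import Mathlib.GroupTheory.Abelianization.Defs
import Mathlib.GroupTheory.Frattini

/-!
Transfer evaluated on central elements, and maximal subgroups of p-groups.
-/

namespace Cfsg.Agent.Transfer

open scoped IsMulCommutative
open Subgroup

variable {G : Type*} [Group G]

/-- A central element of the derived subgroup is killed by the index of any abelian subgroup. -/
theorem pow_index_eq_one_of_central_commutator (H : Subgroup G) [H.FiniteIndex]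
    [IsMulCommutative H] {x : G} (hz : x ∈ center G) (hc : x ∈ commutator G) :
    x ^ H.index = 1 := by
  have key : ∀ (k : ℕ) (g₀ : G), g₀⁻¹ * x ^ k * g₀ ∈ H → g₀⁻¹ * x ^ k * g₀ = x ^ k := by
    intro k g₀ _
    have := mem_center_iff.1 (pow_mem hz k) g₀⁻¹
    rw [this, inv_mul_cancel_right]
  have h1 := MonoidHom.transfer_eq_pow (MonoidHom.id H) x key
  have h2 : MonoidHom.transfer (MonoidHom.id H) x = 1 :=
    Abelianization.commutator_subset_ker _ hc
  rw [h2] at h1
  exact (congrArg Subtype.val h1).symm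

/-- An element whose order is prime to `n` and with `x ^ n = 1` is trivial. -/
theorem eq_one_of_pow_of_coprime {x : G} {m n : ℕ} (hm : x ^ m = 1) (hn : x ^ n = 1)
    (h : Nat.Coprime m n) : x = 1 := by
  rw [← orderOf_eq_one_iff]
  exact Nat.eq_one_of_dvd_coprimes h (orderOf_dvd_of_pow_eq_one hm) (orderOf_dvd_of_pow_eq_one hn)

/-- An abelian Hall subgroup meets `G' ∩ Z(G)` trivially. -/
theorem hall_inf_commutator_inf_center [Finite G] (H : Subgroup G) [IsMulCommutative H]
    (hHall : Nat.Coprime (Nat.card H) H.index) : H ⊓ commutator G ⊓ center G = ⊥ := by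
  refine eq_bot_iff.2 fun x ⟨⟨hxH, hxc⟩, hxz⟩ => ?_
  refine mem_bot.2 (eq_one_of_pow_of_coprime ?_
    (pow_index_eq_one_of_central_commutator H hxz hxc) hHall)
  exact congrArg Subtype.val (pow_card_eq_one' (x := (⟨x, hxH⟩ : H)))

/-- With an abelian Sylow p-subgroup, central elements of the derived subgroup have order prime to p. -/
theorem not_dvd_orderOf_central_commutator [Finite G] {p : ℕ} [Fact p.Prime] (P : Sylow p G)
    [IsMulCommutative P] {x : G} (hz : x ∈ center G) (hc : x ∈ commutator G) :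
    ¬ p ∣ orderOf x := fun h =>
  P.not_dvd_index (h.trans (orderOf_dvd_of_pow_eq_one
    (pow_index_eq_one_of_central_commutator (P : Subgroup G) hz hc)))

variable {p : ℕ} [Fact p.Prime]

/-- A maximal subgroup of a finite p-group is normal, with commutative quotient killed by p. -/
theorem coatom_pGroup [Finite G] (hG : IsPGroup p G) {M : Subgroup G} (hM : IsCoatom M) :
    M.Normal ∧ (∀ x : G, x ^ p ∈ M) ∧ (∀ x y : G, x * y * x⁻¹ * y⁻¹ ∈ M) := by
  have : Group.IsNilpotent G := hG.isNilpotent
  have hn : M.Normal :=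
    Subgroup.NormalizerCondition.normal_of_coatom M Group.normalizerCondition_of_isNilpotent hM
  have hgen : ∀ a : G ⧸ M, a ≠ 1 → Subgroup.zpowers a = ⊤ := by
    intro a ha
    have h1 : M ≤ (Subgroup.zpowers a).comap (QuotientGroup.mk' M) := by
      intro m hm
      rw [mem_comap, QuotientGroup.mk'_apply, (QuotientGroup.eq_one_iff m).2 hm]
      exact one_mem _
    rcases hM.le_iff.1 h1 with h2 | h2
    · have h3 := congrArg (Subgroup.map (QuotientGroup.mk' M)) h2
      rwa [map_comap_eq_self_of_surjective (QuotientGroup.mk'_surjective M),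
        map_top_of_surjective _ (QuotientGroup.mk'_surjective M)] at h3
    · exfalso
      apply ha
      have h3 := congrArg (Subgroup.map (QuotientGroup.mk' M)) h2
      rw [map_comap_eq_self_of_surjective (QuotientGroup.mk'_surjective M)] at h3
      rw [QuotientGroup.map_mk'_self, zpowers_eq_bot] at h3
      exact h3
  refine ⟨hn, fun x => ?_, fun x y => ?_⟩
  · rw [← QuotientGroup.eq_one_iff, QuotientGroup.mk_pow]
    by_contra hne
    obtain ⟨k, hk⟩ := mem_zpowers_iff.1 ((hgen _ hne) ▸ mem_top (x : G ⧸ M))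
    obtain ⟨m, hm⟩ := hG x
    have hq : ((x : G ⧸ M)) ^ (p ^ m) = 1 := by rw [← QuotientGroup.mk_pow, hm]; rfl
    apply hne
    have hd : (orderOf (x : G ⧸ M) : ℤ) ∣ (p : ℤ) * k - 1 := by
      rw [orderOf_dvd_iff_zpow_eq_one, zpow_sub, zpow_mul, zpow_natCast, hk, zpow_one,
        mul_inv_cancel]
    obtain ⟨j, hj, hj'⟩ := (Nat.dvd_prime_pow Fact.out).1 (orderOf_dvd_of_pow_eq_one hq)
    rcases Nat.eq_zero_or_pos j with rfl | hpos
    · rw [pow_zero] at hj'
      rw [orderOf_eq_one_iff.1 hj', one_pow]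
    · exfalso
      rw [hj'] at hd
      have h1 : (p : ℤ) ∣ (p : ℤ) * k - 1 :=
        dvd_trans (Int.natCast_dvd_natCast.2 (dvd_pow_self p hpos.ne')) hd
      have h2 : (p : ℤ) ∣ 1 := by
        have := Int.dvd_sub (dvd_mul_right (p : ℤ) k) h1
        simpa using this
      exact (Fact.out : p.Prime).not_dvd_one (Int.natCast_dvd_natCast.1 h2)
  · rw [← QuotientGroup.eq_one_iff]
    simp only [QuotientGroup.mk_mul, QuotientGroup.mk_inv]
    by_cases hx : (x : G ⧸ M) = 1
    · simp [hx]
    obtain ⟨k, hk⟩ := mem_zpowers_iff.1 ((hgen _ hx) ▸ mem_top (y : G ⧸ M))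
    rw [← hk]; group

end Cfsg.Agent.Transfer
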