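import Cfsg.Agent.Lib.Transfer.FocalLocal
import Cfsg.Agent.Lib.Transfer.Tate
import Cfsg.Agent.Lib.Transfer.Burnside
import Cfsg.Agent.Lib.Transfer.Frobenius
import Cfsg.Agent.Lib.Transfer.OmegaTwo
import Cfsg.Agent.Lib.PGroup.Frattini
import Cfsg.Prelude.Def_TwoFusion

/-!
# Normal `p`-complements from strongly closed subgroups of one order

* `commute_of_mem_normalizer_zpowers`: `p` the smallest prime; a `p'`-element normalizing a cyclic
  `p`-group centralizes it.
* `inf_pResidual_le_commutator`: `P ∩ O^p(G) ≤ P ∩ G'`, the focal subgroup.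
* `isStronglyClosed_of_conj_inf_normalizer_le`: an `H`-subgroup of `P` is strongly closed in `P`.
* `hasNormalPComplement_of_stronglyClosed_order`: `p` the smallest prime, all subgroups of `P` of order
  `p ^ d` (and of order 4 if `p ^ d = 2`) strongly closed, `1 ≤ d < n`: there is a normal
  `p`-complement.
-/

set_option autoImplicit false
set_option linter.style.haveILetI false

namespace Cfsg.Agent.Transfer

open Subgroup

variable {G : Type*} [Group G] [Finite G] {p : ℕ} [Fact p.Prime]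

theorem coprime_sub_one_of_smallest (hmin : ∀ q : ℕ, q.Prime → q ∣ Nat.card G → p ≤ q) (x : G) :
    (orderOf x).Coprime (p - 1) := by
  refine Nat.coprime_of_dvd fun q hq h1 h2 => ?_
  have h3 := hmin q hq (h1.trans (orderOf_dvd_natCard x))
  have h4 : 0 < p - 1 := by have := (Fact.out : p.Prime).two_le; omega
  have h5 := Nat.le_of_dvd h4 h2
  omega

/-- For the smallest prime, a `p'`-element normalizing a cyclic `p`-group centralizes it. -/
theorem commute_of_mem_normalizer_zpowers
    (hmin : ∀ q : ℕ, q.Prime → q ∣ Nat.card G → p ≤ q) {w x : G} {k : ℕ} (hw : orderOf w = p ^ k)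
    (hx : x ∈ normalizer (zpowers w : Set G)) (hcop : (orderOf x).Coprime p) : Commute x w := by
  set N := normalizer (zpowers w : Set G)
  have h1 : orderOf ((zpowers w).normalizerMonoidHom ⟨x, hx⟩) ∣ orderOf x :=
    ((orderOf_map_dvd _ _).trans (dvd_of_eq (Subgroup.orderOf_mk x hx)))
  have h2 : orderOf ((zpowers w).normalizerMonoidHom ⟨x, hx⟩) ∣ Nat.totient (p ^ k) := by
    have h := orderOf_dvd_natCard ((zpowers w).normalizerMonoidHom ⟨x, hx⟩)
    rwa [IsCyclic.card_mulAut, Nat.card_zpowers, hw] at h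
  have h3 : (orderOf x).Coprime (Nat.totient (p ^ k)) := by
    rcases Nat.eq_zero_or_pos k with rfl | hk
    · simp
    · rw [Nat.totient_prime_pow Fact.out hk]
      exact (hcop.pow_right _).mul_right (coprime_sub_one_of_smallest hmin x)
  have h4 : (⟨x, hx⟩ : N) ∈ (zpowers w).normalizerMonoidHom.ker :=
    orderOf_eq_one_iff.mp (Nat.eq_one_of_dvd_coprimes h3 h1 h2)
  rw [normalizerMonoidHom_ker] at h4
  exact (mem_centralizer_iff.mp h4 w (mem_zpowers w)).symm

/-- `P ∩ O^p(G) ≤ G'`. -/
theorem inf_pResidual_le_commutator (P : Sylow p G) :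
    (P : Subgroup G) ⊓ Cfsg.pResidual p G ≤ _root_.commutator G := by
  rintro x ⟨hxP, hxR⟩
  obtain ⟨k, hk⟩ := P.2.exists_card_eq
  let π : G →* Abelianization G := Abelianization.of
  let f : G →* Abelianization G := (powMonoidHom (P : Subgroup G).index).comp π
  have hle : Cfsg.pResidual p G ≤ f.ker := by
    rw [Cfsg.pResidual, closure_le]
    intro y hy
    have h1 : orderOf y ∣ (P : Subgroup G).index := by
      refine Nat.Coprime.dvd_of_dvd_mul_left ((hy : (orderOf y).Coprime p).pow_right k) ?_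
      rw [← hk, card_mul_index]
      exact orderOf_dvd_natCard y
    show π y ^ (P : Subgroup G).index = 1
    rw [← map_pow, orderOf_dvd_iff_pow_eq_one.mp h1, map_one]
  have h2 : π x ^ (P : Subgroup G).index = 1 := hle hxR
  have h3 : orderOf (π x) = 1 := by
    refine Nat.eq_one_of_dvd_coprimes
      (((Fact.out : p.Prime).coprime_iff_not_dvd.mpr P.not_dvd_index).symm.pow_right k)
      (orderOf_dvd_of_pow_eq_one h2) ((orderOf_map_dvd π x).trans ?_)
    rw [← hk]
    exact Subgroup.orderOf_dvd_natCard _ hxP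
  rw [orderOf_eq_one_iff] at h3
  exact (QuotientGroup.eq_one_iff x).mp h3

omit [Fact p.Prime] in
/-- If `E^g ∩ N(E) ≤ E` for all `g` then `E` is strongly closed in any `p`-group containing it. -/
theorem isStronglyClosed_of_conj_inf_normalizer_le {E R : Subgroup G} [Fact p.Prime] (hR : IsPGroup p R)
    (hER : E ≤ R) (h : ∀ g : G, E.map (MulAut.conj g).toMonoidHom ⊓ normalizer (E : Set G) ≤ E) :
    Cfsg.IsStronglyClosed E R := by
  have hRN : R ≤ normalizer (E : Set G) := by
    set N := R ⊓ normalizer (E : Set G) with hN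
    by_contra hne
    have hlt : N < R := lt_of_le_of_ne inf_le_left fun he => hne (he ▸ inf_le_right)
    obtain ⟨y, hy, hyN⟩ := SetLike.exists_of_lt (lt_inf_normalizer_of_lt hR hlt)
    refine hyN ⟨hy.1, mem_normalizer_of_conj_mem fun e he => ?_⟩
    have h1 := (mem_normalizer_iff.mp hy.2 e).mp ⟨hER he, le_normalizer he⟩
    exact h y ⟨⟨e, he, rfl⟩, h1.2⟩
  exact ⟨hER, fun x hx g hg => h g ⟨⟨x, hx, rfl⟩, hRN hg⟩⟩

/-- In a finite `p`-group, an element in every maximal subgroup through `a` is in `⟨a⟩Φ`. -/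
theorem mem_sup_frattini_of_forall_coatom {P : Type*} [Group P] [Finite P] (hP : IsPGroup p P)
    {a u : P} (h : ∀ M : Subgroup P, IsCoatom M → a ∈ M → u ∈ M) :
    u ∈ zpowers a ⊔ frattini P := by
  set A := zpowers a ⊔ frattini P
  haveI : A.Normal := Subgroup.Normal.of_commutator_le P
    ((PGroup.commutator_le_frattini hP).trans le_sup_right)
  have hb : frattini (P ⧸ A) = ⊥ := by
    rw [← PGroup.map_frattini hP _ (QuotientGroup.mk'_surjective A), Subgroup.map_eq_bot_iff,
      QuotientGroup.ker_mk']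
    exact le_sup_right
  by_contra hu
  have h1 : QuotientGroup.mk' A u ∉ frattini (P ⧸ A) := by
    rw [hb, mem_bot]
    exact fun h => hu ((QuotientGroup.eq_one_iff u).mp h)
  obtain ⟨M, hM, huM⟩ : ∃ M : Subgroup (P ⧸ A), IsCoatom M ∧ QuotientGroup.mk' A u ∉ M := by
    by_contra hno
    simp only [not_exists, not_and, not_not] at hno
    exact h1 (PGroup.le_frattini_of_forall_coatom (fun M hM => zpowers_le.mpr (hno M hM))
      (mem_zpowers _))
  refine huM (h _ (isCoatom_comap_of_surjective (QuotientGroup.mk'_surjective A) hM) ?_)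
  show QuotientGroup.mk' A a ∈ M
  rw [QuotientGroup.mk'_apply, (QuotientGroup.eq_one_iff a).mpr (mem_sup_left (mem_zpowers a))]
  exact one_mem M

/-- All subgroups of `P` of order `p ^ d` (of order 2 or 4 if `p ^ d = 2`) are strongly closed. -/
def StronglyClosedOrder (P : Sylow p G) (d : ℕ) : Prop :=
  ∀ E : Subgroup G, E ≤ (P : Subgroup G) →
    (Nat.card E = p ^ d ∨ (p ^ d = 2 ∧ Nat.card E = 4)) → Cfsg.IsStronglyClosed E (P : Subgroup G)

theorem StronglyClosedOrder.le_normalizer {P : Sylow p G} {d : ℕ} (h : StronglyClosedOrder P d)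
    {E : Subgroup G} (hE : E ≤ (P : Subgroup G))
    (hcard : Nat.card E = p ^ d ∨ (p ^ d = 2 ∧ Nat.card E = 4)) :
    (P : Subgroup G) ≤ normalizer (E : Set G) := fun y hy =>
  mem_normalizer_of_conj_mem fun e he =>
    (h E hE hcard).2 e he y (mul_mem (mul_mem hy (hE he)) (inv_mem hy))

theorem StronglyClosedOrder.subgroup {P : Sylow p G} {d : ℕ} (h : StronglyClosedOrder P d)
    {H : Subgroup G} (hPH : (P : Subgroup G) ≤ H) : StronglyClosedOrder (P.subtype hPH) d := by
  intro E hE hcard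
  rw [← card_map_of_injective H.subtype_injective] at hcard
  have hEP : E.map H.subtype ≤ (P : Subgroup G) := by
    rintro _ ⟨e, he, rfl⟩
    exact hE he
  refine ⟨hE, fun x hx g hg => ?_⟩
  obtain ⟨e, he, hee⟩ := (h _ hEP hcard).2 _ ⟨x, hx, rfl⟩ (g : G) hg
  exact (H.subtype_injective (hee.trans (by simp : _ = H.subtype (g * x * g⁻¹)))) ▸ he

/-- A normal cyclic subgroup of order `p ^ d`. -/
private theorem of_normal_cyclic (hmin : ∀ q : ℕ, q.Prime → q ∣ Nat.card G → p ≤ q) (P : Sylow p G)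
    {d : ℕ} (hd : 1 ≤ d) (h : StronglyClosedOrder P d) {w : G} (hwP : w ∈ (P : Subgroup G))
    (hw : orderOf w = p ^ d) (hn : (zpowers w).Normal) : Cfsg.HasNormalPComplement p G := by
  refine hasNormalPComplement_of_centralizer P fun Q₀ hQ₀ x hx₀ hcop => ?_
  set Q := Q₀ ⊔ zpowers w
  have hQ : Q ≤ (P : Subgroup G) := sup_le hQ₀ (zpowers_le.mpr hwP)
  have hx : x ∈ normalizer (Q : Set G) := by
    refine mem_normalizer_of_conj_mem fun e he => ?_
    have h1 : Q ≤ Q.comap (MulAut.conj x).toMonoidHom := sup_le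
      (fun e he => mem_sup_left ((mem_normalizer_iff.mp hx₀ e).mp he))
      (fun e he => mem_sup_right (hn.conj_mem e he x))
    exact h1 he
  suffices hC : x ∈ centralizer (Q : Set G) from centralizer_le (le_sup_left : Q₀ ≤ Q) hC
  have hwN : ∀ y : G, y ∈ normalizer (zpowers w : Set G) := fun y =>
    normalizer_eq_top_iff.mpr hn ▸ mem_top y
  have hxw : Commute x w := commute_of_mem_normalizer_zpowers hmin hw (hwN x) hcop
  set C := centralizer ((zpowers w : Subgroup G) : Set G)
  haveI : (zpowers w).Normal := hn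
  have hxC : x ∈ C := mem_centralizer_iff.mpr fun y hy => by
    obtain ⟨i, rfl⟩ := mem_zpowers_iff.mp hy
    exact (hxw.zpow_right i).eq.symm
  have hQC : IsPGroup p ((Q ⊓ C : Subgroup G)) := P.2.to_le (inf_le_left.trans hQ)
  have hxQC : x ∈ normalizer ((Q ⊓ C : Subgroup G) : Set G) :=
    mem_normalizer_of_conj_mem fun e he => ⟨(mem_normalizer_iff.mp hx e).mp he.1,
      (inferInstance : C.Normal).conj_mem e he.2 x⟩
  -- `x` centralizes the elements of order `p ^ d` of `Q`
  have hkey : ∀ v ∈ Q, orderOf v = p ^ d ∨ (p ^ d = 2 ∧ orderOf v = 4) → Commute x v := by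
    intro v hv hov
    have hcard : Nat.card (zpowers v) = p ^ d ∨ (p ^ d = 2 ∧ Nat.card (zpowers v) = 4) := by
      rwa [Nat.card_zpowers]
    have hxv : x ∈ normalizer (zpowers v : Set G) := mem_normalizer_of_conj_mem fun e he =>
      (h _ (zpowers_le.mpr (hQ hv)) hcard).2 e he x
        (hQ ((mem_normalizer_iff.mp hx e).mp (zpowers_le.mpr hv he)))
    obtain ⟨k, hk⟩ := IsPGroup.iff_orderOf.mp P.2 ⟨v, hQ hv⟩
    exact commute_of_mem_normalizer_zpowers hmin
      ((Subgroup.orderOf_mk v (hQ hv)).symm.trans hk) hxv hcop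
  have hfix : x ∈ centralizer ((Q ⊓ C : Subgroup G) : Set G) := by
    refine mem_centralizer_of_fix_small_real _ hQC hxQC hcop fun y hy hsm => ?_
    by_cases hy1 : y = 1
    · rw [hy1]; exact Commute.one_right x
    obtain ⟨j, hj, hoy⟩ : ∃ j, (j = 1 ∨ (p = 2 ∧ j = 2)) ∧ orderOf y = p ^ j := by
      rcases hsm with h1 | ⟨h2, h4, -⟩
      · exact ⟨1, Or.inl rfl, by rw [orderOf_eq_prime h1 hy1, pow_one]⟩
      · subst h2
        by_cases h5 : y ^ 2 = 1
        · exact ⟨1, Or.inl rfl, by rw [orderOf_eq_prime h5 hy1, pow_one]⟩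
        · exact ⟨2, Or.inr ⟨rfl, rfl⟩, orderOf_eq_prime_pow (p := 2) (n := 1) h5 h4⟩
    rcases lt_trichotomy j d with hjd | hjd | hjd
    · -- `y w` has order `p ^ d`
      have hyw : Commute y w := (mem_centralizer_iff.mp hy.2 w (mem_zpowers w)).symm
      have h1 : Commute x (y * w) := by
        refine hkey _ (mul_mem hy.1 (mem_sup_right (mem_zpowers w))) (Or.inl ?_)
        obtain ⟨c, rfl⟩ : ∃ c, d = c + 1 := ⟨d - 1, by omega⟩
        have hyc : y ^ p ^ c = 1 := orderOf_dvd_iff_pow_eq_one.mp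
          (hoy ▸ pow_dvd_pow p (by omega))
        refine orderOf_eq_prime_pow ?_ ?_
        · rw [hyw.mul_pow, hyc, one_mul, ← orderOf_dvd_iff_pow_eq_one, hw]
          intro hdvd
          have := (Nat.pow_dvd_pow_iff_le_right (Fact.out : p.Prime).one_lt).mp hdvd
          omega
        · rw [hyw.mul_pow, pow_succ, pow_mul, hyc, one_pow, one_mul, ← pow_succ, ← hw,
            pow_orderOf_eq_one]
      have h2 := h1.mul_right hxw.inv_right
      rwa [mul_inv_cancel_right] at h2
    · exact hkey y hy.1 (Or.inl (hjd ▸ hoy))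
    · have hj2 : p = 2 ∧ j = 2 ∧ d = 1 := by
        rcases hj with rfl | ⟨h2, rfl⟩
        · omega
        · exact ⟨h2, rfl, by omega⟩
      refine hkey y hy.1 (Or.inr ⟨?_, ?_⟩)
      · rw [hj2.2.2, pow_one]; exact hj2.1
      · rw [hoy, hj2.1, hj2.2.1]; rfl
  rw [mem_centralizer_iff]
  intro q (hq : q ∈ Q)
  set c := x * q * x⁻¹ * q⁻¹ with hc
  have hcmem : c ∈ Q ⊓ C := by
    refine ⟨(mul_mem ((mem_normalizer_iff.mp hx q).mp hq) (inv_mem hq) : x * q * x⁻¹ * q⁻¹ ∈ Q), ?_⟩
    have h2 := mul_mem hxC ((inferInstance : C.Normal).conj_mem _ (inv_mem hxC) q)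
    have e : x * (q * x⁻¹ * q⁻¹) = c := by rw [hc]; group
    exact e ▸ h2
  have hxc : Commute x c := (mem_centralizer_iff.mp hfix c hcmem).symm
  have hiter : ∀ i : ℕ, x ^ i * q * (x ^ i)⁻¹ = c ^ i * q := by
    intro i
    induction i with
    | zero => simp
    | succ i ih =>
      calc x ^ (i + 1) * q * (x ^ (i + 1))⁻¹ = x * (x ^ i * q * (x ^ i)⁻¹) * x⁻¹ := by
            rw [pow_succ']; group
        _ = x * c ^ i * q * x⁻¹ := by rw [ih]; group
        _ = c ^ i * x * q * x⁻¹ := by rw [(hxc.pow_right i).eq]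
        _ = c ^ (i + 1) * q := by rw [pow_succ, hc]; group
  have hc1 : c = 1 := by
    rw [← orderOf_eq_one_iff]
    obtain ⟨k, hk⟩ := hQC.exists_card_eq
    refine Nat.eq_one_of_dvd_coprimes (hcop.pow_right k) ?_
      (hk ▸ Subgroup.orderOf_dvd_natCard _ hcmem)
    have h1 := hiter (orderOf x)
    rw [pow_orderOf_eq_one, one_mul, inv_one, mul_one] at h1
    exact orderOf_dvd_of_pow_eq_one (right_eq_mul.mp h1)
  rw [hc, mul_inv_eq_one, mul_inv_eq_iff_eq_mul] at hc1
  exact hc1.symm

private theorem main_aux : ∀ (N : ℕ) (G : Type*) [Group G] [Finite G], Nat.card G = N →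
    (∀ q : ℕ, q.Prime → q ∣ Nat.card G → p ≤ q) → ∀ (P : Sylow p G) (d : ℕ), 1 ≤ d →
    p ^ d < Nat.card (P : Subgroup G) → StronglyClosedOrder P d →
    Cfsg.HasNormalPComplement p G := by
  intro N
  induction N using Nat.strong_induction_on with
  | _ N IH =>
  intro G _ _ hN hmin P d hd hdP h
  subst hN
  obtain ⟨n, hn⟩ := P.2.exists_card_eq
  have hdn : d < n := (Nat.pow_lt_pow_iff_right (Fact.out : p.Prime).one_lt).mp (hn ▸ hdP)
  by_cases hA : ∃ w ∈ (P : Subgroup G), orderOf w = p ^ d ∧ (zpowers w).Normal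
  · obtain ⟨w, hwP, hw, hwn⟩ := hA
    exact of_normal_cyclic hmin P hd h hwP hw hwn
  refine hasNormalPComplement_of_inf_pResidual_le_frattini P ?_
  refine (le_inf (inf_pResidual_le_commutator P) inf_le_left).trans ?_
  rw [commutator_inf_eq_focalSubgroup_of_coprime]
  swap
  · exact (sylow_coprime P).symm.coprime_dvd_right (relIndex_dvd_card _ _)
  set T := (frattini (P : Subgroup G)).map (P : Subgroup G).subtype with hT
  haveI hFn : (frattini (P : Subgroup G)).Normal := inferInstance
  let π : (P : Subgroup G) →* (P : Subgroup G) ⧸ frattini (P : Subgroup G) := QuotientGroup.mk' _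
  -- fused elements have the same line in `P/Φ(P)`
  have key : ∀ (a : (P : Subgroup G)) (g : G) (hg : g⁻¹ * (a : G) * g ∈ (P : Subgroup G)),
      π ⟨_, hg⟩ ∈ zpowers (π a) := by
    intro a g hg
    obtain ⟨j, hj⟩ := IsPGroup.iff_orderOf.mp P.2 a
    have hj' : orderOf (a : G) = p ^ j := (Subgroup.orderOf_coe a).trans hj
    by_cases hjd : j ≤ d
    · have hmem : (⟨_, hg⟩ : (P : Subgroup G)) ∈ zpowers a ⊔ frattini (P : Subgroup G) := by
        refine mem_sup_frattini_of_forall_coatom P.2 fun M hM haM => ?_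
        have hMi := PGroup.index_of_isCoatom P.2 hM
        have hMd : p ^ d ∣ Nat.card M := by
          have h1 := card_mul_index M
          rw [hMi, hn, show n = (n - 1) + 1 by omega, pow_succ] at h1
          rw [Nat.eq_of_mul_eq_mul_right (Fact.out : p.Prime).pos h1]
          exact pow_dvd_pow p (by omega)
        obtain ⟨E, hEcard, haE⟩ := Sylow.exists_subgroup_card_pow_prime_le p hMd
          (zpowers (⟨a, haM⟩ : M)) (by rw [Nat.card_zpowers, Subgroup.orderOf_mk, hj]) hjd
        set E' := (E.map M.subtype).map (P : Subgroup G).subtype with hE'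
        have hcard : Nat.card E' = p ^ d := by
          rw [hE', card_map_of_injective (subtype_injective _),
            card_map_of_injective (subtype_injective _), hEcard]
        have h1 := (h E' (map_subtype_le _) (Or.inl hcard)).2 (a : G)
          ⟨a, ⟨⟨a, haM⟩, haE (mem_zpowers _), rfl⟩, rfl⟩ g⁻¹ (by rwa [inv_inv])
        rw [inv_inv] at h1
        obtain ⟨b, ⟨b', -, rfl⟩, hb⟩ := h1
        have hb' : (⟨_, hg⟩ : (P : Subgroup G)) = M.subtype b' := Subtype.ext hb.symm
        rw [hb']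
        exact b'.2
      have h2 : π ⟨_, hg⟩ ∈ (zpowers a ⊔ frattini (P : Subgroup G)).map π := ⟨_, hmem, rfl⟩
      rw [Subgroup.map_sup, MonoidHom.map_zpowers,
        (Subgroup.map_eq_bot_iff _).mpr (QuotientGroup.ker_mk' _).ge, sup_bot_eq] at h2
      exact h2
    · set w := (a : G) ^ p ^ (j - d) with hw
      have hwo : orderOf w = p ^ d := by
        rw [hw, orderOf_pow_of_dvd (pow_ne_zero _ (Fact.out : p.Prime).ne_zero)
          (hj' ▸ pow_dvd_pow p (by omega)), hj', Nat.pow_div (by omega) (Fact.out : p.Prime).pos]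
        congr 1
        omega
      have hwP : w ∈ (P : Subgroup G) := pow_mem a.2 _
      have hcard : Nat.card (zpowers w) = p ^ d := by rw [Nat.card_zpowers, hwo]
      have hgw : g ∈ normalizer (zpowers w : Set G) := by
        have h1 : g⁻¹ ∈ normalizer (zpowers w : Set G) := by
          refine mem_normalizer_of_conj_mem fun e he => ?_
          obtain ⟨i, rfl⟩ := mem_zpowers_iff.mp he
          refine (h _ (zpowers_le.mpr hwP) (Or.inl hcard)).2 _ he _ ?_
          rw [← _root_.conj_zpow]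
          refine zpow_mem ?_ i
          rw [inv_inv, hw]
          have e1 : g⁻¹ * (a : G) ^ p ^ (j - d) * g = (g⁻¹ * a * g) ^ p ^ (j - d) := by
            have := (conj_pow (i := p ^ (j - d)) (a := g⁻¹) (b := (a : G))).symm
            simpa using this
          rw [e1]
          exact pow_mem hg _
        simpa using inv_mem h1
      set H := normalizer (zpowers w : Set G) with hH
      have hPH : (P : Subgroup G) ≤ H := h.le_normalizer (zpowers_le.mpr hwP) (Or.inl hcard)
      have hlt : Nat.card H < Nat.card G := by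
        refine lt_of_le_of_ne (Subgroup.card_le_card_group H) fun he => hA ⟨w, hwP, hwo, ?_⟩
        exact normalizer_eq_top_iff.mp (Subgroup.eq_top_of_card_eq H he)
      have hHnp : Cfsg.HasNormalPComplement p H := IH _ hlt H rfl
        (fun q hq hqd => hmin q hq (hqd.trans (card_subgroup_dvd_card H))) (P.subtype hPH) d hd
        (by rw [Sylow.coe_subtype, Nat.card_congr (subgroupOfEquivOfLe hPH).toEquiv]; exact hdP)
        (h.subgroup hPH)
      obtain ⟨K, hK, hKc⟩ := (hasNormalPComplement_iff_exists (P.subtype hPH)).mp hHnp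
      obtain ⟨y, hy, hye⟩ := controlsElementFusion_self_of_isComplement' hKc ⟨a, hPH a.2⟩ a.2
        ⟨g⁻¹, inv_mem hgw⟩ (show g⁻¹ * (a : G) * g⁻¹⁻¹ ∈ (P : Subgroup G) by rwa [inv_inv])
      have hy' : (y : G) ∈ (P : Subgroup G) := hy
      have e : (⟨_, hg⟩ : (P : Subgroup G)) = ⟨y, hy'⟩ * a * ⟨y, hy'⟩⁻¹ := by
        apply Subtype.ext
        have h2 := congrArg Subtype.val hye
        simp only [Subgroup.coe_mul, Subgroup.coe_inv, inv_inv] at h2 ⊢
        exact h2.symm
      have hc : π ⟨y, hy'⟩ * π a = π a * π ⟨y, hy'⟩ := by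
        rw [← map_mul, ← map_mul]
        refine QuotientGroup.eq.mpr (PGroup.commutator_le_frattini P.2 ?_)
        rw [_root_.commutator_def]
        have := Subgroup.commutator_mem_commutator (mem_top (a⁻¹ : (P : Subgroup G)))
          (mem_top (⟨y, hy'⟩⁻¹ : (P : Subgroup G)))
        convert this using 1
        simp [commutatorElement_def, mul_assoc]
      rw [e, map_mul, map_mul, map_inv, hc, mul_inv_cancel_right]
      exact mem_zpowers _
  -- hence elements normalizing a subgroup of `P` act trivially modulo `Φ(P)`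
  have trivial_mod : ∀ D : Subgroup G, D ≤ (P : Subgroup G) → ∀ x ∈ normalizer (D : Set G),
      ∀ a ∈ D, a⁻¹ * (x⁻¹ * a * x) ∈ T := by
    intro D hDP x hx a ha
    have hmem : ∀ b ∈ D, x⁻¹ * b * x ∈ D := fun b hb => (mem_normalizer_iff''.mp hx b).mp hb
    set a₁ : (P : Subgroup G) := ⟨_, hDP (hmem a ha)⟩
    set a₀ : (P : Subgroup G) := ⟨a, hDP ha⟩
    suffices hs : π a₁ = π a₀ by
      refine ⟨a₀⁻¹ * a₁, QuotientGroup.eq.mp hs.symm, rfl⟩
    obtain ⟨k, hk⟩ := mem_zpowers_iff.mp (key a₀ x (hDP (hmem a ha)))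
    have hiter : ∀ i : ℕ, ∃ hb : (x ^ i)⁻¹ * a * x ^ i ∈ D,
        π ⟨_, hDP hb⟩ = π a₀ ^ (k ^ i) := by
      intro i
      induction i with
      | zero => exact ⟨by simpa using ha, by simp [a₀]⟩
      | succ i ih =>
        obtain ⟨hb, hbe⟩ := ih
        have e : (x ^ (i + 1))⁻¹ * a * x ^ (i + 1) = x⁻¹ * ((x ^ i)⁻¹ * a * x ^ i) * x := by
          rw [pow_succ]; group
        refine ⟨e ▸ hmem _ hb, ?_⟩
        set b := (x ^ i)⁻¹ * a * x ^ i
        set f := b * (a ^ (k ^ i))⁻¹ with hf
        have hfD : f ∈ D := mul_mem hb (inv_mem (zpow_mem ha _))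
        have hf1 : π ⟨f, hDP hfD⟩ = 1 := by
          have : (⟨f, hDP hfD⟩ : (P : Subgroup G)) = ⟨b, hDP hb⟩ * (a₀ ^ (k ^ i))⁻¹ :=
            Subtype.ext (by simp [hf, a₀])
          rw [this, map_mul, map_inv, map_zpow, hbe, mul_inv_cancel]
        have hf2 : π ⟨_, hDP (hmem f hfD)⟩ = 1 := by
          have := key ⟨f, hDP hfD⟩ x (hDP (hmem f hfD))
          rwa [hf1, zpowers_one_eq_bot, mem_bot] at this
        have e2 : (⟨_, hDP (e ▸ hmem _ hb)⟩ : (P : Subgroup G)) =
            ⟨_, hDP (hmem f hfD)⟩ * a₁ ^ (k ^ i) := by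
          apply Subtype.ext
          simp only [Subgroup.coe_mul, Subgroup.coe_zpow, a₁]
          have e3 : (x⁻¹ * a * x) ^ (k ^ i) = x⁻¹ * a ^ (k ^ i) * x := by
            have := _root_.conj_zpow (i := k ^ i) (a := x⁻¹) (b := a)
            simpa using this
          rw [e, e3, hf]
          group
        rw [e2, map_mul, hf2, one_mul, map_zpow, ← hk, ← zpow_mul, pow_succ', ]
    obtain ⟨hb, hbe⟩ := hiter (orderOf x)
    have hb' : (⟨_, hDP hb⟩ : (P : Subgroup G)) = a₀ := Subtype.ext (by simp [a₀])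
    rw [hb'] at hbe
    show π a₁ = π a₀
    rw [show π a₁ = π a₀ ^ k from hk.symm]
    by_cases h0 : π a₀ = 1
    · rw [h0, one_zpow]
    have hap : π a₀ ^ p = 1 := by
      rw [← map_pow]
      exact (QuotientGroup.eq_one_iff _).mpr (PGroup.pow_mem_frattini P.2 a₀)
    have ho : orderOf (π a₀) = p := orderOf_eq_prime hap h0
    haveI : Fact (1 < p) := ⟨(Fact.out : p.Prime).one_lt⟩
    have hz : ((k : ZMod p)) ^ orderOf x = 1 := by
      have h1 : π a₀ ^ (k ^ orderOf x - 1) = 1 := by
        rw [zpow_sub, ← hbe, zpow_one, mul_inv_cancel]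
      rw [← orderOf_dvd_iff_zpow_eq_one, ho, ← ZMod.intCast_zmod_eq_zero_iff_dvd] at h1
      simpa [sub_eq_zero] using h1
    have hk0 : (k : ZMod p) ≠ 0 := fun h2 => by
      rw [h2, zero_pow (orderOf_pos x).ne'] at hz
      exact zero_ne_one hz
    have hk1 : (k : ZMod p) = 1 := orderOf_eq_one_iff.mp (Nat.eq_one_of_dvd_coprimes
      (coprime_sub_one_of_smallest hmin x) (orderOf_dvd_of_pow_eq_one hz)
      (ZMod.orderOf_dvd_card_sub_one hk0))
    have h3 : π a₀ ^ (k - 1) = 1 := by
      rw [← orderOf_dvd_iff_zpow_eq_one, ho, ← ZMod.intCast_zmod_eq_zero_iff_dvd]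
      simp [hk1]
    calc π a₀ ^ k = π a₀ ^ ((k - 1) + 1) := by rw [sub_add_cancel]
      _ = π a₀ := by rw [zpow_add, h3, one_mul, zpow_one]
  exact focalSubgroup_le_of_local P T (trivial_mod _ le_rfl)
    fun D hD x hx _ => trivial_mod D hD.le x hx

/-- If, for the smallest prime `p`, all subgroups of `P` of order `p ^ d` (and of order 4 if `p ^ d = 2`)
are strongly closed in `P`, `1 ≤ d`, `p ^ d < |P|`, then `G` has a normal `p`-complement. -/
theorem hasNormalPComplement_of_stronglyClosed_order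
    (hmin : ∀ q : ℕ, q.Prime → q ∣ Nat.card G → p ≤ q) (P : Sylow p G) (d : ℕ) (hd : 1 ≤ d)
    (hdP : p ^ d < Nat.card (P : Subgroup G)) (h : StronglyClosedOrder P d) :
    Cfsg.HasNormalPComplement p G :=
  main_aux _ G rfl hmin P d hd hdP h

end Cfsg.Agent.Transfer
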