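import Cfsg.Agent.Lib.Transfer.OrbitSum
import Cfsg.Agent.Lib.Transfer.FunctorFusion
import Cfsg.Agent.Lib.PCore.Basic
import Cfsg.Agent.Lib.PCore.Extras
import Cfsg.Prelude.Def_ConjugacyFunctors
import Cfsg.Prelude.Def_LocalEven
import Cfsg.Prelude.Def_PLocal

/-!
# Control of weak closure of elements

* `restrictFunctor`: a conjugacy functor restricted to a subgroup;
* `exists_wellPlaced_of_element`: the element form of `exists_wellPlaced_of_not_weaklyClosed`;
* `mem_center_of_good`: a Sylow-central element of `Z(O_p(G))` is central when elements with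
  `[X, g; p - 1] ≤ Y` on the chief factors move its other conjugates;
* `weaklyClosed_element`: `N(W T)`-central elements are weakly closed.
-/

set_option linter.style.haveILetI false

namespace Cfsg.Agent.Transfer

open Subgroup (centralizer normalizer zpowers)

variable {G : Type*} [Group G] {p : ℕ}

/-- A functor on `G`, seen on a subgroup. -/
def restrictFunctor (H : Subgroup G) (W : Subgroup G → Subgroup G) : Subgroup H → Subgroup H :=
  fun P => (W (P.map H.subtype)).subgroupOf H

theorem map_restrictFunctor {H : Subgroup G} {W : Subgroup G → Subgroup G}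
    (hW : Cfsg.IsConjugacyFunctor p W) {P : Subgroup H} (hP : IsPGroup p P) :
    (restrictFunctor H W P).map H.subtype = W (P.map H.subtype) :=
  Subgroup.map_subgroupOf_eq_of_le ((hW _ (hP.map _)).1.trans (Subgroup.map_subtype_le P))

theorem map_conjMap_subtype {H : Subgroup G} (h : H) (P : Subgroup H) :
    (conjMap h P).map H.subtype = conjMap (h : G) (P.map H.subtype) := by
  rw [conjMap, conjMap, Subgroup.map_map, Subgroup.map_map]
  congr 1

theorem isConjugacyFunctor_restrict {H : Subgroup G} {W : Subgroup G → Subgroup G}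
    (hW : Cfsg.IsConjugacyFunctor p W) : Cfsg.IsConjugacyFunctor p (restrictFunctor H W) := by
  intro P hP
  have hinj := H.subtype_injective
  refine ⟨?_, fun hne h => ?_, fun h => Subgroup.map_injective hinj ?_⟩
  · rw [← Subgroup.map_le_map_iff_of_injective hinj, map_restrictFunctor hW hP]
    exact (hW _ (hP.map _)).1
  · refine (hW _ (hP.map H.subtype)).2.1 (fun h0 => hne ?_) ?_
    · exact Subgroup.map_injective hinj (h0.trans (Subgroup.map_bot _).symm)
    · rw [← map_restrictFunctor hW hP, h, Subgroup.map_bot]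
  · show (restrictFunctor H W (conjMap h P)).map H.subtype = (conjMap h (restrictFunctor H W P)).map H.subtype
    rw [map_restrictFunctor hW (P := conjMap h P) (hP.map _), map_conjMap_subtype, map_conjMap_subtype,
      map_restrictFunctor hW hP]
    exact (hW _ (hP.map _)).2.2 h

theorem restrict_center_le {H : Subgroup G} {W : Subgroup G → Subgroup G}
    (hWZ : ∀ P : Subgroup G, IsPGroup p ↥P → P ⊓ centralizer (P : Set G) ≤ W P)
    (P : Subgroup H) (hP : IsPGroup p P) :
    P ⊓ centralizer (P : Set H) ≤ restrictFunctor H W P := fun x hx =>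
  hWZ _ (hP.map _) ⟨⟨x, hx.1, rfl⟩, Subgroup.mem_centralizer_iff.mpr fun _ ⟨y, hy, e⟩ =>
    e ▸ congrArg Subtype.val (Subgroup.mem_centralizer_iff.mp hx.2 y hy)⟩

theorem mem_normalizer_map_subtype {H : Subgroup G} {K : Subgroup H} {y : H} :
    y ∈ normalizer (K : Set H) ↔ (y : G) ∈ normalizer ((K.map H.subtype : Subgroup G) : Set G) := by
  rw [mem_normalizer_iff_conjMap, mem_normalizer_iff_conjMap, ← map_conjMap_subtype]
  exact ⟨fun h => by rw [h], fun h => Subgroup.map_injective H.subtype_injective h⟩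

variable [Finite G] [Fact p.Prime]

/-- An element central in `N(W S)` with another conjugate in `S` is moved inside the normalizer of a
subgroup `E` of `S` containing it, with the same properties for `N_S(E)`. -/
theorem exists_wellPlaced_of_element (S : Sylow p G) {W : Subgroup G → Subgroup G}
    (hW : Cfsg.IsConjugacyFunctor p W)
    (hWZ : ∀ P : Subgroup G, IsPGroup p ↥P → P ⊓ centralizer (P : Set G) ≤ W P)
    {x : G} (hxS : x ∈ (S : Subgroup G))
    (hxN : normalizer ((W (S : Subgroup G) : Subgroup G) : Set G) ≤ centralizer ({x} : Set G))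
    {g : G} (hg : g * x * g⁻¹ ∈ (S : Subgroup G)) (hne : g * x * g⁻¹ ≠ x) :
    ∃ E : Subgroup G, E ≤ (S : Subgroup G) ∧ x ∈ E ∧
      ¬ p ∣ ((S : Subgroup G) ⊓ normalizer (E : Set G)).relIndex (normalizer (E : Set G)) ∧
      normalizer ((W ((S : Subgroup G) ⊓ normalizer (E : Set G)) : Subgroup G) : Set G) ≤
        centralizer ({x} : Set G) ∧
      ∃ y ∈ normalizer (E : Set G), y * x * y⁻¹ ≠ x := by
  have hcen : ∀ s ∈ (S : Subgroup G), s * x = x * s := fun s hs =>
    Subgroup.mem_centralizer_singleton_iff.mp (hxN (self_le_normalizer_functor hW S.2 hs))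
  have hfix : ∀ {u : G}, u ∈ centralizer ({x} : Set G) ↔ u * x * u⁻¹ = x := fun {u} => by
    rw [Subgroup.mem_centralizer_singleton_iff, mul_inv_eq_iff_eq_mul]
  let bad : Set (Subgroup G) := {U | U ≤ (S : Subgroup G) ∧ x ∈ U ∧
    ¬ normalizer (U : Set G) ≤ centralizer ({x} : Set G)}
  have hbad : bad.Nonempty := by
    by_contra hb
    rw [Set.not_nonempty_iff_eq_empty] at hb
    have hch := alperin S ({x} : Set G) g⁻¹ (fun a ha => by rw [Set.mem_singleton_iff.1 ha]; exact hxS)
      (fun a ha => by rw [Set.mem_singleton_iff.1 ha, inv_inv]; exact hg)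
    have : ∀ (C : Set G) (u : G), FusionChain (IsTame S) C u → C = {x} →
        u ∈ centralizer ({x} : Set G) := by
      intro C u hc
      induction hc with
      | one C => exact fun _ => one_mem _
      | @step C D u h hD hC hu _ ih =>
        intro hCA
        subst hCA
        have hux : u ∈ centralizer ({x} : Set G) := by
          by_contra hux
          exact (Set.eq_empty_iff_forall_notMem.mp hb D) ⟨hD.le, hC rfl, fun hle => hux (hle hu)⟩
        refine mul_mem hux (ih ?_)
        rw [Set.image_singleton]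
        have := hfix.1 (inv_mem hux)
        rw [inv_inv] at this
        rw [this]
    exact hne (hfix.1 (by simpa using this _ _ hch rfl))
  obtain ⟨U, ⟨hUS, hxU, hUbad⟩, hUmax⟩ := Set.exists_max_image bad
    (fun U => Nat.card ↥((S : Subgroup G) ⊓ normalizer (U : Set G))) (Set.toFinite bad) hbad
  obtain ⟨y, hy, hyx⟩ := SetLike.not_le_iff_exists.mp hUbad
  obtain ⟨m, hm1, hm2⟩ := exists_wellPlaced_conj hW S U hUS
  set T := (S : Subgroup G) ⊓ normalizer (U : Set G) with hT
  have hxT : x ∈ T := ⟨hxS, Subgroup.le_normalizer hxU⟩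
  have hNS : normalizer ((S : Subgroup G) : Set G) ≤ centralizer ({x} : Set G) :=
    (mem_normalizer_functor hW S.2).trans hxN
  have hmx : m ∈ centralizer ({x} : Set G) := by
    have hch := (alperin S (T : Set G) m⁻¹ (fun a ha => ha.1) (fun a ha => by
      rw [inv_inv]; exact hm1 ⟨a, ha, rfl⟩)).strengthen (Nat.card T)
        (Nat.card_coe_set_eq (T : Set G)).le
    have : ∀ (C : Set G) (u : G),
        FusionChain (fun E => IsTame S E ∧ Nat.card T ≤ Nat.card E) C u → x ∈ C →
        u ∈ centralizer ({x} : Set G) := by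
      intro C u hc
      induction hc with
      | one C => exact fun _ => one_mem _
      | @step C D u h hD hC hu _ ih =>
        intro hAC
        have hux : u ∈ centralizer ({x} : Set G) := by
          rcases eq_or_lt_of_le hD.1.le with rfl | hlt
          · exact hNS hu
          · by_contra hux
            have h1 := hUmax D ⟨hD.1.le, hC hAC, fun hle => hux (hle hu)⟩
            have h2 := card_lt_inf_normalizer S hlt
            have h3 := hD.2
            omega
        refine mul_mem hux (ih ⟨x, hAC, ?_⟩)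
        have := hfix.1 (inv_mem hux)
        rwa [inv_inv] at this
    simpa using this _ _ hch hxT
  set E := conjMap m U with hE
  have hxE : x ∈ E := by
    rw [← hfix.1 hmx]
    exact conj_mem_conjMap hxU
  set T' := (S : Subgroup G) ⊓ normalizer (E : Set G) with hT'
  refine ⟨E, hm2.1, hxE, hm2.2 0, ?_, m * y * m⁻¹, ?_, fun h => hyx ?_⟩
  · rcases eq_or_lt_of_le (show T' ≤ (S : Subgroup G) from inf_le_left) with hTS | hTS
    · show normalizer ((W T' : Subgroup G) : Set G) ≤ _
      rw [hTS]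
      exact hxN
    · by_contra hle
      have hT'p : IsPGroup p T' := S.2.to_le hTS.le
      have hxT' : x ∈ T' := ⟨hxS, Subgroup.le_normalizer hxE⟩
      have hxC : x ∈ centralizer (T' : Set G) :=
        Subgroup.mem_centralizer_iff.mpr fun s hs => hcen s hs.1
      have h1 := hUmax (W T') ⟨(hW T' hT'p).1.trans hTS.le, hWZ T' hT'p ⟨hxT', hxC⟩, hle⟩
      have h2 := lt_functor_normalizer hW S hTS
      have h3 : Nat.card T ≤ Nat.card T' := by
        rw [← card_conjMap m T]
        refine Subgroup.card_le_of_le (le_inf hm1 ?_)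
        rw [hE, normalizer_conjMap]
        exact conjMap_le_conjMap inf_le_right
      omega
  · rw [hE, normalizer_conjMap]
    exact conj_mem_conjMap hy
  · have h1 : m * y * m⁻¹ ∈ centralizer ({x} : Set G) := hfix.2 h
    have h2 := mul_mem (mul_mem (inv_mem hmx) h1) hmx
    simpa [mul_assoc] using h2

omit [Fact p.Prime] [Finite G] in
/-- The conjugation action of `G` on a normal abelian subgroup, written additively. -/
@[reducible] def conjAddAction (V : Subgroup G) [V.Normal] [IsMulCommutative V] :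
    DistribMulAction G (Additive V) where
  smul g v := Additive.ofMul (MulAut.conjNormal g v.toMul)
  one_smul v := by show Additive.ofMul (MulAut.conjNormal 1 v.toMul) = v; rw [map_one]; rfl
  mul_smul g h v := by
    show Additive.ofMul (MulAut.conjNormal (g * h) v.toMul) = Additive.ofMul _
    rw [map_mul]; rfl
  smul_zero g := by show Additive.ofMul (MulAut.conjNormal g 1) = _; rw [map_one]; rfl
  smul_add g v w := by
    show Additive.ofMul (MulAut.conjNormal g (v.toMul * w.toMul)) = _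
    rw [map_mul]; rfl

/-- An element whose `g`-commutators of length `p - 1` on every chief factor of `Z(O_p)` are trivial. -/
def IsGood (p : ℕ) (g : G) : Prop :=
  ∀ U V : Subgroup G, Cfsg.IsChiefFactor U V →
    U ≤ Cfsg.pCore p G ⊓ centralizer (Cfsg.pCore p G : Set G) →
    Cfsg.iterCommutator U (zpowers g) (p - 1) ≤ V

/-- A Sylow-central element of `Z(O_p(G))` whose other conjugates are moved by good elements of the
Sylow subgroup is central. -/
theorem mem_center_of_good (S : Sylow p G) {x : G}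
    (hxV : x ∈ Cfsg.pCore p G ⊓ centralizer (Cfsg.pCore p G : Set G))
    (hxS : ∀ s ∈ (S : Subgroup G), s * x * s⁻¹ = x)
    (hmove : ∀ N : Subgroup G, N.Normal → ∀ h : G, h * x * h⁻¹ * x⁻¹ ∉ N →
      ∃ g ∈ (S : Subgroup G), IsGood p g ∧ g * (h * x * h⁻¹) * g⁻¹ * (h * x * h⁻¹)⁻¹ ∉ N) :
    ∀ h : G, h * x * h⁻¹ = x := by
  classical
  haveI : (Cfsg.pCore p G).Normal := PCore.pCore_normal
  set V := Cfsg.pCore p G ⊓ centralizer (Cfsg.pCore p G : Set G) with hV
  haveI hVn : V.Normal := Subgroup.normal_inf_normal _ _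
  have hVab : ∀ a ∈ V, ∀ b ∈ V, a * b = b * a := fun a ha b hb =>
    Subgroup.mem_centralizer_iff.mp hb.2 a ha.1
  have hVp : IsPGroup p V := PCore.isPGroup_pCore.to_le inf_le_left
  set Y₀ := Subgroup.normalClosure {y : G | ∃ h : G, y = h * x * h⁻¹ * x⁻¹} with hY₀
  have hY₀V : Y₀ ≤ V := Subgroup.normalClosure_le_normal fun y ⟨h, hy⟩ =>
    hy ▸ V.mul_mem (hVn.conj_mem x hxV h) (V.inv_mem hxV)
  have hmemY₀ : ∀ h : G, h * x * h⁻¹ * x⁻¹ ∈ Y₀ := fun h => Subgroup.subset_normalClosure ⟨h, rfl⟩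
  rcases eq_or_ne Y₀ ⊥ with h0 | h0
  · intro h
    have := hmemY₀ h
    rw [h0, Subgroup.mem_bot, mul_inv_eq_one] at this
    exact this
  exfalso
  obtain ⟨Y, hYmax⟩ := Set.Finite.exists_maximal
    (Set.toFinite {N : Subgroup G | N.Normal ∧ N < Y₀}) ⟨⊥, inferInstance, bot_lt_iff_ne_bot.2 h0⟩
  obtain ⟨hYn, hYlt⟩ := hYmax.1
  have hchief : Cfsg.IsChiefFactor Y₀ Y := ⟨hYlt, Subgroup.normalClosure_normal, hYn, fun N hN hYN hNY => by
    rcases eq_or_lt_of_le hNY with h | h
    · exact Or.inr h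
    · exact Or.inl (le_antisymm (hYmax.2 ⟨hN, h⟩ hYN) hYN)⟩
  -- the chief factor has exponent `p`
  have hexp : ∀ u ∈ Y₀, u ^ p ∈ Y := by
    let N : Subgroup G :=
      { carrier := {u | u ∈ Y₀ ∧ u ^ p ∈ Y}
        one_mem' := ⟨one_mem _, by simp⟩
        mul_mem' := fun {a b} ha hb => ⟨mul_mem ha.1 hb.1, by
          rw [(Commute.mul_pow (show Commute a b from hVab a (hY₀V ha.1) b (hY₀V hb.1)))]
          exact mul_mem ha.2 hb.2⟩
        inv_mem' := fun {a} ha => ⟨inv_mem ha.1, by rw [inv_pow]; exact inv_mem ha.2⟩ }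
    have hNn : N.Normal := ⟨fun u hu g => ⟨hchief.2.1.conj_mem u hu.1 g, by
      rw [conj_pow]; exact hYn.conj_mem _ hu.2 g⟩⟩
    have hYN : Y ≤ N := fun u hu => ⟨hYlt.le hu, pow_mem hu p⟩
    rcases hchief.2.2.2 N hNn hYN (fun u hu => hu.1) with h | h
    · exfalso
      obtain ⟨u, hu, huY⟩ := SetLike.exists_of_lt hYlt
      obtain ⟨k, hk⟩ := hVp ⟨u, hY₀V hu⟩
      have hk' : u ^ p ^ k ∈ Y := by
        have := congrArg Subtype.val hk
        simp only [SubmonoidClass.coe_pow, OneMemClass.coe_one] at this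
        rw [this]
        exact one_mem _
      clear hk
      induction k generalizing u with
      | zero => exact huY (by simpa using hk')
      | succ k ih =>
        by_cases h2 : u ^ p ∈ Y
        · exact huY (h ▸ (show u ∈ N from ⟨hu, h2⟩))
        · exact ih (u ^ p) (pow_mem hu p) h2 (by rwa [← pow_mul, ← pow_succ'])
    · exact fun u hu => (h.ge hu).2
  -- work modulo `Y`
  haveI := hYn
  set π := QuotientGroup.mk' Y with hπ
  set Vb := V.map π with hVb
  haveI hVbn : Vb.Normal := hVn.map π (QuotientGroup.mk'_surjective Y)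
  haveI hVbc : IsMulCommutative Vb := ⟨⟨fun a b => by
    obtain ⟨u, hu, hu'⟩ := a.2
    obtain ⟨v, hv, hv'⟩ := b.2
    apply Subtype.ext
    show (a : G ⧸ Y) * b = b * a
    rw [← hu', ← hv', ← map_mul, ← map_mul, hVab u hu v hv]⟩⟩
  letI : CommGroup Vb := { mul_comm := fun a b => hVbc.1.comm a b }
  letI : DistribMulAction (G ⧸ Y) (Additive Vb) := conjAddAction Vb
  letI : DistribMulAction G (Additive Vb) := DistribMulAction.compHom (Additive Vb) π
  set cls : (v : G) → v ∈ V → Additive Vb := fun v hv => Additive.ofMul ⟨π v, ⟨v, hv, rfl⟩⟩ with hcls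
  have hsmul : ∀ (g v : G) (hv : v ∈ V), g • cls v hv = cls (g * v * g⁻¹) (hVn.conj_mem v hv g) := by
    intro g v hv
    apply Additive.toMul.injective
    apply Subtype.ext
    show ((MulAut.conjNormal (π g) (⟨π v, ⟨v, hv, rfl⟩⟩ : Vb) : Vb) : G ⧸ Y) = π (g * v * g⁻¹)
    rw [MulAut.conjNormal_apply, map_mul, map_mul, map_inv]
  have hsub : ∀ (a b : G) (ha : a ∈ V) (hb : b ∈ V),
      cls a ha - cls b hb = cls (a * b⁻¹) (mul_mem ha (inv_mem hb)) := by
    intro a b ha hb
    apply Additive.toMul.injective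
    apply Subtype.ext
    show π a / π b = π (a * b⁻¹)
    rw [map_mul, map_inv, div_eq_mul_inv]
  let X : AddSubgroup (Additive Vb) :=
    Subgroup.toAddSubgroup ((Y₀.map π).subgroupOf Vb)
  have hmemX : ∀ w ∈ X, ∃ (v : G) (hv : v ∈ V), v ∈ Y₀ ∧ w = cls v hv := by
    intro w hw
    obtain ⟨v, hv, hv'⟩ := (hw : ((Additive.toMul w : Vb) : G ⧸ Y) ∈ Y₀.map π)
    exact ⟨v, hY₀V hv, hv, Additive.toMul.injective (Subtype.ext hv'.symm)⟩
  have hcls0 : ∀ (v : G) (hv : v ∈ V), v ∈ Y → cls v hv = 0 := fun v hv h => by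
    apply Additive.toMul.injective
    apply Subtype.ext
    exact (QuotientGroup.eq_one_iff v).2 h
  have hnsmul : ∀ (n : ℕ) (v : G) (hv : v ∈ V), n • cls v hv = cls (v ^ n) (pow_mem hv n) := by
    intro n v hv
    apply Additive.toMul.injective
    apply Subtype.ext
    show ((⟨π v, _⟩ : Vb) ^ n : Vb).1 = π (v ^ n)
    rw [SubmonoidClass.coe_pow, map_pow]
  have hE : ∀ e : Additive Vb, ∃ k : ℕ, p ^ k • e = 0 := by
    intro e
    obtain ⟨v, hv, hv'⟩ := (Additive.toMul e).2
    obtain ⟨k, hk⟩ := hVp ⟨v, hv⟩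
    have he : e = cls v hv := Additive.toMul.injective (Subtype.ext hv'.symm)
    refine ⟨k, ?_⟩
    rw [he, hnsmul (p ^ k) v hv]
    refine hcls0 (v ^ p ^ k) (pow_mem hv _) ?_
    have := congrArg Subtype.val hk
    simp only [SubmonoidClass.coe_pow, OneMemClass.coe_one] at this
    rw [this]
    exact one_mem _
  have key := smul_eq_of_orbit_sums hE X S (cls x hxV) (fun g => IsGood p g) ?_ ?_ ?_ ?_ ?_
  · apply hYlt.not_ge
    refine Subgroup.normalClosure_le_normal fun y ⟨h, hy⟩ => hy ▸ ?_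
    have h1 := sub_eq_zero.2 (key h)
    rw [hsmul h x hxV, hsub _ x (hVn.conj_mem x hxV h) hxV] at h1
    exact (QuotientGroup.eq_one_iff _).1 (congrArg (fun w => ((Additive.toMul w : Vb) : G ⧸ Y)) h1)
  · intro k _ g _ hg U W' hUW hU
    have hmap : ∀ (N : Subgroup G), N.Normal → N.map (MulAut.conj k).toMonoidHom = N := fun N hN =>
      mem_normalizer_iff_conjMap.1 (by rw [Subgroup.normalizer_eq_top]; trivial)
    have hit : ∀ i, (Cfsg.iterCommutator U (zpowers g) i).map (MulAut.conj k).toMonoidHom =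
        Cfsg.iterCommutator U (zpowers (k * g * k⁻¹)) i := by
      intro i
      induction i with
      | zero => exact hmap U hUW.2.1
      | succ i ih =>
        show (⁅Cfsg.iterCommutator U (zpowers g) i, zpowers g⁆ : Subgroup G).map _ = ⁅_, _⁆
        rw [Subgroup.map_commutator, ih, MonoidHom.map_zpowers]
        rfl
    rw [← hit, ← hmap W' hUW.2.2.1]
    exact Subgroup.map_mono (hg U W' hUW hU)
  · intro g hg w hw
    set a : AddMonoid.End (Additive Vb) := DistribSMul.toAddMonoidHom (Additive Vb) g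
    have hpow : ∀ (j : ℕ) (v : Additive Vb), (a ^ j) v = g ^ j • v := by
      intro j
      induction j with
      | zero => intro v; rw [pow_zero, pow_zero, one_smul]; rfl
      | succ j ih => intro v; rw [pow_succ', pow_succ', mul_smul]; show a ((a ^ j) v) = _; rw [ih]; rfl
    obtain ⟨v, hv, hvY₀, rfl⟩ := hmemX w hw
    rw [← Finset.sum_congr rfl fun j _ => hpow j (cls v hv)]
    refine geom_sum_apply_eq_zero a _ (fun m => ?_) ?_
    · rw [hpow, ← smul_comm, hnsmul p v hv, hcls0 (v ^ p) (pow_mem hv p) (hexp v hvY₀), smul_zero]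
    · have hiter : ∀ i, ∃ (u : G) (hu : u ∈ V), u ∈ Cfsg.iterCommutator Y₀ (zpowers g) i ∧
          ((a - 1) ^ i) (cls v hv) = cls u hu := by
        intro i
        induction i with
        | zero => exact ⟨v, hv, hvY₀, rfl⟩
        | succ i ih =>
          obtain ⟨u, hu, hui, hue⟩ := ih
          refine ⟨g * u * g⁻¹ * u⁻¹, mul_mem (hVn.conj_mem u hu g) (inv_mem hu), ?_, ?_⟩
          · show _ ∈ ⁅_, _⁆
            rw [Subgroup.commutator_comm, ← commutatorElement_def]
            exact Subgroup.commutator_mem_commutator (Subgroup.mem_zpowers g) hui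
          · rw [pow_succ']
            show (a - 1) (((a - 1) ^ i) (cls v hv)) = _
            rw [hue, ← hsub _ _ (hVn.conj_mem u hu g) hu, ← hsmul g u hu]
            rfl
      obtain ⟨u, hu, hui, hue⟩ := hiter (p - 1)
      rw [hue]
      exact hcls0 u hu (hg Y₀ Y hchief hY₀V hui)
  · intro g
    rw [hsmul g x hxV, hsub _ x (hVn.conj_mem x hxV g) hxV]
    exact Subgroup.mem_map_of_mem π (hmemY₀ g)
  · intro s hs
    rw [hsmul s x hxV]
    simp only [hxS s hs]
  · intro h hh
    obtain ⟨g, hgS, hg, hgz⟩ := hmove Y hYn h fun e => hh (by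
      rw [← sub_eq_zero, hsmul h x hxV, hsub _ x (hVn.conj_mem x hxV h) hxV]; exact hcls0 _ (mul_mem (hVn.conj_mem x hxV h) (inv_mem hxV)) e)
    refine ⟨g, hgS, hg, fun e => hgz ?_⟩
    have h1 := sub_eq_zero.2 e
    rw [hsmul h x hxV, hsmul g _ (hVn.conj_mem x hxV h),
      hsub _ _ (hVn.conj_mem _ (hVn.conj_mem x hxV h) g) (hVn.conj_mem x hxV h)] at h1
    exact (QuotientGroup.eq_one_iff _).1 (congrArg (fun w => ((Additive.toMul w : Vb) : G ⧸ Y)) h1)

/-- **Control of weak closure of elements**. -/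
theorem weaklyClosed_element {W : Subgroup G → Subgroup G} (hW : Cfsg.IsConjugacyFunctor p W)
    (hWZ : ∀ P : Subgroup G, IsPGroup p ↥P → P ⊓ centralizer (P : Set G) ≤ W P)
    (hloc : ∀ (H T : Subgroup G), T ≤ H → IsPGroup p ↥T → ¬ p ∣ T.relIndex H →
      ¬ H ≤ normalizer ((W T : Subgroup G) : Set G) →
      ∃ g : G, g ∈ T ∧ g ∉ Cfsg.pCoreOf p H ∧ ∀ U V : Subgroup ↥H, Cfsg.IsChiefFactor U V →
        U.map H.subtype ≤ Cfsg.pCoreOf p H ⊓ centralizer ((Cfsg.pCoreOf p H : Subgroup G) : Set G) →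
        Cfsg.iterCommutator (U.map H.subtype) (zpowers g) (p - 1) ≤ V.map H.subtype) :
    ∀ H T : Subgroup G, T ≤ H → IsPGroup p ↥T → ¬ p ∣ T.relIndex H →
      ∀ x ∈ T ⊓ centralizer ((H ⊓ normalizer ((W T : Subgroup G) : Set G) : Subgroup G) : Set G),
        ∀ h ∈ H, h * x * h⁻¹ ∈ T → h * x * h⁻¹ = x := by
  intro H
  induction hn : Nat.card H using Nat.strong_induction_on generalizing H with
  | _ n ih =>
  subst hn
  intro T hTH hTp hTi x hx h hh hhT
  by_contra hne
  -- pass to the group `H`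
  set S : Sylow p H := (hTp.comap_of_injective H.subtype H.subtype_injective).toSylow hTi with hS
  have hSmap : (S : Subgroup H).map H.subtype = T := Subgroup.map_subgroupOf_eq_of_le hTH
  set xH : H := ⟨x, hTH hx.1⟩ with hxH
  have hW' := isConjugacyFunctor_restrict (H := H) hW
  have hWZ' := fun P hP => restrict_center_le (H := H) hWZ P hP
  have hxN : normalizer ((restrictFunctor H W (S : Subgroup H) : Subgroup H) : Set H) ≤
      centralizer ({xH} : Set H) := by
    intro y hy
    rw [mem_normalizer_map_subtype, map_restrictFunctor hW S.2, hSmap] at hy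
    exact Subgroup.mem_centralizer_singleton_iff.mpr
      (Subtype.ext (Subgroup.mem_centralizer_iff.mp hx.2 y ⟨y.2, hy⟩))
  -- in a proper subgroup containing a Sylow subgroup `T₁` the conclusion holds
  have small : ∀ (N : Subgroup H), N ≠ ⊤ → ∀ T₁ : Subgroup H, T₁ ≤ N → IsPGroup p T₁ →
      ¬ p ∣ T₁.relIndex N → xH ∈ T₁ →
      normalizer ((restrictFunctor H W T₁ : Subgroup H) : Set H) ≤ centralizer ({xH} : Set H) →
      ∀ k ∈ N, k * xH * k⁻¹ ∈ T₁ → k * xH * k⁻¹ = xH := by
    intro N hN T₁ hT₁N hT₁p hT₁i hx₁ hc k hk hkT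
    have hlt : Nat.card (N.map H.subtype) < Nat.card H := by
      rw [Subgroup.card_map_of_injective H.subtype_injective]
      exact lt_of_le_of_ne (Subgroup.card_le_card_group N) fun e => hN (Subgroup.eq_top_of_card_eq N e)
    apply Subtype.ext
    show (k : G) * x * (k : G)⁻¹ = x
    refine ih _ hlt (N.map H.subtype) rfl (T₁.map H.subtype) (Subgroup.map_mono hT₁N) (hT₁p.map _)
      (by rwa [Subgroup.relIndex_map_map_of_injective _ _ H.subtype_injective]) x
      ⟨⟨xH, hx₁, rfl⟩, Subgroup.mem_centralizer_iff.mpr ?_⟩ k ⟨k, hk, rfl⟩ ⟨_, hkT, rfl⟩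
    rintro y ⟨⟨z, -, rfl⟩, hz⟩
    refine congrArg Subtype.val (Subgroup.mem_centralizer_singleton_iff.mp (hc ?_) : z * xH = xH * z)
    rw [mem_normalizer_map_subtype, map_restrictFunctor hW hT₁p]
    exact hz
  obtain ⟨E, hES, hxE, hEi, hEN, y, hy, hyx⟩ := exists_wellPlaced_of_element S hW' hWZ'
    (x := xH) hx.1 hxN (g := ⟨h, hh⟩) hhT fun e => hne (congrArg Subtype.val e)
  by_cases hEtop : normalizer (E : Set H) = ⊤
  swap
  · exact hyx (small _ hEtop _ inf_le_right (S.2.to_le inf_le_left) hEi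
      ⟨hx.1, Subgroup.le_normalizer hxE⟩ hEN y hy
      ⟨hES ((Subgroup.mem_normalizer_iff.mp hy xH).mp hxE),
        Subgroup.le_normalizer ((Subgroup.mem_normalizer_iff.mp hy xH).mp hxE)⟩)
  -- now `x` lies in the centre of `O_p(H)`
  haveI hEn : E.Normal := Subgroup.normalizer_eq_top_iff.mp hEtop
  have hQS : Cfsg.pCore p H ≤ (S : Subgroup H) := PCore.pCore_le_sylow S
  have hxS : ∀ s ∈ (S : Subgroup H), s * xH * s⁻¹ = xH := fun s hs => by
    rw [mul_inv_eq_iff_eq_mul]
    exact Subgroup.mem_centralizer_singleton_iff.mp (hxN (self_le_normalizer_functor hW' S.2 hs))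
  have hxV : xH ∈ Cfsg.pCore p H ⊓ centralizer (Cfsg.pCore p H : Set H) :=
    ⟨PCore.le_pCore (S.2.to_le hES) hxE, Subgroup.mem_centralizer_iff.mpr fun s hs =>
      mul_inv_eq_iff_eq_mul.mp (hxS s (hQS hs))⟩
  haveI : (Cfsg.pCore p H).Normal := PCore.pCore_normal
  have hV : (Cfsg.pCore p H ⊓ centralizer (Cfsg.pCore p H : Set H)).Normal :=
    Subgroup.normal_inf_normal _ _
  -- a good element outside `O_p(H)`
  obtain ⟨g, hgT, hgQ, hg⟩ := hloc H T hTH hTp hTi fun hle => hne (by
    rw [mul_inv_eq_iff_eq_mul]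
    exact Subgroup.mem_centralizer_iff.mp hx.2 h ⟨hh, hle hh⟩)
  set gH : H := ⟨g, hTH hgT⟩ with hgH
  have hgood : IsGood p gH := by
    intro U V' hUV hU
    have hmap : ∀ i, (Cfsg.iterCommutator U (zpowers gH) i).map H.subtype =
        Cfsg.iterCommutator (U.map H.subtype) (zpowers g) i := by
      intro i
      induction i with
      | zero => rfl
      | succ i ih' =>
        show (⁅Cfsg.iterCommutator U (zpowers gH) i, zpowers gH⁆ : Subgroup H).map _ = ⁅_, _⁆
        rw [Subgroup.map_commutator, ih', MonoidHom.map_zpowers]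
        rfl
    rw [← Subgroup.map_le_map_iff_of_injective H.subtype_injective, hmap]
    refine hg U V' hUV fun u hu => ?_
    obtain ⟨v, hv, rfl⟩ := hu
    refine ⟨⟨v, (hU hv).1, rfl⟩, Subgroup.mem_centralizer_iff.mpr ?_⟩
    rintro _ ⟨w, hw, rfl⟩
    exact congrArg Subtype.val (Subgroup.mem_centralizer_iff.mp (hU hv).2 w hw)
  have hconj : ∀ (k g : H), IsGood p g → IsGood p (k * g * k⁻¹) := by
    intro k g hg U V' hUV hU
    have hmap : ∀ N : Subgroup H, N.Normal → N.map (MulAut.conj k).toMonoidHom = N := fun N hN =>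
      mem_normalizer_iff_conjMap.1 (by rw [Subgroup.normalizer_eq_top]; trivial)
    have hit : ∀ i, (Cfsg.iterCommutator U (zpowers g) i).map (MulAut.conj k).toMonoidHom =
        Cfsg.iterCommutator U (zpowers (k * g * k⁻¹)) i := by
      intro i
      induction i with
      | zero => exact hmap U hUV.2.1
      | succ i ih' =>
        show (⁅Cfsg.iterCommutator U (zpowers g) i, zpowers g⁆ : Subgroup H).map _ = ⁅_, _⁆
        rw [Subgroup.map_commutator, ih', MonoidHom.map_zpowers]
        rfl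
    rw [← hit, ← hmap V' hUV.2.2.1]
    exact Subgroup.map_mono (hg U V' hUV hU)
  set D := Subgroup.closure {k : H | k ∈ (S : Subgroup H) ∧ IsGood p k} with hD
  have hgD : gH ∈ D := Subgroup.subset_closure ⟨hgT, hgood⟩
  have hDS : D ≤ (S : Subgroup H) := (Subgroup.closure_le _).mpr fun k hk => hk.1
  have hSD : (S : Subgroup H) ≤ normalizer (D : Set H) := by
    intro s hs
    rw [mem_normalizer_iff_conjMap, conjMap, hD, MonoidHom.map_closure]
    congr 1
    ext k
    constructor
    · rintro ⟨a, ⟨ha, ha'⟩, rfl⟩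
      exact ⟨mul_mem (mul_mem hs ha) (inv_mem hs), hconj s a ha'⟩
    · rintro ⟨hk, hk'⟩
      exact ⟨s⁻¹ * k * s, ⟨mul_mem (mul_mem (inv_mem hs) hk) hs, by simpa using hconj s⁻¹ k hk'⟩,
        by simp [mul_assoc]⟩
  have hND : ∀ k ∈ normalizer (D : Set H), k * xH * k⁻¹ = xH := by
    refine fun k hk => small _ (fun e => hgQ ⟨gH, ?_, rfl⟩) _ hSD S.2
      (fun hd => S.not_dvd_index (hd.trans (Subgroup.relIndex_dvd_index_of_le hSD))) hx.1 hxN k hk
      (hQS (hV.conj_mem xH hxV k).1)
    haveI : D.Normal := Subgroup.normalizer_eq_top_iff.mp e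
    exact PCore.le_pCore (S.2.to_le hDS) hgD
  refine hne (congrArg Subtype.val (mem_center_of_good S hxV hxS ?_ ⟨h, hh⟩))
  intro N hN k hk
  by_contra hcon
  push Not at hcon
  apply hk
  set π := QuotientGroup.mk' N
  have hker : ∀ a b : H, π a = π b ↔ a * b⁻¹ ∈ N := fun a b => by
    rw [← mul_inv_eq_one, ← map_inv, ← map_mul]
    exact QuotientGroup.eq_one_iff _
  set C₀ : Subgroup H := (centralizer ({π xH} : Set (H ⧸ N))).comap π with hC₀
  have hmem : ∀ u : H, u ∈ C₀ ↔ π (u * xH * u⁻¹) = π xH := fun u => by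
    rw [hC₀, Subgroup.mem_comap, Subgroup.mem_centralizer_singleton_iff, map_mul, map_mul, map_inv,
      mul_inv_eq_iff_eq_mul]
  have hxC : ∀ u : H, u * xH * u⁻¹ = xH → u ∈ C₀ := fun u hu => (hmem u).2 (by rw [hu])
  have hSC : (S : Subgroup H) ≤ C₀ := fun s hs => hxC s (hxS s hs)
  have hDC : conjMap k⁻¹ D ≤ C₀ := by
    rw [conjMap, Subgroup.map_le_iff_le_comap, hD, Subgroup.closure_le]
    rintro d ⟨hd, hd'⟩
    show k⁻¹ * d * k⁻¹⁻¹ ∈ C₀
    have h1 := (hker _ _).2 (hcon d hd hd')
    rw [hmem]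
    simp only [map_mul, map_inv, inv_inv] at h1 ⊢
    calc (π k)⁻¹ * π d * π k * π xH * ((π k)⁻¹ * π d * π k)⁻¹
        = (π k)⁻¹ * (π d * (π k * π xH * (π k)⁻¹) * (π d)⁻¹) * π k := by group
      _ = π xH := by rw [h1]; group
  obtain ⟨P, hP⟩ := ((S.2.to_le hDS).map (MulAut.conj k⁻¹).toMonoidHom |>.comap_of_injective
    C₀.subtype C₀.subtype_injective).exists_le_sylow
  set R : Sylow p C₀ := S.subtype hSC
  obtain ⟨c, hc⟩ := MulAction.exists_smul_eq C₀ P R
  have hck : conjMap ((c : H) * k⁻¹) D ≤ (S : Subgroup H) := by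
    rintro _ ⟨d, hd, rfl⟩
    have hd' : k⁻¹ * d * k⁻¹⁻¹ ∈ C₀ := hDC ⟨d, hd, rfl⟩
    have h2 : c * (⟨_, hd'⟩ : C₀) * c⁻¹ ∈ ((c • P : Sylow p C₀) : Subgroup C₀) := by
      rw [Sylow.coe_subgroup_smul]
      exact ⟨⟨_, hd'⟩, hP ⟨d, hd, rfl⟩, rfl⟩
    rw [hc] at h2
    have h3 : (c : H) * (k⁻¹ * d * k⁻¹⁻¹) * (c : H)⁻¹ ∈ (S : Subgroup H) := h2
    show (c : H) * k⁻¹ * d * ((c : H) * k⁻¹)⁻¹ ∈ (S : Subgroup H)
    convert h3 using 1
    group
  have hle : conjMap ((c : H) * k⁻¹) D ≤ D := by
    rw [conjMap, Subgroup.map_le_iff_le_comap, hD, Subgroup.closure_le]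
    rintro d ⟨hd, hd'⟩
    exact Subgroup.subset_closure
      ⟨hck ⟨d, Subgroup.subset_closure ⟨hd, hd'⟩, rfl⟩, hconj _ d hd'⟩
  have hck' : (c : H) * k⁻¹ ∈ normalizer (D : Set H) :=
    mem_normalizer_iff_conjMap.2 (Subgroup.eq_of_le_of_card_ge hle (card_conjMap _ D).ge)
  have h4 : ((c : H) * k⁻¹)⁻¹ * c ∈ C₀ := mul_mem (inv_mem (hxC _ (hND _ hck'))) c.2
  rw [show ((c : H) * k⁻¹)⁻¹ * c = k by group] at h4
  exact (hker _ _).1 ((hmem k).1 h4)

end Cfsg.Agent.Transfer
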