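import Mathlib.GroupTheory.Transfer
import Cfsg.Agent.Lib.PGroup.Basic

/-!
Evaluation of a transfer at an element whose powers are controlled modulo the kernel.
-/

namespace Cfsg.Agent.Transfer

open Subgroup

variable {G A : Type*} [Group G] [CommGroup A] {H : Subgroup G}

/-- If every conjugate of a power `g ^ k` lying in `H` has the same image under `φ` as `g ^ k`,
then the transfer of `φ` sends `g` to `φ g ^ |G : H|`. -/
theorem transfer_apply_eq_pow_index (φ : H →* A) [FiniteIndex H] {g : G} (hg : g ∈ H)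
    (key : ∀ (k : ℕ) (g₀ : G) (h : g₀⁻¹ * g ^ k * g₀ ∈ H),
      φ ⟨g₀⁻¹ * g ^ k * g₀, h⟩ = φ ⟨g, hg⟩ ^ k) :
    MonoidHom.transfer φ g = φ ⟨g, hg⟩ ^ H.index := by
  classical
  let _ := H.fintypeQuotientOfFiniteIndex
  rw [MonoidHom.transfer_eq_prod_quotient_orbitRel_zpowers_quot, index_eq_sum_minimalPeriod H g,
    ← Finset.prod_pow_eq_pow_sum]
  exact Finset.prod_congr rfl fun q _ => key _ _ _

/-- A finite abelian group without subgroup of index two has odd order; stated for any group:
a subgroup containing the commutator subgroup, with no index-two overgroup, has odd index. -/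
theorem odd_index_of_commutator_le [Finite G] {N : Subgroup G} (hN : _root_.commutator G ≤ N)
    (h2 : ∀ M : Subgroup G, N ≤ M → M.index ≠ 2) : Odd N.index := by
  haveI : N.Normal := Subgroup.Normal.of_commutator_le G hN
  rw [← Nat.not_even_iff_odd]
  intro hev
  let _ : CommGroup (G ⧸ N) :=
    { (inferInstance : Group (G ⧸ N)) with
      mul_comm := fun a b => by
        obtain ⟨a, rfl⟩ := QuotientGroup.mk_surjective a
        obtain ⟨b, rfl⟩ := QuotientGroup.mk_surjective b
        rw [← QuotientGroup.mk_mul, ← QuotientGroup.mk_mul, QuotientGroup.eq]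
        apply hN
        have := Subgroup.commutator_mem_commutator (G := G) (H₁ := ⊤) (H₂ := ⊤)
          (mem_top b⁻¹) (mem_top a⁻¹)
        rw [← _root_.commutator_def] at this
        simpa [commutatorElement_def, mul_assoc] using this }
  obtain ⟨P⟩ := (inferInstance : Nonempty (Sylow 2 (G ⧸ N)))
  have hne : (P : Subgroup (G ⧸ N)) ≠ ⊥ := by
    refine P.ne_bot_of_dvd_card ?_
    rw [← Subgroup.index_eq_card]
    exact even_iff_two_dvd.mp hev
  -- the odd power map onto the Sylow 2-subgroup
  set m := (P : Subgroup (G ⧸ N)).index with hm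
  have hmem : ∀ x : G ⧸ N, x ^ m ∈ (P : Subgroup (G ⧸ N)) := fun x => Subgroup.pow_index_mem _ x
  let f : G →* (P : Subgroup (G ⧸ N)) :=
    ((powMonoidHom m).comp (QuotientGroup.mk' N)).codRestrict _ fun x => hmem _
  have hcop : (Nat.card (P : Subgroup (G ⧸ N))).Coprime m := P.card_coprime_index
  have hf : Function.Surjective f := by
    intro y
    obtain ⟨z, hz⟩ := (powCoprime hcop).surjective y
    obtain ⟨g, hg⟩ := QuotientGroup.mk'_surjective N (z : G ⧸ N)
    refine ⟨g, Subtype.ext ?_⟩
    show (QuotientGroup.mk' N g) ^ m = y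
    rw [hg, ← hz]
    rfl
  have : Nontrivial (P : Subgroup (G ⧸ N)) := (Subgroup.nontrivial_iff_ne_bot _).mpr hne
  obtain ⟨M, hM, -⟩ := (eq_top_or_exists_le_coatom (⊥ : Subgroup (P : Subgroup (G ⧸ N)))).resolve_left
    bot_ne_top
  have hMn : M.index = 2 := Cfsg.Agent.PGroup.index_of_isCoatom P.2 hM
  refine h2 (M.comap f) (fun g hg => ?_) ?_
  · rw [mem_comap]
    have : f g = 1 := Subtype.ext <| by
      show (QuotientGroup.mk' N g) ^ m = 1
      rw [show QuotientGroup.mk' N g = 1 from (QuotientGroup.eq_one_iff g).mpr hg, one_pow]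
    rw [this]
    exact one_mem M
  · rw [Subgroup.index_comap_of_surjective M hf, hMn]

/-- In a group without subgroups of index two, a Sylow 2-subgroup lies in the derived subgroup. -/
theorem sylow_two_le_commutator [Finite G] (h : ∀ M : Subgroup G, M.index ≠ 2) (S : Sylow 2 G) :
    (S : Subgroup G) ≤ _root_.commutator G := by
  have hodd := odd_index_of_commutator_le (N := _root_.commutator G) le_rfl fun M _ => h M
  intro s hs
  obtain ⟨k, hk⟩ := IsPGroup.iff_orderOf.mp S.2 ⟨s, hs⟩
  rw [← QuotientGroup.eq_one_iff, ← orderOf_eq_one_iff]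
  refine Nat.eq_one_of_dvd_coprimes (k := orderOf (s : G ⧸ _root_.commutator G))
    (Nat.Coprime.pow_left k ((Nat.coprime_two_left).mpr hodd)) ?_ ?_
  · rw [← hk, ← Subgroup.orderOf_coe]
    exact orderOf_map_dvd (QuotientGroup.mk' _) s
  · rw [Subgroup.index_eq_card]
    exact orderOf_dvd_natCard _

end Cfsg.Agent.Transfer
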