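import Cfsg.Agent.Lib.Transfer.Frobenius
import Cfsg.Agent.Lib.Transfer.OmegaTwo
import Mathlib.GroupTheory.Nilpotent

/-!
# Normal `p`-complements from the fusion of small elements

`hasNormalPComplement_of_small_fusion`: if the elements `a` of a Sylow `p`-subgroup `P` with
`a ^ p = 1` (for `p = 2` also those with `a ^ 4 = 1` inverted by conjugation in `P`) are conjugate in
`G` only when conjugate in `P`, then `G` has a normal `p`-complement.
-/

set_option linter.style.haveILetI false

namespace Cfsg.Agent.Transfer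

open scoped commutatorElement

variable {G : Type*} [Group G] [Finite G] {p : ℕ} [Fact p.Prime]

/-- A `p'`-element normalizing `D ≤ P` centralizes `D` if all small elements of `D` have their
orbits under it inside their `P`-classes. -/
theorem mem_centralizer_of_conj_small (P : Subgroup G) (hP : IsPGroup p P) (D : Subgroup G)
    (hDP : D ≤ P) {g : G} (hg : g ∈ Subgroup.normalizer (D : Set G))
    (hcop : (orderOf g).Coprime p)
    (h : ∀ a ∈ D, (a ^ p = 1 ∨ (p = 2 ∧ a ^ 4 = 1 ∧ ∃ h ∈ P, h⁻¹ * a * h = a⁻¹)) →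
      ∀ k : ℕ, ∃ y ∈ P, g ^ k * a * (g ^ k)⁻¹ = y * a * y⁻¹) :
    g ∈ Subgroup.centralizer (D : Set G) := by
  haveI := hP.isNilpotent
  have claim : ∀ i : ℕ, ∀ a ∈ D, (a ^ p = 1 ∨ (p = 2 ∧ a ^ 4 = 1 ∧ ∃ h ∈ P, h⁻¹ * a * h = a⁻¹)) →
      a ∈ (Subgroup.upperCentralSeries P i).map P.subtype → Commute g a := by
    intro i
    induction i with
    | zero =>
      intro a _ _ ha
      rw [Subgroup.upperCentralSeries_zero, Subgroup.map_bot, Subgroup.mem_bot] at ha
      subst ha
      exact Commute.one_right g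
    | succ i ih =>
      intro a haD hsm ha
      set Z := (Subgroup.upperCentralSeries P i).map P.subtype with hZ
      let M : Subgroup G :=
        { carrier := {z | ∀ k : ℕ, g ^ k * z * (g ^ k)⁻¹ ∈ D ⊓ Z}
          one_mem' := fun k => by simp
          mul_mem' := fun {x y} hx hy k => by
            have h1 := mul_mem (hx k) (hy k)
            convert h1 using 1
            group
          inv_mem' := fun {x} hx k => by
            have h1 := inv_mem (hx k)
            convert h1 using 1
            group }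
      have hMD : M ≤ D := fun z hz => by simpa using (hz 0).1
      have hMZ : M ≤ Z := fun z hz => by simpa using (hz 0).2
      have hgM : g ∈ Subgroup.normalizer (M : Set G) := mem_normalizer_of_conj_mem fun z hz k => by
        have h1 := hz (k + 1)
        convert h1 using 1
        rw [pow_succ]
        group
      have hgC : g ∈ Subgroup.centralizer (M : Set G) :=
        mem_centralizer_of_fix_small_real M (hP.to_le (hMD.trans hDP)) hgM hcop fun x hx hxs =>
          ih x (hMD hx) (hxs.imp_right fun ⟨h2, h4, y, hy, he⟩ => ⟨h2, h4, y, hDP (hMD hy), he⟩)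
            (hMZ hx)
      set z : G := a⁻¹ * (g * a * g⁻¹) with hz
      obtain ⟨⟨a', ha'⟩, hau, rfl⟩ := ha
      have hcomm : ∀ y ∈ P, a'⁻¹ * (y * a' * y⁻¹) ∈ Z := by
        intro y hy
        have h1 := hau (⟨y, hy⟩ : P)
        have h2 : ⁅(⟨y, hy⟩ : P), (⟨a', ha'⟩ : P)⁆ ∈ Subgroup.upperCentralSeries P i := by
          rw [← commutatorElement_inv]
          exact inv_mem h1
        refine ⟨(⟨a', ha'⟩ : P)⁻¹ * ⁅(⟨y, hy⟩ : P), (⟨a', ha'⟩ : P)⁆ * (⟨a', ha'⟩ : P), ?_, ?_⟩
        · simpa using (inferInstance : (Subgroup.upperCentralSeries P i).Normal).conj_mem _ h2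
            (⟨a', ha'⟩ : P)⁻¹
        · simp [commutatorElement_def, mul_assoc]
      have hzM : z ∈ M := by
        intro k
        obtain ⟨y, hy, hye⟩ := h a' haD hsm k
        obtain ⟨y', hy', hye'⟩ := h a' haD hsm (k + 1)
        have e : g ^ k * z * (g ^ k)⁻¹ = (g ^ k * a' * (g ^ k)⁻¹)⁻¹ *
            (g ^ (k + 1) * a' * (g ^ (k + 1))⁻¹) := by
          rw [hz, pow_succ]
          show g ^ k * (a'⁻¹ * (g * a' * g⁻¹)) * (g ^ k)⁻¹ = _
          group
        refine ⟨?_, ?_⟩
        · show g ^ k * z * (g ^ k)⁻¹ ∈ D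
          rw [e]
          exact mul_mem (inv_mem ((Subgroup.mem_normalizer_iff.mp (pow_mem hg k) _).mp haD))
            ((Subgroup.mem_normalizer_iff.mp (pow_mem hg (k + 1)) _).mp haD)
        · show g ^ k * z * (g ^ k)⁻¹ ∈ Z
          rw [e, hye, hye']
          have h3 := mul_mem (inv_mem (hcomm y hy)) (hcomm y' hy')
          convert h3 using 1
          group
      have hgz : Commute g z := ((Subgroup.mem_centralizer_iff.mp hgC) z hzM).symm
      have hiter : ∀ k : ℕ, g ^ k * a' * (g ^ k)⁻¹ = a' * z ^ k := by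
        intro k
        induction k with
        | zero => simp
        | succ k ih2 =>
          calc g ^ (k + 1) * a' * (g ^ (k + 1))⁻¹ = g * (g ^ k * a' * (g ^ k)⁻¹) * g⁻¹ := by
                rw [pow_succ']; group
            _ = g * a' * g⁻¹ * (g * z ^ k * g⁻¹) := by rw [ih2]; group
            _ = g * a' * g⁻¹ * z ^ k := by
                rw [(hgz.pow_right k).eq, mul_inv_cancel_right]
            _ = a' * z ^ (k + 1) := by
                rw [pow_succ', ← mul_assoc]
                congr 1
                show g * a' * g⁻¹ = a' * (a'⁻¹ * (g * a' * g⁻¹))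
                group
      have hz1 : z = 1 := by
        rw [← orderOf_eq_one_iff]
        obtain ⟨j, hj⟩ := hP.exists_card_eq
        refine Nat.eq_one_of_dvd_coprimes (hcop.pow_right j) ?_
          (hj ▸ Subgroup.orderOf_dvd_natCard P (hDP (hMD hzM)))
        apply orderOf_dvd_of_pow_eq_one
        have h4 := hiter (orderOf g)
        simp only [pow_orderOf_eq_one, one_mul, inv_one, mul_one] at h4
        exact left_eq_mul.mp h4
      have h5 : a'⁻¹ * (g * a' * g⁻¹) = 1 := hz1
      show Commute g a'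
      exact mul_inv_eq_iff_eq_mul.mp (inv_mul_eq_one.mp h5).symm
  obtain ⟨n, hn⟩ := (Group.IsNilpotent.nilpotent (G := P))
  refine mem_centralizer_of_fix_small_real D (hP.to_le hDP) hg hcop fun x hx hxs =>
    claim n x hx (hxs.imp_right fun ⟨h2, h4, y, hy, he⟩ => ⟨h2, h4, y, hDP hy, he⟩) ?_
  rw [hn, ← MonoidHom.range_eq_map, Subgroup.range_subtype]
  exact hDP hx

/-- Normal `p`-complement from the fusion of small elements. -/
theorem hasNormalPComplement_of_small_fusion (P : Sylow p G)
    (h : ∀ a ∈ (P : Subgroup G),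
      (a ^ p = 1 ∨ (p = 2 ∧ a ^ 4 = 1 ∧ ∃ h ∈ (P : Subgroup G), h⁻¹ * a * h = a⁻¹)) →
      ∀ g : G, g * a * g⁻¹ ∈ (P : Subgroup G) →
        ∃ y ∈ (P : Subgroup G), g * a * g⁻¹ = y * a * y⁻¹) :
    Cfsg.HasNormalPComplement p G :=
  hasNormalPComplement_of_centralizer P fun Q hQ g hg hco =>
    mem_centralizer_of_conj_small (P : Subgroup G) P.2 Q hQ hg hco fun a ha hsm k =>
      h a (hQ ha) hsm _ (hQ ((Subgroup.mem_normalizer_iff.mp (pow_mem hg k) a).mp ha))

/-- If the small elements have classes of `p`-power size there is a normal `p`-complement. -/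
theorem hasNormalPComplement_of_small_index_pow
    (h : ∀ x : G, (orderOf x = p ∨ (p = 2 ∧ orderOf x = 4)) →
      ∃ a : ℕ, (Subgroup.centralizer ({x} : Set G)).index = p ^ a) :
    Cfsg.HasNormalPComplement p G := by
  obtain ⟨P⟩ := (inferInstance : Nonempty (Sylow p G))
  refine hasNormalPComplement_of_small_fusion P fun a ha hsm g hg => ?_
  by_cases ha1 : a = 1
  · exact ⟨1, one_mem _, by simp [ha1]⟩
  have hord : orderOf a = p ∨ (p = 2 ∧ orderOf a = 4) := by
    rcases hsm with h1 | ⟨h2, h4, -⟩
    · exact Or.inl (orderOf_eq_prime h1 ha1)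
    · subst h2
      by_cases h5 : a ^ 2 = 1
      · exact Or.inl (orderOf_eq_prime h5 ha1)
      · exact Or.inr ⟨rfl, orderOf_eq_prime_pow (p := 2) (n := 1) h5 h4⟩
  obtain ⟨k, hk⟩ := h a hord
  set C := Subgroup.centralizer ({a} : Set G)
  -- `G = P C_G(a)`
  haveI : C.FiniteIndex := inferInstance
  have hcop : Nat.Coprime C.index (P : Subgroup G).index := by
    rw [hk]
    exact ((Nat.Prime.coprime_iff_not_dvd Fact.out).mpr P.not_dvd_index).pow_left k
  have hsurj : ∀ g : G, ∃ y ∈ (P : Subgroup G), ∃ c ∈ C, y * c = g := by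
    have h1 : C.index ∣ C.relIndex (P : Subgroup G) := by
      have h3 := Subgroup.relIndex_mul_index (inf_le_left : C ⊓ (P : Subgroup G) ≤ C)
      have h4 := Subgroup.relIndex_mul_index (inf_le_right : C ⊓ (P : Subgroup G) ≤ (P : Subgroup G))
      rw [Subgroup.inf_relIndex_right] at h4
      refine hcop.dvd_of_dvd_mul_right ?_
      rw [h4, ← h3]
      exact dvd_mul_left _ _
    intro g
    let f : (P : Subgroup G) ⧸ C.subgroupOf (P : Subgroup G) → G ⧸ C :=
      Quotient.map' Subtype.val fun x y hxy => by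
          rw [QuotientGroup.leftRel_apply] at hxy ⊢
          exact Subgroup.mem_subgroupOf.mp hxy
    have hinj : Function.Injective f := by
      intro x y
      refine Quotient.inductionOn₂' x y fun u v huv => ?_
      apply Quotient.sound'
      rw [QuotientGroup.leftRel_apply, Subgroup.mem_subgroupOf]
      exact QuotientGroup.eq.mp huv
    have hbij : Function.Bijective f := hinj.bijective_of_nat_card_le (by
      show C.index ≤ C.relIndex (P : Subgroup G)
      exact Nat.le_of_dvd (Nat.pos_of_ne_zero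
        (Subgroup.FiniteIndex.index_ne_zero (H := C.subgroupOf (P : Subgroup G)))) h1)
    obtain ⟨q, hq⟩ := hbij.2 (QuotientGroup.mk g)
    obtain ⟨y, rfl⟩ := QuotientGroup.mk_surjective q
    exact ⟨y, y.2, (y : G)⁻¹ * g, QuotientGroup.eq.mp hq, by group⟩
  obtain ⟨y, hy, c, hc, rfl⟩ := hsurj g
  refine ⟨y, hy, ?_⟩
  calc y * c * a * (y * c)⁻¹ = y * (c * a) * c⁻¹ * y⁻¹ := by group
    _ = y * (a * c) * c⁻¹ * y⁻¹ := by rw [Subgroup.mem_centralizer_singleton_iff.mp hc]
    _ = y * a * y⁻¹ := by group

end Cfsg.Agent.Transfer
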