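import Cfsg.Agent.Lib.Transfer.FocalLocal
import Cfsg.Prelude.Def_ConjugacyFunctors
import Mathlib.Data.Set.Finite.Lemmas

/-!
# Conjugacy functors: basic tools

Conjugate subgroups, chains of conjugations (`LChain`), transport of control between Sylow
subgroups, fully normalized and well placed conjugates (`exists_wellPlaced_conj`).
-/

set_option linter.style.haveILetI false

namespace Cfsg.Agent.Transfer

open scoped commutatorElement

variable {G : Type*} [Group G]

/-- Shorthand for the conjugate subgroup `g H g⁻¹`. -/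
abbrev conjMap (g : G) (H : Subgroup G) : Subgroup G := H.map (MulAut.conj g).toMonoidHom

theorem mem_conjMap {g : G} {H : Subgroup G} {x : G} : x ∈ conjMap g H ↔ g⁻¹ * x * g ∈ H := by
  constructor
  · rintro ⟨y, hy, rfl⟩
    simpa [mul_assoc] using hy
  · intro h
    exact ⟨_, h, by simp [mul_assoc]⟩

theorem conj_mem_conjMap {g : G} {H : Subgroup G} {x : G} (hx : x ∈ H) :
    g * x * g⁻¹ ∈ conjMap g H :=
  ⟨x, hx, rfl⟩

theorem conjMap_mul (g h : G) (H : Subgroup G) : conjMap g (conjMap h H) = conjMap (g * h) H := by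
  ext x
  simp [mem_conjMap, mul_assoc]

theorem conjMap_one (H : Subgroup G) : conjMap 1 H = H := by
  ext x
  simp [mem_conjMap]

theorem conjMap_inv_conjMap (g : G) (H : Subgroup G) : conjMap g⁻¹ (conjMap g H) = H := by
  rw [conjMap_mul, inv_mul_cancel, conjMap_one]

theorem mem_normalizer_iff_conjMap {g : G} {H : Subgroup G} :
    g ∈ Subgroup.normalizer (H : Set G) ↔ conjMap g H = H :=
  Subgroup.mem_normalizer_iff_map_conj_eq

theorem normalizer_conjMap (g : G) (H : Subgroup G) :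
    Subgroup.normalizer ((conjMap g H : Subgroup G) : Set G) =
      conjMap g (Subgroup.normalizer (H : Set G)) := by
  ext x
  rw [mem_normalizer_iff_conjMap, mem_conjMap, mem_normalizer_iff_conjMap]
  constructor
  · intro h
    rw [← conjMap_mul, ← conjMap_mul, h, conjMap_inv_conjMap]
  · intro h
    have := congrArg (conjMap g) h
    rw [conjMap_mul] at this
    rw [conjMap_mul]
    simpa [mul_assoc] using this

theorem card_conjMap (g : G) (H : Subgroup G) : Nat.card (conjMap g H) = Nat.card H :=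
  Subgroup.card_map_of_injective (MulAut.conj g).injective

theorem conjMap_inf (g : G) (H K : Subgroup G) :
    conjMap g (H ⊓ K) = conjMap g H ⊓ conjMap g K :=
  Subgroup.map_inf H K _ (MulAut.conj g).injective

theorem conjMap_le_conjMap {g : G} {H K : Subgroup G} (h : H ≤ K) : conjMap g H ≤ conjMap g K :=
  Subgroup.map_mono h

theorem conjMap_commutator (g : G) (H K : Subgroup G) :
    conjMap g ⁅H, K⁆ = ⁅conjMap g H, conjMap g K⁆ :=
  Subgroup.map_commutator H K _

theorem conjMap_of_mem {g : G} {H : Subgroup G} (h : g ∈ H) : conjMap g H = H :=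
  mem_normalizer_iff_conjMap.mp (Subgroup.le_normalizer h)

/-! ### Chains of conjugations -/

/-- `LChain 𝓛 T A g`: the map `a ↦ g a g⁻¹` on `A` is a composite of conjugations by elements of
members of `𝓛`, every intermediate conjugate of `A` lying in `T`. -/
inductive LChain (𝓛 : Set (Subgroup G)) (T : Subgroup G) : Set G → G → Prop
  | one {A : Set G} {g : G} : (∀ a ∈ A, g * a * g⁻¹ = a) → LChain 𝓛 T A g
  | step {A : Set G} {g y h : G} {L : Subgroup G} : L ∈ 𝓛 → y ∈ L →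
      (∀ a ∈ A, y * a * y⁻¹ ∈ T) → LChain 𝓛 T ((fun a => y * a * y⁻¹) '' A) h →
      (∀ a ∈ A, g * a * g⁻¹ = h * (y * a * y⁻¹) * h⁻¹) → LChain 𝓛 T A g

namespace LChain

variable {𝓛 : Set (Subgroup G)} {T : Subgroup G}

theorem congr' {A : Set G} {g : G} (h : LChain 𝓛 T A g) {k : G}
    (he : ∀ a ∈ A, k * a * k⁻¹ = g * a * g⁻¹) : LChain 𝓛 T A k := by
  cases h with
  | one h1 => exact .one fun a ha => (he a ha).trans (h1 a ha)
  | step hL hy hT hc hg => exact .step hL hy hT hc fun a ha => (he a ha).trans (hg a ha)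

theorem single {A : Set G} {y : G} {L : Subgroup G} (hL : L ∈ 𝓛) (hy : y ∈ L)
    (hT : ∀ a ∈ A, y * a * y⁻¹ ∈ T) : LChain 𝓛 T A y :=
  .step hL hy hT (.one (g := 1) fun a _ => by simp) fun a _ => by simp

theorem trans {A : Set G} {g : G} (h : LChain 𝓛 T A g) :
    ∀ k : G, LChain 𝓛 T ((fun a => g * a * g⁻¹) '' A) k → LChain 𝓛 T A (k * g) := by
  induction h with
  | @one A g h1 =>
    intro k hk
    have e : (fun a => g * a * g⁻¹) '' A = A := by
      conv_rhs => rw [← Set.image_id A]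
      exact Set.image_congr h1
    rw [e] at hk
    refine hk.congr' fun a ha => ?_
    calc k * g * a * (k * g)⁻¹ = k * (g * a * g⁻¹) * k⁻¹ := by group
      _ = k * a * k⁻¹ := by rw [h1 a ha]
  | @step A g y h L hL hy hT _ hg ih =>
    intro k hk
    refine .step hL hy hT (ih k ?_) fun a ha => ?_
    · rw [Set.image_image]
      convert hk using 1
      exact Set.image_congr fun a ha => (hg a ha).symm
    · calc k * g * a * (k * g)⁻¹ = k * (g * a * g⁻¹) * k⁻¹ := by group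
        _ = k * (h * (y * a * y⁻¹) * h⁻¹) * k⁻¹ := by rw [hg a ha]
        _ = k * h * (y * a * y⁻¹) * (k * h)⁻¹ := by group

theorem inv {A : Set G} {g : G} (h : LChain 𝓛 T A g) :
    (∀ a ∈ A, a ∈ T) → LChain 𝓛 T ((fun a => g * a * g⁻¹) '' A) g⁻¹ := by
  induction h with
  | @one A g h1 =>
    intro _
    refine .one ?_
    rintro _ ⟨a, ha, rfl⟩
    simp only [h1 a ha, inv_inv]
    conv_lhs => rw [← h1 a ha]
    group
  | @step A g y h L hL hy hT _ hg ih =>
    intro hA
    have hrest := ih (by rintro _ ⟨a, ha, rfl⟩; exact hT a ha)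
    have e : (fun a => g * a * g⁻¹) '' A =
        (fun a => h * a * h⁻¹) '' ((fun a => y * a * y⁻¹) '' A) := by
      rw [Set.image_image]
      exact Set.image_congr hg
    rw [e]
    refine (hrest.trans y⁻¹ (single hL (inv_mem hy) ?_)).congr' ?_
    · rintro _ ⟨_, ⟨_, ⟨a, ha, rfl⟩, rfl⟩, rfl⟩
      have : y⁻¹ * (h⁻¹ * (h * (y * a * y⁻¹) * h⁻¹) * h⁻¹⁻¹) * y⁻¹⁻¹ = a := by group
      rw [this]
      exact hA a ha
    · rintro _ ⟨_, ⟨a, ha, rfl⟩, rfl⟩
      have h2 := hg a ha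
      calc g⁻¹ * (h * (y * a * y⁻¹) * h⁻¹) * g⁻¹⁻¹ = g⁻¹ * (g * a * g⁻¹) * g⁻¹⁻¹ := by rw [h2]
        _ = y⁻¹ * h⁻¹ * (h * (y * a * y⁻¹) * h⁻¹) * (y⁻¹ * h⁻¹)⁻¹ := by group

theorem lift {𝓜 : Set (Subgroup G)} {U : Subgroup G} (hUT : U ≤ T)
    (hL : ∀ L ∈ 𝓛, ∀ y ∈ L, ∀ A : Set G, (∀ a ∈ A, a ∈ U) → (∀ a ∈ A, y * a * y⁻¹ ∈ U) →
      LChain 𝓜 T A y) {A : Set G} {g : G} (h : LChain 𝓛 U A g) :
    (∀ a ∈ A, a ∈ U) → LChain 𝓜 T A g := by
  induction h with
  | @one A g h1 => exact fun _ => .one h1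
  | @step A g y h L hLmem hy hT _ hg ih =>
    intro hA
    refine ((hL L hLmem y hy A hA hT).trans h (ih ?_)).congr' fun a ha => ?_
    · rintro _ ⟨a, ha, rfl⟩
      exact hT a ha
    · rw [hg a ha]; group

/-- Conjugate a whole chain. -/
theorem conj {A : Set G} {g : G} (h : LChain 𝓛 T A g) (m : G) :
    LChain (conjMap m '' 𝓛) (conjMap m T) ((fun a => m * a * m⁻¹) '' A) (m * g * m⁻¹) := by
  induction h with
  | @one A g h1 =>
    refine .one ?_
    rintro _ ⟨a, ha, rfl⟩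
    calc m * g * m⁻¹ * (m * a * m⁻¹) * (m * g * m⁻¹)⁻¹ = m * (g * a * g⁻¹) * m⁻¹ := by group
      _ = m * a * m⁻¹ := by rw [h1 a ha]
  | @step A g y h L hL hy hT _ hg ih =>
    refine .step (y := m * y * m⁻¹) (h := m * h * m⁻¹) ⟨L, hL, rfl⟩ (conj_mem_conjMap hy) ?_ ?_ ?_
    · rintro _ ⟨a, ha, rfl⟩
      convert conj_mem_conjMap (g := m) (hT a ha) using 1
      group
    · convert ih using 1
      rw [Set.image_image, Set.image_image]
      exact Set.image_congr fun a _ => by group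
    · rintro _ ⟨a, ha, rfl⟩
      calc m * g * m⁻¹ * (m * a * m⁻¹) * (m * g * m⁻¹)⁻¹ = m * (g * a * g⁻¹) * m⁻¹ := by group
        _ = m * (h * (y * a * y⁻¹) * h⁻¹) * m⁻¹ := by rw [hg a ha]
        _ = _ := by group

theorem exists_fin {A : Set G} {g : G} (h : LChain 𝓛 T A g) :
    (∀ a ∈ A, a ∈ T) → ∃ (n : ℕ) (c : Fin (n + 1) → G), c 0 = 1 ∧
      (∀ i : Fin n, ∃ L ∈ 𝓛, c i.succ * (c i.castSucc)⁻¹ ∈ L) ∧
      (∀ i : Fin (n + 1), ∀ a ∈ A, c i * a * (c i)⁻¹ ∈ T) ∧
      ∀ a ∈ A, c (Fin.last n) * a * (c (Fin.last n))⁻¹ = g * a * g⁻¹ := by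
  induction h with
  | @one A g h1 =>
    exact fun hA => ⟨0, fun _ => 1, rfl, fun i => i.elim0,
      fun i a ha => by simpa using hA a ha, fun a ha => by simpa using (h1 a ha).symm⟩
  | @step A g y h L hL hy hT _ hg ih =>
    intro hA
    obtain ⟨n, c, hc0, hcs, hcT, hcl⟩ := ih (by rintro _ ⟨a, ha, rfl⟩; exact hT a ha)
    refine ⟨n + 1, Fin.cons 1 (fun i => c i * y), rfl, fun i => ?_, fun i a ha => ?_, fun a ha => ?_⟩
    · induction i using Fin.cases with
      | zero => exact ⟨L, hL, by simpa [hc0] using hy⟩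
      | succ j =>
        obtain ⟨L', hL', hj⟩ := hcs j
        refine ⟨L', hL', ?_⟩
        simp only [Fin.cons_succ, Fin.castSucc_succ]
        simpa [mul_assoc] using hj
    · induction i using Fin.cases with
      | zero => simpa using hA a ha
      | succ j =>
        have := hcT j _ ⟨a, ha, rfl⟩
        simpa [mul_assoc] using this
    · have e : (Fin.cons 1 (fun i => c i * y) : Fin (n + 2) → G) (Fin.last (n + 1)) =
          c (Fin.last n) * y := rfl
      rw [e, hg a ha, ← hcl _ ⟨a, ha, rfl⟩]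
      group

theorem of_fin {A : Set G} : ∀ (n : ℕ) (c : Fin (n + 1) → G), c 0 = 1 →
    (∀ i : Fin n, ∃ L ∈ 𝓛, c i.succ * (c i.castSucc)⁻¹ ∈ L) →
    (∀ i : Fin (n + 1), ∀ a ∈ A, c i * a * (c i)⁻¹ ∈ T) → LChain 𝓛 T A (c (Fin.last n)) := by
  intro n
  induction n with
  | zero =>
    intro c h0 _ _
    exact .one fun a _ => by simp [h0]
  | succ n ih =>
    intro c h0 hs hT
    have hrec := ih (fun i => c i.castSucc) h0 (fun i => by simpa using hs i.castSucc)
      (fun i => hT i.castSucc)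
    obtain ⟨L, hL, hy⟩ := hs (Fin.last n)
    set y := c (Fin.last n).succ * (c (Fin.last n).castSucc)⁻¹
    refine (hrec.trans y (single hL hy ?_)).congr' fun a _ => by
      rw [show Fin.last (n + 1) = (Fin.last n).succ from rfl]
      simp [y]
    rintro _ ⟨a, ha, rfl⟩
    have h1 := hT (Fin.last n).succ a ha
    convert h1 using 1
    simp only [y]
    group

end LChain

/-- The normalizers `N_H(W T)`, `W ∈ 𝓦`. -/
def functorNormalizers (𝓦 : Set (Subgroup G → Subgroup G)) (H T : Subgroup G) : Set (Subgroup G) :=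
  {L | ∃ W ∈ 𝓦, L = H ⊓ Subgroup.normalizer ((W T : Subgroup G) : Set G)}

theorem mem_normalizer_functor {p : ℕ} {W : Subgroup G → Subgroup G}
    (hW : Cfsg.IsConjugacyFunctor p W) {T : Subgroup G} (hT : IsPGroup p T) :
    Subgroup.normalizer (T : Set G) ≤ Subgroup.normalizer ((W T : Subgroup G) : Set G) := by
  intro g hg
  rw [mem_normalizer_iff_conjMap] at hg ⊢
  rw [conjMap, ← (hW T hT).2.2 g]
  exact congrArg W hg

theorem self_le_normalizer_functor {p : ℕ} {W : Subgroup G → Subgroup G}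
    (hW : Cfsg.IsConjugacyFunctor p W) {T : Subgroup G} (hT : IsPGroup p T) :
    T ≤ Subgroup.normalizer ((W T : Subgroup G) : Set G) :=
  Subgroup.le_normalizer.trans (mem_normalizer_functor hW hT)

variable [Finite G] {p : ℕ} [Fact p.Prime]

/-- Two `p`-subgroups of `H` of index prime to `p` are conjugate in `H`. -/
theorem exists_conjMap_eq {H T₁ T₂ : Subgroup G} (h₁ : T₁ ≤ H) (h₁p : IsPGroup p T₁)
    (h₁i : ¬ p ∣ T₁.relIndex H) (h₂ : T₂ ≤ H) (h₂p : IsPGroup p T₂) (h₂i : ¬ p ∣ T₂.relIndex H) :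
    ∃ h ∈ H, conjMap h T₁ = T₂ := by
  obtain ⟨c, hc⟩ := MulAction.exists_smul_eq H
    ((h₁p.comap_subtype (K := H)).toSylow h₁i) ((h₂p.comap_subtype (K := H)).toSylow h₂i)
  refine ⟨c, c.2, ?_⟩
  have hc' : ∀ x : H, (x : G) ∈ T₂ ↔ ((c⁻¹ * x * c : H) : G) ∈ T₁ := by
    intro x
    have h1 : x ∈ (((h₂p.comap_subtype (K := H)).toSylow h₂i : Sylow p H) : Subgroup H) ↔
        x ∈ ((c • (h₁p.comap_subtype (K := H)).toSylow h₁i : Sylow p H) : Subgroup H) := by rw [hc]
    refine h1.trans ⟨?_, fun hx => ⟨c⁻¹ * x * c, hx, by simp [mul_assoc]⟩⟩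
    rintro ⟨y, hy, rfl⟩
    have hy' : (y : G) ∈ T₁ := hy
    simpa [mul_assoc] using hy'
  ext x
  rw [mem_conjMap]
  constructor
  · intro hx
    have hxH : x ∈ H := by
      have := mul_mem (mul_mem c.2 (h₁ hx)) (inv_mem c.2)
      simpa [mul_assoc] using this
    exact (hc' ⟨x, hxH⟩).mpr hx
  · intro hx
    exact (hc' ⟨x, h₂ hx⟩).mp hx

theorem lchain_of_familyControlsStrongFusionIn {𝓦 : Set (Subgroup G → Subgroup G)}
    (h𝓦 : ∀ W ∈ 𝓦, Cfsg.IsConjugacyFunctor p W) {H T : Subgroup G} (hTH : T ≤ H)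
    (hTp : IsPGroup p T) (hTi : ¬ p ∣ T.relIndex H)
    (hc : Cfsg.FamilyControlsStrongFusionIn p 𝓦 H) {A : Set G} {g : G} (hg : g ∈ H)
    (hA : ∀ a ∈ A, a ∈ T) (hAg : ∀ a ∈ A, g * a * g⁻¹ ∈ T) :
    LChain (functorNormalizers 𝓦 H T) T A g := by
  obtain ⟨T₁, hT₁H, hT₁p, hT₁i, hc⟩ := hc
  obtain ⟨m, hm, hmT⟩ := exists_conjMap_eq hT₁H hT₁p hT₁i hTH hTp hTi
  have hin : ∀ a, a ∈ T → m⁻¹ * a * m ∈ T₁ := fun a ha => by
    rw [← hmT, mem_conjMap] at ha
    exact ha
  obtain ⟨n, c, h0, hs, hT, hl⟩ := hc ((fun a => m⁻¹ * a * m) '' A) (m⁻¹ * g * m)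
    (mul_mem (mul_mem (inv_mem hm) hg) hm) (by rintro _ ⟨a, ha, rfl⟩; exact hin a (hA a ha))
    (by
      rintro _ ⟨_, ⟨a, ha, rfl⟩, rfl⟩
      show m⁻¹ * g * m * (m⁻¹ * a * m) * (m⁻¹ * g * m)⁻¹ ∈ T₁
      rw [show m⁻¹ * g * m * (m⁻¹ * a * m) * (m⁻¹ * g * m)⁻¹ = m⁻¹ * (g * a * g⁻¹) * m by group]
      exact hin _ (hAg a ha))
  have h1 : LChain (functorNormalizers 𝓦 H T₁) T₁ ((fun a => m⁻¹ * a * m) '' A) (m⁻¹ * g * m) := by
    refine (LChain.of_fin n c h0 (fun i => ?_) fun i a ha => hT i ⟨a, ha, rfl⟩).congr'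
      fun a ha => (hl a ha).symm
    obtain ⟨W, hW, hi⟩ := hs i
    exact ⟨_, ⟨W, hW, rfl⟩, hi⟩
  have h2 := h1.conj m
  have eA : (fun a => m * a * m⁻¹) '' ((fun a => m⁻¹ * a * m) '' A) = A := by
    rw [Set.image_image]
    conv_rhs => rw [← Set.image_id A]
    exact Set.image_congr fun a _ => by simp [mul_assoc]
  have eL : conjMap m '' functorNormalizers 𝓦 H T₁ ⊆ functorNormalizers 𝓦 H T := by
    rintro _ ⟨_, ⟨W, hW, rfl⟩, rfl⟩
    refine ⟨W, hW, ?_⟩
    rw [conjMap_inf, conjMap_of_mem hm, ← normalizer_conjMap, conjMap, ← (h𝓦 W hW T₁ hT₁p).2.2 m]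
    exact congrArg (fun U => H ⊓ Subgroup.normalizer ((W U : Subgroup G) : Set G)) hmT
  rw [eA, hmT, show m * (m⁻¹ * g * m) * m⁻¹ = g by group] at h2
  exact LChain.lift le_rfl (fun L hL y hy A hA hT => LChain.single (eL hL) hy hT) h2 hA

theorem familyControlsStrongFusionIn_of_lchain {𝓦 : Set (Subgroup G → Subgroup G)}
    {H T : Subgroup G} (hTH : T ≤ H) (hTp : IsPGroup p T) (hTi : ¬ p ∣ T.relIndex H)
    (h : ∀ (A : Set G) (g : G), g ∈ H → (∀ a ∈ A, a ∈ T) → (∀ a ∈ A, g * a * g⁻¹ ∈ T) →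
      LChain (functorNormalizers 𝓦 H T) T A g) :
    Cfsg.FamilyControlsStrongFusionIn p 𝓦 H := by
  refine ⟨T, hTH, hTp, hTi, fun A g hg hA hAg => ?_⟩
  obtain ⟨n, c, h0, hs, hT, hl⟩ :=
    (h A g hg hA fun a ha => hAg ⟨a, ha, rfl⟩).exists_fin hA
  refine ⟨n, c, h0, fun i => ?_, fun i => ?_, hl⟩
  · obtain ⟨_, ⟨W, hW, rfl⟩, hi⟩ := hs i
    exact ⟨W, hW, hi⟩
  · rintro _ ⟨a, ha, rfl⟩
    exact hT i a ha

/-! ### Sylow normalizers inside `S` -/

theorem lt_functor_normalizer {W : Subgroup G → Subgroup G} (hW : Cfsg.IsConjugacyFunctor p W)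
    (S : Sylow p G) {T : Subgroup G} (hT : T < (S : Subgroup G)) :
    Nat.card T < Nat.card ↥((S : Subgroup G) ⊓ Subgroup.normalizer ((W T : Subgroup G) : Set G)) := by
  have h1 := lt_inf_normalizer_of_lt S.2 hT
  have h2 : T < (S : Subgroup G) ⊓ Subgroup.normalizer ((W T : Subgroup G) : Set G) :=
    lt_of_lt_of_le h1 (inf_le_inf_left _ (mem_normalizer_functor hW (S.2.to_le hT.le)))
  by_contra hle
  exact h2.ne (Subgroup.eq_of_le_of_card_ge h2.le (not_lt.mp hle))

theorem card_lt_inf_normalizer (S : Sylow p G) {D : Subgroup G} (h : D < (S : Subgroup G)) :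
    Nat.card D < Nat.card ↥((S : Subgroup G) ⊓ Subgroup.normalizer (D : Set G)) := by
  by_contra hle
  exact (lt_inf_normalizer_of_lt S.2 h).ne
    (Subgroup.eq_of_le_of_card_ge (lt_inf_normalizer_of_lt S.2 h).le (not_lt.mp hle))

/-- `U` can be conjugated to a fully normalized subgroup, taking `N_S(U)` along. -/
theorem exists_fullyNormalized_conj (S : Sylow p G) {U : Subgroup G} (hU : U ≤ (S : Subgroup G)) :
    ∃ m : G, conjMap m ((S : Subgroup G) ⊓ Subgroup.normalizer (U : Set G)) ≤ (S : Subgroup G) ∧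
      conjMap m U ≤ (S : Subgroup G) ∧
      ¬ p ∣ ((S : Subgroup G) ⊓ Subgroup.normalizer ((conjMap m U : Subgroup G) : Set G)).relIndex
        (Subgroup.normalizer ((conjMap m U : Subgroup G) : Set G)) := by
  set N := Subgroup.normalizer (U : Set G)
  obtain ⟨R, hR⟩ := (S.2.comap_subtype (K := N)).exists_le_sylow
  obtain ⟨R', hR'⟩ := (R.2.map N.subtype).exists_le_sylow
  obtain ⟨m, hm⟩ := MulAction.exists_smul_eq G R' S
  have key : ∀ x : N, x ∈ R → m * (x : G) * m⁻¹ ∈ (S : Subgroup G) := by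
    intro x hx
    rw [← hm]
    exact ⟨x, hR' ⟨x, hx, rfl⟩, rfl⟩
  refine ⟨m, ?_, ?_, ?_⟩
  · rintro _ ⟨x, ⟨hxS, hxN⟩, rfl⟩
    exact key ⟨x, hxN⟩ (hR hxS)
  · rintro _ ⟨x, hx, rfl⟩
    exact key ⟨x, Subgroup.le_normalizer hx⟩ (hR (hU hx))
  · intro hd
    apply R.not_dvd_index
    rw [normalizer_conjMap] at hd
    have hle : conjMap m ((R : Subgroup N).map N.subtype) ≤ (S : Subgroup G) ⊓ conjMap m N := by
      rintro _ ⟨_, ⟨x, hx, rfl⟩, rfl⟩
      exact ⟨key x hx, conj_mem_conjMap x.2⟩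
    have h1 : (conjMap m ((R : Subgroup N).map N.subtype)).relIndex (conjMap m N) =
        (R : Subgroup N).index := by
      rw [conjMap, conjMap, Subgroup.relIndex_map_map_of_injective _ _ (MulAut.conj m).injective]
      simp [Subgroup.relIndex, Subgroup.subgroupOf, Subgroup.comap_map_eq_self_of_injective
        N.subtype_injective]
    exact h1 ▸ hd.trans (Subgroup.relIndex_dvd_of_le_left _ hle)

theorem isTame_relIndex {S : Sylow p G} {D : Subgroup G} (h : IsTame S D) :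
    ¬ p ∣ ((S : Subgroup G) ⊓ Subgroup.normalizer (D : Set G)).relIndex
      (Subgroup.normalizer (D : Set G)) := by
  obtain ⟨Q, -, h1, -⟩ := h
  exact h1

theorem functorTower_succ_eq (W : Subgroup G → Subgroup G) (S T : Subgroup G) :
    ∀ i, Cfsg.functorTower W S T (i + 1) =
      Cfsg.functorTower W S (W (S ⊓ Subgroup.normalizer (T : Set G))) i
  | 0 => rfl
  | i + 1 => by
    show W (S ⊓ Subgroup.normalizer ((Cfsg.functorTower W S T (i + 1) : Subgroup G) : Set G)) = _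
    rw [functorTower_succ_eq W S T i]
    rfl

theorem isWellPlaced_of_step {W : Subgroup G → Subgroup G} {S T : Subgroup G} (hTS : T ≤ S)
    (h0 : ¬ p ∣ (S ⊓ Subgroup.normalizer (T : Set G)).relIndex (Subgroup.normalizer (T : Set G)))
    (h : Cfsg.IsWellPlaced p W S (W (S ⊓ Subgroup.normalizer (T : Set G)))) :
    Cfsg.IsWellPlaced p W S T := by
  refine ⟨hTS, fun i => ?_⟩
  rcases i with _ | i
  · exact h0
  · rw [functorTower_succ_eq]
    exact h.2 i

theorem inf_normalizer_eq_self_of_le {S U : Subgroup G}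
    (h : S ≤ Subgroup.normalizer (U : Set G)) : S ⊓ Subgroup.normalizer (U : Set G) = S :=
  inf_eq_left.mpr h

theorem isWellPlaced_of_normal {W : Subgroup G → Subgroup G} (hW : Cfsg.IsConjugacyFunctor p W)
    (S : Sylow p G) {T : Subgroup G} (hTS : T ≤ (S : Subgroup G))
    (hn : (S : Subgroup G) ≤ Subgroup.normalizer (T : Set G)) :
    Cfsg.IsWellPlaced p W (S : Subgroup G) T := by
  have key : ∀ i, (S : Subgroup G) ≤
      Subgroup.normalizer ((Cfsg.functorTower W (S : Subgroup G) T i : Subgroup G) : Set G) := by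
    intro i
    induction i with
    | zero => exact hn
    | succ i ih =>
      show (S : Subgroup G) ≤ Subgroup.normalizer ((W ((S : Subgroup G) ⊓ _) : Subgroup G) : Set G)
      rw [inf_eq_left.mpr ih]
      exact self_le_normalizer_functor hW S.2
  refine ⟨hTS, fun i hd => S.not_dvd_index ?_⟩
  rw [inf_eq_left.mpr (key i)] at hd
  exact hd.trans (Subgroup.relIndex_dvd_index_of_le (key i))

/-- Every subgroup of `S` is conjugate to a well placed one, taking `N_S` along. -/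
theorem exists_wellPlaced_conj {W : Subgroup G → Subgroup G} (hW : Cfsg.IsConjugacyFunctor p W)
    (S : Sylow p G) : ∀ U : Subgroup G, U ≤ (S : Subgroup G) →
    ∃ m : G, conjMap m ((S : Subgroup G) ⊓ Subgroup.normalizer (U : Set G)) ≤ (S : Subgroup G) ∧
      Cfsg.IsWellPlaced p W (S : Subgroup G) (conjMap m U) := by
  intro U
  induction h : Nat.card (S : Subgroup G) -
      Nat.card ↥((S : Subgroup G) ⊓ Subgroup.normalizer (U : Set G))
    using Nat.strong_induction_on generalizing U with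
  | _ k IH =>
  intro hU
  obtain ⟨m, hm1, hm2, hm3⟩ := exists_fullyNormalized_conj S hU
  set E := conjMap m U with hE
  set T := (S : Subgroup G) ⊓ Subgroup.normalizer (E : Set G) with hT
  have hTU : Nat.card ↥((S : Subgroup G) ⊓ Subgroup.normalizer (U : Set G)) ≤ Nat.card T := by
    rw [← card_conjMap m]
    refine Subgroup.card_le_of_le (le_inf hm1 ?_)
    rw [hE, normalizer_conjMap]
    exact conjMap_le_conjMap inf_le_right
  rcases eq_or_lt_of_le (show T ≤ (S : Subgroup G) from inf_le_left) with hTS | hTS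
  · refine ⟨m, hm1, isWellPlaced_of_normal hW S hm2 ?_⟩
    exact hTS.ge.trans inf_le_right
  have hTp : IsPGroup p T := S.2.to_le hTS.le
  set U₁ := W T with hU₁
  have hlt : Nat.card T < Nat.card ↥((S : Subgroup G) ⊓ Subgroup.normalizer (U₁ : Set G)) :=
    lt_functor_normalizer hW S hTS
  obtain ⟨m₂, hn1, hn2⟩ := IH _ (by
    rw [← h]
    have := Subgroup.card_le_of_le
      (inf_le_left : (S : Subgroup G) ⊓ Subgroup.normalizer (U₁ : Set G) ≤ _)
    omega) U₁ rfl ((hW T hTp).1.trans hTS.le)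
  have hTN : T ≤ (S : Subgroup G) ⊓ Subgroup.normalizer ((U₁ : Subgroup G) : Set G) :=
    le_inf hTS.le (self_le_normalizer_functor hW hTp)
  have hT2S : conjMap m₂ T ≤ (S : Subgroup G) := (conjMap_le_conjMap hTN).trans hn1
  have hT2le : conjMap m₂ T ≤
      (S : Subgroup G) ⊓ Subgroup.normalizer ((conjMap m₂ E : Subgroup G) : Set G) := by
    refine le_inf hT2S ?_
    rw [normalizer_conjMap]
    exact conjMap_le_conjMap inf_le_right
  -- `conjMap m₂ T` is already Sylow in the normalizer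
  have hT2i : ¬ p ∣ (conjMap m₂ T).relIndex
      (Subgroup.normalizer ((conjMap m₂ E : Subgroup G) : Set G)) := by
    rw [normalizer_conjMap, conjMap, conjMap,
      Subgroup.relIndex_map_map_of_injective _ _ (MulAut.conj m₂).injective]
    exact hm3
  have hT2 : conjMap m₂ T =
      (S : Subgroup G) ⊓ Subgroup.normalizer ((conjMap m₂ E : Subgroup G) : Set G) := by
    refine le_antisymm hT2le fun x hx => ?_
    set N' := Subgroup.normalizer ((conjMap m₂ E : Subgroup G) : Set G)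
    let R : Sylow p N' := ((hTp.map _).comap_subtype (K := N')).toSylow hT2i
    have h1 := R.3 (Q := ((S : Subgroup G) ⊓ N').subgroupOf N') (S.2.to_le inf_le_left).comap_subtype
      (fun y hy => hT2le hy)
    exact (h1 ▸ (show (⟨x, hx.2⟩ : N') ∈ ((S : Subgroup G) ⊓ N').subgroupOf N' from hx) :
      (⟨x, hx.2⟩ : N') ∈ (R : Subgroup N'))
  refine ⟨m₂ * m, ?_, ?_⟩
  · rw [← conjMap_mul]
    refine (conjMap_le_conjMap (le_inf hm1 ?_)).trans hT2S
    rw [hE, normalizer_conjMap]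
    exact conjMap_le_conjMap inf_le_right
  · rw [← conjMap_mul]
    refine isWellPlaced_of_step ?_ ?_ ?_
    · exact (conjMap_le_conjMap (le_inf hm2 Subgroup.le_normalizer)).trans hT2S
    · rw [← hT2]
      exact hT2i
    · rw [← hT2, conjMap, (hW T hTp).2.2 m₂]
      exact hn2

end Cfsg.Agent.Transfer
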