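import Cfsg.Agent.Lib.Transfer.FunctorFusion
import Cfsg.Agent.Lib.Transfer.ConjFamily

/-!
# Local to global control of strong fusion, local hypothesis on a restricted class of subgroups

`familyControlsStrongFusionIn_top_of_local_restricted`: the local hypothesis is only needed for a class
`R` containing the conjugation family, closed under conjugation and under `E ↦ W(N_S(E))`.
-/

set_option autoImplicit false
set_option linter.style.haveILetI false

namespace Cfsg.Agent.Transfer

universe u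

variable {G : Type u} [Group G] [Finite G] {p : ℕ} [Fact p.Prime]
variable {S : Sylow p G} {𝓦 : Set (Subgroup G → Subgroup G)} {Good : Subgroup G → Prop}
  {R : Subgroup G → Prop}

theorem lchain_of_good_restricted (hgood : IsGoodPred S Good) (h𝓦 : ∀ W ∈ 𝓦, Cfsg.IsConjugacyFunctor p W)
    (hconj : ∀ (m : G) (U : Subgroup G), R U → conjMap m U ≤ (S : Subgroup G) → R (conjMap m U))
    (hstep : ∀ W ∈ 𝓦, ∀ E : Subgroup G, E ≤ (S : Subgroup G) → E ≠ ⊥ → R E →
      R (W ((S : Subgroup G) ⊓ Subgroup.normalizer (E : Set G))))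
    (hfam : ∀ D : Subgroup G, IsGoldschmidt S D → D ≠ ⊥ → R D)
    (hloc : ∀ E : Subgroup G, E ≤ (S : Subgroup G) → E ≠ ⊥ → Good E → R E →
      Cfsg.FamilyControlsStrongFusionIn p 𝓦 (Subgroup.normalizer (E : Set G))) :
    ∀ k, ∀ U : Subgroup G, U ≤ (S : Subgroup G) → U ≠ ⊥ → R U →
      Nat.card (S : Subgroup G) - Nat.card ↥((S : Subgroup G) ⊓ Subgroup.normalizer (U : Set G)) = k →
      ∀ y ∈ Subgroup.normalizer (U : Set G), ∀ A : Set G,
        (∀ a ∈ A, a ∈ (S : Subgroup G) ⊓ Subgroup.normalizer (U : Set G)) →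
        (∀ a ∈ A, y * a * y⁻¹ ∈ (S : Subgroup G) ⊓ Subgroup.normalizer (U : Set G)) →
        LChain (functorNormalizers 𝓦 ⊤ (S : Subgroup G)) (S : Subgroup G) A y := by
  intro k
  induction k using Nat.strong_induction_on with
  | _ k IH =>
  -- good subgroups
  have hgoodcase : ∀ E : Subgroup G, E ≤ (S : Subgroup G) → E ≠ ⊥ → Good E → R E →
      Nat.card (S : Subgroup G) -
        Nat.card ↥((S : Subgroup G) ⊓ Subgroup.normalizer (E : Set G)) ≤ k →
      ∀ y ∈ Subgroup.normalizer (E : Set G), ∀ A : Set G,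
        (∀ a ∈ A, a ∈ (S : Subgroup G) ⊓ Subgroup.normalizer (E : Set G)) →
        (∀ a ∈ A, y * a * y⁻¹ ∈ (S : Subgroup G) ⊓ Subgroup.normalizer (E : Set G)) →
        LChain (functorNormalizers 𝓦 ⊤ (S : Subgroup G)) (S : Subgroup G) A y := by
    intro E hES hE hEg hER hEk y hy A hA hAy
    set T := (S : Subgroup G) ⊓ Subgroup.normalizer (E : Set G) with hT
    have hTp : IsPGroup p T := S.2.to_le inf_le_left
    refine LChain.lift inf_le_left ?_ (lchain_of_familyControlsStrongFusionIn h𝓦 inf_le_right hTp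
      (hgood.relIndex E hEg) (hloc E hES hE hEg hER) hy hA hAy) hA
    rintro _ ⟨W, hW, rfl⟩ z hz B hB hBz
    rcases eq_or_lt_of_le (show T ≤ (S : Subgroup G) from inf_le_left) with hTS | hTS
    · exact LChain.single ⟨W, hW, rfl⟩ ⟨Subgroup.mem_top z, hTS ▸ hz.2⟩ fun b hb => (hBz b hb).1
    · have hlt : Nat.card T <
          Nat.card ↥((S : Subgroup G) ⊓ Subgroup.normalizer ((W T : Subgroup G) : Set G)) :=
        lt_functor_normalizer (h𝓦 W hW) S hTS
      have hTne : T ≠ ⊥ := fun h0 =>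
        hE (le_bot_iff.mp (h0 ▸ le_inf hES Subgroup.le_normalizer))
      have hTN : T ≤ (S : Subgroup G) ⊓ Subgroup.normalizer ((W T : Subgroup G) : Set G) :=
        le_inf hTS.le (self_le_normalizer_functor (h𝓦 W hW) hTp)
      refine IH _ ?_ (W T) ((h𝓦 W hW T hTp).1.trans hTS.le) ((h𝓦 W hW T hTp).2.1 hTne) (hstep W hW E hES hE hER) rfl z hz.2
        B (fun b hb => hTN (hB b hb)) (fun b hb => hTN (hBz b hb))
      have := Subgroup.card_le_of_le
        (inf_le_left : (S : Subgroup G) ⊓ Subgroup.normalizer ((W T : Subgroup G) : Set G) ≤ _)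
      omega
  intro U hU hUne hUR hk y hy A hA hAy
  obtain ⟨m, hm1, hm2, hmg⟩ := hgood.exists_conj U hU
  set T := (S : Subgroup G) ⊓ Subgroup.normalizer (U : Set G) with hT
  have hUT : U ≤ T := le_inf hU Subgroup.le_normalizer
  have hTne : T ≠ ⊥ := fun h0 => hUne (le_bot_iff.mp (h0 ▸ hUT))
  have hSne : (S : Subgroup G) ≠ ⊥ := fun h0 => hUne (le_bot_iff.mp (h0 ▸ hU))
  -- the transporting element
  have hmchain : ∀ B : Set G, (∀ b ∈ B, b ∈ T) →
      LChain (functorNormalizers 𝓦 ⊤ (S : Subgroup G)) (S : Subgroup G) B m := by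
    obtain ⟨c, hc, hch0⟩ := alperin_goldschmidt S (T : Set G) m⁻¹ (fun a ha => ha.1) (fun a ha => by
      rw [inv_inv]; exact hm1 ⟨a, ha, rfl⟩)
    have hch := hch0.strengthen (Nat.card T) (Nat.card_coe_set_eq (T : Set G)).le
    have hconv : ∀ (C : Set G) (g : G),
        FusionChain (fun E => IsGoldschmidt S E ∧ Nat.card T ≤ Nat.card E) C g →
        ∀ B : Set G, B ⊆ C → (∀ b ∈ B, b ∈ (S : Subgroup G)) →
          LChain (functorNormalizers 𝓦 ⊤ (S : Subgroup G)) (S : Subgroup G) B g⁻¹ := by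
      intro C g hc
      induction hc with
      | one C => exact fun B _ _ => LChain.one fun a _ => by simp
      | @step C D x g hD hC hx _ ih =>
        intro B hB hBS
        rw [mul_inv_rev]
        have hx' := inv_mem hx
        have hDS : D ≤ (S : Subgroup G) := hD.1.1
        have hmem : ∀ b ∈ B, x⁻¹ * b * x⁻¹⁻¹ ∈ D := fun b hb => by
          rw [inv_inv]
          exact (Subgroup.mem_normalizer_iff''.mp hx b).mp (hC (hB hb))
        refine LChain.trans ?_ g⁻¹ (ih _ (fun z hz => ?_) (fun z hz => ?_))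
        · rcases eq_or_lt_of_le hDS with rfl | hlt
          · refine hgoodcase _ le_rfl hSne hgood.top (hfam _ (isGoldschmidt_self S) hSne) ?_ _ hx' B
              (fun b hb => le_inf le_rfl Subgroup.le_normalizer (hC (hB hb)))
              (fun b hb => le_inf le_rfl Subgroup.le_normalizer (hmem b hb))
            rw [inf_eq_left.mpr Subgroup.le_normalizer]
            omega
          · have h1 := card_lt_inf_normalizer S hlt
            have h2 := hD.2
            have hDne : D ≠ ⊥ := by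
              intro h0
              have : 1 < Nat.card T := (Subgroup.one_lt_card_iff_ne_bot T).mpr hTne
              rw [h0, Subgroup.card_bot] at h2
              omega
            refine IH _ ?_ D hDS hDne (hfam D hD.1 hDne) rfl _ hx' B
              (fun b hb => le_inf hDS Subgroup.le_normalizer (hC (hB hb)))
              (fun b hb => le_inf hDS Subgroup.le_normalizer (hmem b hb))
            have := Subgroup.card_le_of_le
              (inf_le_left : (S : Subgroup G) ⊓ Subgroup.normalizer (D : Set G) ≤ _)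
            omega
        · obtain ⟨b, hb, rfl⟩ := hz
          exact ⟨b, hB hb, by simp⟩
        · obtain ⟨b, hb, rfl⟩ := hz
          exact hDS (hmem b hb)
    intro B hB
    refine (hconv _ _ hch B hB fun b hb => (hB b hb).1).congr' fun b hb => ?_
    have hcb := Subgroup.mem_centralizer_iff.mp hc b (hB b hb)
    calc m * b * m⁻¹ = m * (b * c) * (c⁻¹ * m⁻¹) := by group
      _ = m * (c * b) * (c⁻¹ * m⁻¹) := by rw [hcb]
      _ = (c⁻¹ * m⁻¹)⁻¹ * b * ((c⁻¹ * m⁻¹)⁻¹)⁻¹ := by group
  have hyE : m * y * m⁻¹ ∈ Subgroup.normalizer ((conjMap m U : Subgroup G) : Set G) := by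
    rw [normalizer_conjMap]
    exact conj_mem_conjMap hy
  have hTE : ∀ a ∈ T, m * a * m⁻¹ ∈
      (S : Subgroup G) ⊓ Subgroup.normalizer ((conjMap m U : Subgroup G) : Set G) := fun a ha =>
    ⟨hm1 ⟨a, ha, rfl⟩, by
      show m * a * m⁻¹ ∈ Subgroup.normalizer ((conjMap m U : Subgroup G) : Set G)
      rw [normalizer_conjMap]
      exact conj_mem_conjMap ha.2⟩
  have hmne : conjMap m U ≠ ⊥ := by
    rw [Ne, ← Subgroup.card_eq_one, card_conjMap, Subgroup.card_eq_one]
    exact hUne
  have hcardE : Nat.card T ≤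
      Nat.card ↥((S : Subgroup G) ⊓ Subgroup.normalizer ((conjMap m U : Subgroup G) : Set G)) := by
    rw [← card_conjMap m T]
    refine Subgroup.card_le_of_le ?_
    rintro _ ⟨a, ha, rfl⟩
    exact hTE a ha
  have h1 := hmchain A hA
  have h2 := hgoodcase (conjMap m U) hm2 hmne hmg (hconj m U hUR hm2) (by omega) _ hyE ((fun a => m * a * m⁻¹) '' A)
    (by rintro _ ⟨a, ha, rfl⟩; exact hTE a (hA a ha))
    (by
      rintro _ ⟨a, ha, rfl⟩
      convert hTE _ (hAy a ha) using 1
      group)
  have h3 := (hmchain ((fun a => y * a * y⁻¹) '' A)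
    (by rintro _ ⟨a, ha, rfl⟩; exact hAy a ha)).inv
    (by rintro _ ⟨a, ha, rfl⟩; exact (hAy a ha).1)
  refine ((h1.trans _ h2).trans _ ?_).congr' (g := m⁻¹ * (m * y * m⁻¹ * m))
    (fun a _ => by group)
  convert h3 using 1
  rw [Set.image_image]
  exact Set.image_congr fun a _ => by group

/-- **Local to global control of strong fusion**. -/
theorem familyControlsStrongFusionIn_top_of_local_restricted (hgood : IsGoodPred S Good)
    (h𝓦 : ∀ W ∈ 𝓦, Cfsg.IsConjugacyFunctor p W)
    (hconj : ∀ (m : G) (U : Subgroup G), R U → conjMap m U ≤ (S : Subgroup G) → R (conjMap m U))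
    (hstep : ∀ W ∈ 𝓦, ∀ E : Subgroup G, E ≤ (S : Subgroup G) → E ≠ ⊥ → R E →
      R (W ((S : Subgroup G) ⊓ Subgroup.normalizer (E : Set G))))
    (hfam : ∀ D : Subgroup G, IsGoldschmidt S D → D ≠ ⊥ → R D)
    (hloc : ∀ E : Subgroup G, E ≤ (S : Subgroup G) → E ≠ ⊥ → Good E → R E →
      Cfsg.FamilyControlsStrongFusionIn p 𝓦 (Subgroup.normalizer (E : Set G))) :
    Cfsg.FamilyControlsStrongFusionIn p 𝓦 ⊤ := by
  refine familyControlsStrongFusionIn_of_lchain le_top S.2
    (by rw [Subgroup.relIndex_top_right]; exact S.not_dvd_index) fun A g _ hA hAg => ?_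
  obtain ⟨c, hc, hch⟩ := alperin_goldschmidt S A g⁻¹ hA (fun a ha => by rw [inv_inv]; exact hAg a ha)
  have hconv : ∀ (C : Set G) (x : G), FusionChain (IsGoldschmidt S) C x →
      (∀ a ∈ C, a ∈ (S : Subgroup G)) →
      LChain (functorNormalizers 𝓦 ⊤ (S : Subgroup G)) (S : Subgroup G) C x⁻¹ := by
    intro C x hc
    induction hc with
    | one C => exact fun _ => LChain.one fun a _ => by simp
    | @step C D x g hD hC hx _ ih =>
      intro hCS
      rw [mul_inv_rev]
      have hmem : ∀ b ∈ C, x⁻¹ * b * x⁻¹⁻¹ ∈ D := fun b hb => by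
        rw [inv_inv]
        exact (Subgroup.mem_normalizer_iff''.mp hx b).mp (hC hb)
      refine LChain.trans ?_ g⁻¹ ?_
      · by_cases hDb : D = ⊥
        · subst hDb
          exact LChain.one fun a ha => by simp [Subgroup.mem_bot.mp (hC ha)]
        · exact lchain_of_good_restricted hgood h𝓦 hconj hstep hfam hloc _ D hD.1 hDb (hfam D hD hDb) rfl _ (inv_mem hx) C
            (fun b hb => le_inf hD.1 Subgroup.le_normalizer (hC hb))
            (fun b hb => le_inf hD.1 Subgroup.le_normalizer (hmem b hb))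
      · have e : (fun a => x⁻¹ * a * x⁻¹⁻¹) '' C = (fun a => x⁻¹ * a * x) '' C := by simp
        rw [e]
        refine ih ?_
        rintro _ ⟨b, hb, rfl⟩
        simpa using hD.1 (hmem b hb)
  refine (hconv A _ hch hA).congr' fun a ha => ?_
  have hca := Subgroup.mem_centralizer_iff.mp hc a ha
  calc g * a * g⁻¹ = g * (a * c) * (c⁻¹ * g⁻¹) := by group
    _ = g * (c * a) * (c⁻¹ * g⁻¹) := by rw [hca]
    _ = (c⁻¹ * g⁻¹)⁻¹ * a * ((c⁻¹ * g⁻¹)⁻¹)⁻¹ := by group



end Cfsg.Agent.Transfer
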