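import Cfsg.Agent.Lib.Transfer.FunctorFusion

/-!
# Conjugacy functors: transfer, from local to global

* `familyControlsTransferIn_top_of_local`;
* `controlsTransferIn_iff_singleton`.
-/

set_option linter.style.haveILetI false

namespace Cfsg.Agent.Transfer

open scoped commutatorElement

variable {G : Type*} [Group G]

variable [Finite G] {p : ℕ} [Fact p.Prime]

variable {S : Sylow p G} {𝓦 : Set (Subgroup G → Subgroup G)} {Good : Subgroup G → Prop}

theorem inf_commutator_le_of_good (hgood : IsGoodPred S Good)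
    (h𝓦 : ∀ W ∈ 𝓦, Cfsg.IsConjugacyFunctor p W)
    (hloc : ∀ E : Subgroup G, E ≤ (S : Subgroup G) → E ≠ ⊥ → Good E →
      Cfsg.FamilyControlsTransferIn p 𝓦 (Subgroup.normalizer (E : Set G))) :
    ∀ k, ∀ U : Subgroup G, U ≤ (S : Subgroup G) → U ≠ ⊥ →
      Nat.card (S : Subgroup G) - Nat.card ↥((S : Subgroup G) ⊓ Subgroup.normalizer (U : Set G)) = k →
      (S : Subgroup G) ⊓ ⁅Subgroup.normalizer (U : Set G), Subgroup.normalizer (U : Set G)⁆ ≤
        ⨆ W ∈ 𝓦, (S : Subgroup G) ⊓
          ⁅(⊤ : Subgroup G) ⊓ Subgroup.normalizer ((W (S : Subgroup G) : Subgroup G) : Set G),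
            (⊤ : Subgroup G) ⊓ Subgroup.normalizer ((W (S : Subgroup G) : Subgroup G) : Set G)⁆ := by
  intro k
  induction k using Nat.strong_induction_on with
  | _ k IH =>
  set target := ⨆ W ∈ 𝓦, (S : Subgroup G) ⊓
    ⁅(⊤ : Subgroup G) ⊓ Subgroup.normalizer ((W (S : Subgroup G) : Subgroup G) : Set G),
      (⊤ : Subgroup G) ⊓ Subgroup.normalizer ((W (S : Subgroup G) : Subgroup G) : Set G)⁆ with htarget
  have hgoodcase : ∀ E : Subgroup G, E ≤ (S : Subgroup G) → E ≠ ⊥ → Good E →
      Nat.card (S : Subgroup G) -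
        Nat.card ↥((S : Subgroup G) ⊓ Subgroup.normalizer (E : Set G)) ≤ k →
      (S : Subgroup G) ⊓ ⁅Subgroup.normalizer (E : Set G), Subgroup.normalizer (E : Set G)⁆ ≤
        target := by
    intro E hES hE hEg hEk
    set N := Subgroup.normalizer (E : Set G) with hN
    set T := (S : Subgroup G) ⊓ N with hT
    have hTp : IsPGroup p T := S.2.to_le inf_le_left
    obtain ⟨T₁, hT₁H, hT₁p, hT₁i, heq⟩ := hloc E hES hE hEg
    obtain ⟨m, hm, hmT⟩ := exists_conjMap_eq hT₁H hT₁p hT₁i (inf_le_right : T ≤ N) hTp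
      (hgood.relIndex E hEg)
    have heq' : T ⊓ ⁅N, N⁆ = ⨆ W ∈ 𝓦, T ⊓ ⁅N ⊓ Subgroup.normalizer ((W T : Subgroup G) : Set G),
        N ⊓ Subgroup.normalizer ((W T : Subgroup G) : Set G)⁆ := by
      have h1 := congrArg (conjMap m) heq
      rw [conjMap_inf, conjMap_commutator, hmT, conjMap_of_mem hm] at h1
      rw [h1, conjMap, Subgroup.map_iSup]
      refine iSup_congr fun W => ?_
      rw [Subgroup.map_iSup]
      refine iSup_congr fun hW => ?_
      show conjMap m _ = _
      have e : Subgroup.normalizer ((W T : Subgroup G) : Set G) =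
          conjMap m (Subgroup.normalizer ((W T₁ : Subgroup G) : Set G)) := by
        rw [← normalizer_conjMap, conjMap, ← (h𝓦 W hW T₁ hT₁p).2.2 m]
        exact congrArg (fun U => Subgroup.normalizer ((W U : Subgroup G) : Set G)) hmT.symm
      rw [conjMap_inf, conjMap_commutator, conjMap_inf, conjMap_of_mem hm, hmT, e]
    have hsub : (S : Subgroup G) ⊓ ⁅N, N⁆ = T ⊓ ⁅N, N⁆ := by
      rw [hT, inf_assoc, inf_eq_right.mpr (commutator_le_self_subgroup N)]
    rw [hsub, heq']
    refine iSup₂_le fun W hW => ?_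
    rcases eq_or_lt_of_le (show T ≤ (S : Subgroup G) from inf_le_left) with hTS | hTS
    · rw [htarget]
      refine le_iSup_of_le W (le_iSup_of_le hW ?_)
      rw [hTS]
      exact inf_le_inf le_rfl (Subgroup.commutator_mono
        (le_inf le_top inf_le_right) (le_inf le_top inf_le_right))
    · have hlt : Nat.card T <
          Nat.card ↥((S : Subgroup G) ⊓ Subgroup.normalizer ((W T : Subgroup G) : Set G)) :=
        lt_functor_normalizer (h𝓦 W hW) S hTS
      have hTne : T ≠ ⊥ := fun h0 =>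
        hE (le_bot_iff.mp (h0 ▸ le_inf hES Subgroup.le_normalizer))
      refine (inf_le_inf hTS.le (Subgroup.commutator_mono inf_le_right inf_le_right)).trans
        (IH _ ?_ (W T) ((h𝓦 W hW T hTp).1.trans hTS.le) ((h𝓦 W hW T hTp).2.1 hTne) rfl)
      have := Subgroup.card_le_of_le
        (inf_le_left : (S : Subgroup G) ⊓ Subgroup.normalizer ((W T : Subgroup G) : Set G) ≤ _)
      omega
  intro U hU hUne hk
  obtain ⟨m, hm1, hm2, hmg⟩ := hgood.exists_conj U hU
  set N := Subgroup.normalizer (U : Set G) with hN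
  set T := (S : Subgroup G) ⊓ N with hT
  have hUT : U ≤ T := le_inf hU Subgroup.le_normalizer
  have hTne : T ≠ ⊥ := fun h0 => hUne (le_bot_iff.mp (h0 ▸ hUT))
  have hSne : (S : Subgroup G) ≠ ⊥ := fun h0 => hUne (le_bot_iff.mp (h0 ▸ hU))
  have hch := (alperin S (T : Set G) m⁻¹ (fun a ha => ha.1) (fun a ha => by
    rw [inv_inv]; exact hm1 ⟨a, ha, rfl⟩)).strengthen (Nat.card T)
      (Nat.card_coe_set_eq (T : Set G)).le
  have hquot := hch.quot_mem (T := target) (fun D hD x hx a ha => by
    have hDS := hD.1.le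
    have hxD : x⁻¹ * a * x ∈ D := (Subgroup.mem_normalizer_iff''.mp hx a).mp ha
    have hc : a⁻¹ * (x⁻¹ * a * x) ∈ (S : Subgroup G) ⊓
        ⁅Subgroup.normalizer (D : Set G), Subgroup.normalizer (D : Set G)⁆ := by
      refine ⟨(mul_mem (inv_mem (hDS ha)) (hDS hxD) : a⁻¹ * (x⁻¹ * a * x) ∈ (S : Subgroup G)), ?_⟩
      have h1 := Subgroup.commutator_mem_commutator
        (Subgroup.le_normalizer (inv_mem ha)) (inv_mem hx)
      have e : ⁅a⁻¹, x⁻¹⁆ = a⁻¹ * (x⁻¹ * a * x) := by rw [commutatorElement_def]; group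
      rw [e] at h1
      exact h1
    rcases eq_or_lt_of_le hDS with rfl | hlt
    · refine hgoodcase _ le_rfl hSne hgood.top ?_ hc
      rw [inf_eq_left.mpr Subgroup.le_normalizer]
      omega
    · have h1 := card_lt_inf_normalizer S hlt
      have h2 := hD.2
      have hDne : D ≠ ⊥ := by
        intro h0
        have : 1 < Nat.card T := (Subgroup.one_lt_card_iff_ne_bot T).mpr hTne
        rw [h0, Subgroup.card_bot] at h2
        omega
      refine IH _ ?_ D hDS hDne rfl hc
      have := Subgroup.card_le_of_le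
        (inf_le_left : (S : Subgroup G) ⊓ Subgroup.normalizer (D : Set G) ≤ _)
      omega)
  intro a ha
  have haT : a ∈ T := ⟨ha.1, commutator_le_self_subgroup N ha.2⟩
  have hmne : conjMap m U ≠ ⊥ := by
    rw [Ne, ← Subgroup.card_eq_one, card_conjMap, Subgroup.card_eq_one]
    exact hUne
  have hTE : conjMap m T ≤
      (S : Subgroup G) ⊓ Subgroup.normalizer ((conjMap m U : Subgroup G) : Set G) := by
    refine le_inf hm1 ?_
    rw [normalizer_conjMap]
    exact conjMap_le_conjMap inf_le_right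
  have h1 : m * a * m⁻¹ ∈ target := by
    refine hgoodcase (conjMap m U) hm2 hmne hmg ?_ ⟨hm1 ⟨a, haT, rfl⟩, ?_⟩
    · have h1 := Subgroup.card_le_of_le hTE
      rw [card_conjMap] at h1
      omega
    · rw [SetLike.mem_coe, normalizer_conjMap, ← conjMap_commutator]
      exact conj_mem_conjMap ha.2
  have h2 := hquot a haT
  rw [inv_inv] at h2
  have h3 := mul_mem h1 (inv_mem h2)
  simpa [mul_assoc] using h3
where
  commutator_le_self_subgroup (H : Subgroup G) : ⁅H, H⁆ ≤ H :=
    Subgroup.commutator_le.mpr fun _ hx _ hy =>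
      mul_mem (mul_mem (mul_mem hx hy) (inv_mem hx)) (inv_mem hy)

/-- **Local to global control of transfer**. -/
theorem familyControlsTransferIn_top_of_local (hgood : IsGoodPred S Good)
    (h𝓦 : ∀ W ∈ 𝓦, Cfsg.IsConjugacyFunctor p W)
    (hloc : ∀ E : Subgroup G, E ≤ (S : Subgroup G) → E ≠ ⊥ → Good E →
      Cfsg.FamilyControlsTransferIn p 𝓦 (Subgroup.normalizer (E : Set G))) :
    Cfsg.FamilyControlsTransferIn p 𝓦 ⊤ := by
  refine ⟨(S : Subgroup G), le_top, S.2,
    by rw [Subgroup.relIndex_top_right]; exact S.not_dvd_index, le_antisymm ?_ ?_⟩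
  · rw [← _root_.commutator_def, inf_comm, Subgroup.commutator_inf_eq_focalSubgroup S]
    refine focalSubgroup_le_of_local S _ (fun x hx a ha => ?_) (fun D hD x hx _ a ha => ?_)
    · by_cases hS : (S : Subgroup G) = ⊥
      · rw [hS, Subgroup.mem_bot] at ha
        subst ha
        simp
      · refine inf_commutator_le_of_good hgood h𝓦 hloc _ (S : Subgroup G) le_rfl hS rfl ⟨?_, ?_⟩
        · exact (mul_mem (inv_mem ha) ((Subgroup.mem_normalizer_iff''.mp hx a).mp ha) :
            a⁻¹ * (x⁻¹ * a * x) ∈ (S : Subgroup G))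
        · have h1 := Subgroup.commutator_mem_commutator
            (Subgroup.le_normalizer (inv_mem ha)) (inv_mem hx)
          have e : ⁅a⁻¹, x⁻¹⁆ = a⁻¹ * (x⁻¹ * a * x) := by rw [commutatorElement_def]; group
          rw [e] at h1
          exact h1
    · by_cases hDb : D = ⊥
      · rw [hDb, Subgroup.mem_bot] at ha
        subst ha
        simp
      · refine inf_commutator_le_of_good hgood h𝓦 hloc _ D hD.le hDb rfl ⟨?_, ?_⟩
        · exact (mul_mem (inv_mem (hD.le ha)) (hD.le ((Subgroup.mem_normalizer_iff''.mp hx a).mp ha)) :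
            a⁻¹ * (x⁻¹ * a * x) ∈ (S : Subgroup G))
        · have h1 := Subgroup.commutator_mem_commutator
            (Subgroup.le_normalizer (inv_mem ha)) (inv_mem hx)
          have e : ⁅a⁻¹, x⁻¹⁆ = a⁻¹ * (x⁻¹ * a * x) := by rw [commutatorElement_def]; group
          rw [e] at h1
          exact h1
  · exact iSup₂_le fun W _ => inf_le_inf_left _ (Subgroup.commutator_mono inf_le_left inf_le_left)


theorem controlsTransferIn_iff_singleton {W : Subgroup G → Subgroup G} {H : Subgroup G} :
    Cfsg.ControlsTransferIn p W H ↔ Cfsg.FamilyControlsTransferIn p {W} H := by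
  simp only [Cfsg.ControlsTransferIn, Cfsg.FamilyControlsTransferIn, Set.mem_singleton_iff,
    iSup_iSup_eq_left]

end Cfsg.Agent.Transfer
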