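/-
The transfer of a character that is not changed by fusion.
-/
import Mathlib.GroupTheory.Transfer
import Mathlib.Data.ZMod.QuotientGroup

set_option autoImplicit false
set_option linter.style.haveILetI false

namespace Cfsg.Agent.TransferInvariant

/-- If a character of a subgroup of finite index is not changed by fusion, its transfer extends its
`index`-th power. -/
theorem transfer_apply {P A : Type*} [Group P] [CommGroup A] {H : Subgroup P} [H.FiniteIndex]
    (φ : H →* A) (hinv : ∀ (g : P) (x : H) (h : g⁻¹ * x.1 * g ∈ H), φ ⟨_, h⟩ = φ x) (x : H) :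
    MonoidHom.transfer φ (x : P) = φ x ^ H.index := by
  classical
  letI : Fintype (P ⧸ H) := H.fintypeQuotientOfFiniteIndex
  letI : Fintype (Quotient (MulAction.orbitRel (Subgroup.zpowers (x : P)) (P ⧸ H))) := Fintype.ofFinite _
  rw [MonoidHom.transfer_eq_prod_quotient_orbitRel_zpowers_quot]
  have hstep : ∀ q : Quotient (MulAction.orbitRel (Subgroup.zpowers (x : P)) (P ⧸ H)),
      φ ⟨q.out.out⁻¹ * (x : P) ^ Function.minimalPeriod ((x : P) • ·) q.out * q.out.out,
        QuotientGroup.out_conj_pow_minimalPeriod_mem H (x : P) q.out⟩ =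
      φ x ^ Function.minimalPeriod ((x : P) • ·) q.out := fun q => by
    rw [← map_pow]
    exact hinv q.out.out (x ^ _) _
  rw [Finset.prod_congr rfl fun q _ => hstep q, Finset.prod_pow_eq_pow_sum]
  congr 1
  rw [Subgroup.index, Nat.card_congr (Subgroup.quotientEquivSigmaZMod H (x : P)), Nat.card_sigma]
  exact Finset.sum_congr rfl fun q _ => (Nat.card_zmod _).symm

end Cfsg.Agent.TransferInvariant
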