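import Cfsg.Agent.Lib.Transfer.FunctorFusion
import Cfsg.Agent.Lib.Transfer.ConjFamily
import Cfsg.Agent.Lib.Transfer.Fusion
import Cfsg.Agent.Lib.ConjFun.Basic

/-!
# Local to global for a functor whose local data is only known above `Z(P)`

* `IsFusionRel`: relations `Rel A g` ("`g` on `A` is realised") stable under the obvious operations;
* `rel_of_goldschmidt`: it suffices to realise the normalizers of Goldschmidt's family;
* `AboveCenter`: every transported copy of `U` contains `Z(P)`;
* `rel_of_local_above_center`: the induction of the pair `(W, V)` local-to-global theorems.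
-/

set_option autoImplicit false

namespace Cfsg.Agent.Transfer

open Subgroup

variable {G : Type*} [Group G]

/-- Relations behaving like "the map induced by `g` on `A` is realised". -/
structure IsFusionRel (Rel : Set G → G → Prop) : Prop where
  one : ∀ (A : Set G) (g : G), (∀ a ∈ A, g * a * g⁻¹ = a) → Rel A g
  mono : ∀ (A B : Set G) (g : G), B ⊆ A → Rel A g → Rel B g
  trans : ∀ (A : Set G) (g k : G), Rel A g → Rel ((fun a => g * a * g⁻¹) '' A) k → Rel A (k * g)
  congr : ∀ (A : Set G) (g k : G), (∀ a ∈ A, k * a * k⁻¹ = g * a * g⁻¹) → Rel A g → Rel A k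

variable [Finite G] {p : ℕ} [Fact p.Prime]

/-- The members of Goldschmidt's family of order at least `n` realise all fusion of sets of at least
`n` elements. -/
theorem rel_of_goldschmidt (P : Sylow p G) {Rel : Set G → G → Prop} (hRel : IsFusionRel Rel)
    (n : ℕ) (hstep : ∀ D : Subgroup G, IsTame P D → IsGoldschmidt P D → n ≤ Nat.card D →
      ∀ x ∈ normalizer (D : Set G), Rel (D : Set G) x)
    (A : Set G) (g : G) (hA : ∀ a ∈ A, a ∈ (P : Subgroup G))
    (hAg : ∀ a ∈ A, g * a * g⁻¹ ∈ (P : Subgroup G)) (hn : n ≤ A.ncard) : Rel A g := by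
  have conv : ∀ (m : ℕ), (∀ E : Subgroup G, IsTame P E → m ≤ Nat.card E →
      ∀ x ∈ normalizer (E : Set G), Rel (E : Set G) x) →
      ∀ (B : Set G) (h : G), FusionChain (fun E => IsTame P E ∧ m ≤ Nat.card E) B h →
        Rel B h⁻¹ := by
    intro m hm B h hc
    induction hc with
    | one B => exact hRel.one B _ fun a _ => by simp
    | @step B E x h hE hB hx _ ih =>
      rw [mul_inv_rev]
      refine hRel.trans B x⁻¹ h⁻¹ (hRel.mono _ B _ hB (hm E hE.1 hE.2 _ (inv_mem hx))) ?_
      simpa using ih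
  have main : ∀ k, ∀ D : Subgroup G, IsTame P D → n ≤ Nat.card D →
      Nat.card (P : Subgroup G) - Nat.card D = k →
      ∀ x ∈ normalizer (D : Set G), Rel (D : Set G) x := by
    intro k
    induction k using Nat.strong_induction_on with
    | _ k IH =>
    intro D hD hnD hk x hx
    rcases isGoldschmidt_or_enlarge P hD with hgood | ⟨R, hDR, hRP, hR⟩
    · exact hstep D hD hgood hnD x hx
    obtain ⟨c, hc, hy⟩ := hR x⁻¹ (inv_mem hx)
    have hlt : Nat.card D < Nat.card R := by
      by_contra hle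
      exact hDR.ne (eq_of_le_of_card_ge hDR.le (not_lt.mp hle))
    have hch := (alperin P (R : Set G) (c⁻¹ * x⁻¹) hRP
      (fun a ha => hRP ((mem_normalizer_iff''.mp hy a).mp ha))).strengthen (Nat.card R)
        (Nat.card_coe_set_eq (R : Set G)).le
    have h1 := conv (Nat.card R) (fun E hE hRE => IH _ (by
      have h2 := card_le_of_le hE.le
      omega) E hE (hnD.trans (hlt.le.trans hRE)) rfl) _ _ hch
    refine hRel.congr _ _ _ (fun d hd => ?_) (hRel.mono _ _ _ hDR.le h1)
    have h2 : d * c = c * d := mem_centralizer_iff.mp hc d hd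
    calc x * d * x⁻¹ = x * (d * c) * c⁻¹ * x⁻¹ := by group
      _ = x * (c * d) * c⁻¹ * x⁻¹ := by rw [h2]
      _ = (c⁻¹ * x⁻¹)⁻¹ * d * (c⁻¹ * x⁻¹)⁻¹⁻¹ := by group
  have hch := (alperin P A g⁻¹ hA (fun a ha => by rw [inv_inv]; exact hAg a ha)).strengthen n hn
  simpa using conv n (fun E hE hnE => main _ E hE hnE rfl) _ _ hch

omit [Finite G] [Fact p.Prime] in
/-- The centre of `P`, inside `G`. -/
abbrev centerOf (P : Subgroup G) : Subgroup G := P ⊓ centralizer (P : Set G)

omit [Finite G] [Fact p.Prime] in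
/-- Every copy of `U` transported with `N_P(U)` into `P` contains `Z(P)`. -/
def AboveCenter (P : Subgroup G) (U : Subgroup G) : Prop :=
  ∀ m : G, conjMap m (P ⊓ normalizer (U : Set G)) ≤ P → centerOf P ≤ conjMap m U

omit [Fact p.Prime] in
theorem aboveCenter_self (P : Sylow p G) : AboveCenter (P : Subgroup G) (P : Subgroup G) := by
  intro m hm
  rw [inf_eq_left.mpr le_normalizer] at hm
  rw [eq_of_le_of_card_ge hm (card_conjMap m _).ge]
  exact inf_le_left

omit [Finite G] [Fact p.Prime] in
theorem AboveCenter.center_le {P U : Subgroup G} (h : AboveCenter P U) : centerOf P ≤ U := by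
  simpa [conjMap_one] using h 1 (by simp [conjMap_one])

omit [Finite G] [Fact p.Prime] in
theorem AboveCenter.conjMap {P U : Subgroup G} (h : AboveCenter P U) {m : G}
    (hm : conjMap m (P ⊓ normalizer (U : Set G)) ≤ P) : AboveCenter P (Transfer.conjMap m U) := by
  intro k hk
  rw [conjMap_mul]
  refine h (k * m) ?_
  rw [← conjMap_mul]
  refine le_trans (conjMap_le_conjMap (le_inf hm ?_)) hk
  rw [normalizer_conjMap]
  exact conjMap_le_conjMap inf_le_right

/-- Members of Goldschmidt's family are above the centre. -/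
theorem IsGoldschmidt.aboveCenter {P : Sylow p G} {D : Subgroup G} (hD : IsGoldschmidt P D) :
    AboveCenter (P : Subgroup G) D := by
  intro m hm z hz
  obtain ⟨hDP, hC, hprod, -⟩ := hD
  obtain ⟨hzP, hzC⟩ := mem_inf.mp hz
  set N := normalizer (D : Set G) with hN
  have hmD : Transfer.conjMap m D ≤ (P : Subgroup G) :=
    (conjMap_le_conjMap (le_inf hDP le_normalizer)).trans hm
  rw [mem_conjMap]
  set c := m⁻¹ * z * m with hc
  have hcD : c ∈ centralizer (D : Set G) := by
    rw [mem_centralizer_iff]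
    intro d hd
    have h1 := mem_centralizer_iff.mp hzC _ (hmD (conj_mem_conjMap hd))
    calc d * c = m⁻¹ * (m * d * m⁻¹ * z) * m := by rw [hc]; group
      _ = m⁻¹ * (z * (m * d * m⁻¹)) * m := by rw [h1]
      _ = c * d := by rw [hc]; group
  have hcX := hC hcD
  rw [← hprod.2.2.2.2, sup_comm] at hcX
  have hnorm : D ≤ normalizer (((pPrimeCore p N).map N.subtype : Subgroup G) : Set G) := by
    intro d hd
    rw [mem_normalizer_iff_map_conj_eq]
    refine eq_of_le_of_card_ge (H := ((pPrimeCore p N).map N.subtype).map (MulAut.conj d).toMonoidHom)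
      ?_ (card_conjMap d _).ge
    rintro _ ⟨_, ⟨o, ho, rfl⟩, rfl⟩
    exact ⟨_, (inferInstance : (pPrimeCore p N).Normal).conj_mem o ho ⟨d, le_normalizer hd⟩, rfl⟩
  obtain ⟨_, ⟨o, ho, rfl⟩, d, hd, hod⟩ :=
    (Coprime.mem_sup_iff_of_le_normalizer' hnorm).mp hcX
  have hcomm : Commute (o : G) d := hprod.2.2.1 _ ⟨o, ho, rfl⟩ _ hd
  obtain ⟨j, hj⟩ := P.2 ⟨z, hzP⟩
  obtain ⟨i, hi⟩ := P.2 ⟨d, hDP hd⟩
  have hzj : z ^ p ^ j = 1 := by simpa using congrArg Subtype.val hj
  have hdi : d ^ p ^ i = 1 := by simpa using congrArg Subtype.val hi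
  have hcp : c ^ p ^ (j + i) = 1 := by
    have h1 : c ^ p ^ (j + i) = m⁻¹ * z ^ p ^ (j + i) * m := by
      rw [hc]; simpa using conj_pow (i := p ^ (j + i)) (a := m⁻¹) (b := z)
    rw [h1, pow_add, pow_mul, hzj, one_pow]
    group
  have hop : (o : G) ^ p ^ (j + i) = 1 := by
    have h1 : ((o : G) * d) ^ p ^ (j + i) = 1 := by
      rw [show (o : G) * d = c from hod]; exact hcp
    rw [hcomm.mul_pow] at h1
    rwa [show d ^ p ^ (j + i) = 1 by rw [add_comm, pow_add, pow_mul, hdi, one_pow], mul_one] at h1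
  have ho1 : o = 1 := by
    have hco : ((Nat.card (pPrimeCore p N)).Coprime (p ^ (j + i))) :=
      PCore.coprime_card_pPrimeCore.pow_right _
    have h1 : orderOf o ∣ Nat.card (pPrimeCore p N) := Subgroup.orderOf_dvd_natCard _ ho
    have h2 : orderOf o ∣ p ^ (j + i) := orderOf_dvd_of_pow_eq_one (Subtype.ext hop)
    rw [← orderOf_eq_one_iff, ← Nat.dvd_one]
    exact hco ▸ Nat.dvd_gcd h1 h2
  subst ho1
  simp only [N.subtype_apply, OneMemClass.coe_one, one_mul] at hod
  exact hod ▸ hd

/-- **Local to global above the centre.** `Θ U` is what is to be proved at the normalizer of `U`. -/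
theorem rel_of_local_above_center (P : Sylow p G) {W : Subgroup G → Subgroup G}
    (hW : Cfsg.IsConjugacyFunctor p W)
    (hWZ : ∀ H : Subgroup G, IsPGroup p ↥H → H ⊓ centralizer (H : Set G) ≤ W H)
    {Rel : Set G → G → Prop} (hRel : IsFusionRel Rel) (Θ : Subgroup G → Prop)
    (hbase : Θ (W (P : Subgroup G)))
    (hext : ∀ D : Subgroup G, D ≤ (P : Subgroup G) → Θ D → ∀ x ∈ normalizer (D : Set G),
      Rel (D : Set G) x)
    (htrans : ∀ (U : Subgroup G) (m : G), U ≤ (P : Subgroup G) →
      conjMap m ((P : Subgroup G) ⊓ normalizer (U : Set G)) ≤ (P : Subgroup G) →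
      Rel (((P : Subgroup G) ⊓ normalizer (U : Set G) : Subgroup G) : Set G) m →
      Θ (conjMap m U) → Θ U)
    (hloc : ∀ E : Subgroup G, E ≤ (P : Subgroup G) → centerOf (P : Subgroup G) ≤ E →
      ¬ p ∣ ((P : Subgroup G) ⊓ normalizer (E : Set G)).relIndex (normalizer (E : Set G)) →
      centerOf (P : Subgroup G) ≤ centerOf ((P : Subgroup G) ⊓ normalizer (E : Set G)) →
      Θ (W ((P : Subgroup G) ⊓ normalizer (E : Set G))) → Θ E)
    (A : Set G) (g : G) (hA : ∀ a ∈ A, a ∈ (P : Subgroup G))
    (hAg : ∀ a ∈ A, g * a * g⁻¹ ∈ (P : Subgroup G)) : Rel A g := by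
  have hPP : (P : Subgroup G) ⊓ normalizer ((P : Subgroup G) : Set G) = (P : Subgroup G) :=
    inf_eq_left.mpr le_normalizer
  have hΘP : Θ (P : Subgroup G) := by
    refine hloc _ le_rfl inf_le_left (relIndex_inf_normalizer_self P) ?_ ?_
    · rw [hPP]
    · rw [hPP]; exact hbase
  have main : ∀ k, ∀ U : Subgroup G, U ≤ (P : Subgroup G) → AboveCenter (P : Subgroup G) U →
      Nat.card (P : Subgroup G) - Nat.card ↥((P : Subgroup G) ⊓ normalizer (U : Set G)) = k →
      Θ U := by
    intro k
    induction k using Nat.strong_induction_on with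
    | _ k IH =>
    intro U hU hUc hk
    obtain ⟨m, hm1, hm2, hmi⟩ := exists_fullyNormalized_conj P hU
    set T := (P : Subgroup G) ⊓ normalizer (U : Set G) with hT
    have hmrel : Rel (T : Set G) m := by
      refine rel_of_goldschmidt P hRel (Nat.card T) (fun D hD hDg hDn x hx => ?_) _ _
        (fun a ha => (mem_inf.mp ha).1) (fun a ha => hm1 ⟨a, ha, rfl⟩)
        (Nat.card_coe_set_eq (T : Set G)).le
      refine hext D hD.le ?_ x hx
      rcases eq_or_lt_of_le hD.le with hDP | hDP
      · rw [hDP]; exact hΘP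
      · refine IH _ ?_ D hD.le hDg.aboveCenter rfl
        have h1 := card_lt_inf_normalizer P hDP
        have h2 := card_le_of_le
          (inf_le_left : (P : Subgroup G) ⊓ normalizer (D : Set G) ≤ (P : Subgroup G))
        omega
    refine htrans U m hU hm1 hmrel ?_
    set E := conjMap m U with hE
    have hEc : AboveCenter (P : Subgroup G) E := hUc.conjMap hm1
    set T' := (P : Subgroup G) ⊓ normalizer (E : Set G) with hT'
    have hT'p : IsPGroup p T' := P.2.to_le inf_le_left
    have hZT' : centerOf (P : Subgroup G) ≤ centerOf T' := fun z hz =>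
      mem_inf.mpr ⟨mem_inf.mpr ⟨(mem_inf.mp hz).1, le_normalizer (hEc.center_le hz)⟩,
        Subgroup.centralizer_le (inf_le_left : T' ≤ _) (mem_inf.mp hz).2⟩
    refine hloc E hm2 hEc.center_le hmi hZT' ?_
    rcases eq_or_lt_of_le (inf_le_left : T' ≤ (P : Subgroup G)) with hTP | hTP
    · rw [hTP]; exact hbase
    have hTN : T' ≤ (P : Subgroup G) ⊓ normalizer ((W T' : Subgroup G) : Set G) :=
      le_inf hTP.le (self_le_normalizer_functor hW hT'p)
    refine IH _ ?_ (W T') ((hW T' hT'p).1.trans hTP.le) ?_ rfl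
    · have h1 : Nat.card T' < Nat.card ↥((P : Subgroup G) ⊓ normalizer ((W T' : Subgroup G) : Set G)) :=
        lt_functor_normalizer hW P hTP
      have h2 := card_le_of_le
        (inf_le_left : (P : Subgroup G) ⊓ normalizer ((W T' : Subgroup G) : Set G) ≤ (P : Subgroup G))
      have h3 : Nat.card T ≤ Nat.card T' := by
        rw [← card_conjMap m T]
        refine card_le_of_le (le_inf hm1 ?_)
        rw [hE, normalizer_conjMap]
        exact conjMap_le_conjMap inf_le_right
      omega
    · intro k hk z hz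
      have hkT : conjMap k T' ≤ (P : Subgroup G) := (conjMap_le_conjMap hTN).trans hk
      have hzT : z ∈ conjMap k T' := conjMap_le_conjMap (le_inf hm2 le_normalizer) (hEc k hkT hz)
      refine conjMap_le_conjMap (hWZ T' hT'p) (mem_conjMap.mpr (mem_inf.mpr ⟨mem_conjMap.mp hzT, ?_⟩))
      rw [mem_centralizer_iff]
      intro t ht
      have h1 := mem_centralizer_iff.mp (mem_inf.mp hz).2 _ (hkT (conj_mem_conjMap ht))
      calc t * (k⁻¹ * z * k) = k⁻¹ * (k * t * k⁻¹ * z) * k := by group
        _ = k⁻¹ * (z * (k * t * k⁻¹)) * k := by rw [h1]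
        _ = k⁻¹ * z * k * t := by group
  refine rel_of_goldschmidt P hRel 0 (fun D hD hDg _ x hx => ?_) A g hA hAg (Nat.zero_le _)
  exact hext D hD.le (main _ D hD.le hDg.aboveCenter rfl) x hx

end Cfsg.Agent.Transfer
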