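import Cfsg.Agent.Lib.Transfer.ConjFamily
import Cfsg.Agent.Lib.Transfer.Residual
import Cfsg.Agent.Lib.StrongEmb.Generation
import Cfsg.Prelude.Def_SylowChains

/-!
# The strong Alperin–Goldschmidt fusion theorem

`strong_alperin`: fusion in a Sylow `p`-subgroup `P` is `c · x₁ ⋯ xₙ · y` with `c` centralising,
`y ∈ N(P)`, and each `xᵢ` in `O^p(Xᵢ)` for a member `Hᵢ` of the family: `N_P(H)` Sylow in `N(H)`,
`H` not enlargeable (so `C_P(H) ≤ H` and `O_{p',p}(N(H)) = H C(H)`), and `N(H)/H` with a strongly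
`p`-embedded subgroup, `X/H` least normal of order divisible by `p`.

For a fully normalised `E` the elements `x ∈ N(E)` with the property form a subgroup `K` that
contains every element mapping some `R`, `E < R ≤ N_P(E)`, into `P`; so either `K = N(E)` or
`K/E` is strongly `p`-embedded.
-/

set_option autoImplicit false
set_option linter.style.haveILetI false

namespace Cfsg.Agent.Transfer.Strong

open Subgroup Cfsg

section least

variable {Q : Type*} [Group Q] [Finite Q] {p : ℕ} [Fact p.Prime]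

theorem exists_orderOf_mem_inf (S : Sylow p Q) (M : Subgroup Q) [M.Normal] (h : p ∣ Nat.card M) :
    ∃ y, y ∈ (S : Subgroup Q) ∧ y ∈ M ∧ orderOf y = p := by
  have h1 := not_dvd_index_subgroupOf_of_normal S M
  have hd : p ∣ Nat.card ((S : Subgroup Q).subgroupOf M) :=
    ((Fact.out : p.Prime).dvd_mul.mp
      (card_mul_index ((S : Subgroup Q).subgroupOf M) ▸ h)).resolve_right h1
  obtain ⟨⟨⟨y, hyM⟩, hyS⟩, hy⟩ := exists_prime_orderOf_dvd_card' p hd
  refine ⟨y, hyS, hyM, ?_⟩
  rwa [Subgroup.orderOf_mk, Subgroup.orderOf_mk] at hy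

/-- A strongly `p`-embedded subgroup forces a least normal subgroup of order divisible by `p`. -/
theorem exists_least_normal {H : Subgroup Q} (hH : H ≠ ⊤) (hpH : p ∣ Nat.card H)
    (hse : StrongEmb.MeetsPrime p H) :
    ∃ M : Subgroup Q, M.Normal ∧ p ∣ Nat.card M ∧
      ∀ M₂ : Subgroup Q, M₂.Normal → p ∣ Nat.card M₂ → M ≤ M₂ := by
  have hp : p.Prime := Fact.out
  obtain ⟨M, hM⟩ := (Set.toFinite {M : Subgroup Q | M.Normal ∧ p ∣ Nat.card M}).exists_minimal
    ⟨⊤, inferInstance, hpH.trans (by simpa using card_subgroup_dvd_card H)⟩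
  obtain ⟨hMn, hMp⟩ := hM.1
  refine ⟨M, hMn, hMp, fun M₂ hM₂n hM₂p => ?_⟩
  by_contra hle
  have hK : ¬ p ∣ Nat.card ↥(M ⊓ M₂) := fun hd =>
    hle ((hM.2 ⟨inferInstance, hd⟩ inf_le_left).trans inf_le_right)
  obtain ⟨S, hS⟩ := StrongEmb.exists_sylow_le hse hpH
  obtain ⟨y₁, hy₁S, hy₁M, hy₁⟩ := exists_orderOf_mem_inf S M hMp
  obtain ⟨y₂, hy₂S, hy₂M, hy₂⟩ := exists_orderOf_mem_inf S M₂ hM₂p
  have hbot : ∀ z ∈ (S : Subgroup Q), z ∈ M → z ∈ M₂ → z = 1 := by
    intro z hz hz1 hz2
    by_contra hne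
    obtain ⟨n, hn⟩ := IsPGroup.iff_orderOf.mp S.2 ⟨z, hz⟩
    rw [Subgroup.orderOf_mk] at hn
    have hn0 : n ≠ 0 := fun h0 => hne (orderOf_eq_one_iff.mp (by rw [hn, h0, pow_zero]))
    have hzK : orderOf z ∣ Nat.card ↥(M ⊓ M₂) := by
      have := orderOf_dvd_natCard (⟨z, hz1, hz2⟩ : ↥(M ⊓ M₂))
      rwa [← Subgroup.orderOf_coe] at this
    exact hK ((hn ▸ dvd_pow_self p hn0).trans hzK)
  have hcomm : y₁ * y₂ = y₂ * y₁ := by
    have h1 : y₁ * y₂ * y₁⁻¹ * y₂⁻¹ = 1 := hbot _
      (mul_mem (mul_mem (mul_mem hy₁S hy₂S) (inv_mem hy₁S)) (inv_mem hy₂S))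
      (by
        have := mul_mem hy₁M (hMn.conj_mem _ (inv_mem hy₁M) y₂)
        simpa [mul_assoc] using this)
      (mul_mem (hM₂n.conj_mem _ hy₂M y₁) (inv_mem hy₂M))
    exact mul_inv_eq_iff_eq_mul.mp (mul_inv_eq_one.mp h1)
  have hne : y₂ ∉ zpowers y₁ := fun h => by
    have h1 : y₂ = 1 := hbot _ hy₂S ((zpowers_le.mpr hy₁M) h) hy₂M
    rw [h1, orderOf_one] at hy₂
    exact hp.ne_one hy₂.symm
  have hnorm : ∀ y : Q, y ∈ normalizer ((M ⊓ M₂ : Subgroup Q) : Set Q) := fun y => by
    rw [normalizer_eq_top (M ⊓ M₂)]; exact mem_top y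
  have hKH : M ⊓ M₂ ≤ H := StrongEmb.le_of_coprime_pair hse hy₁ hy₂ hcomm hne (hS hy₁S)
    (hS hy₂S) (hp.coprime_iff_not_dvd.mpr hK).symm (hnorm _) (hnorm _)
  have hcyc : IsPGroup p (zpowers y₁) :=
    IsPGroup.of_card (n := 1) (by rw [Nat.card_zpowers, hy₁, pow_one])
  have hcyc1 : zpowers y₁ ≠ ⊥ := fun h => by
    rw [zpowers_eq_bot] at h
    rw [h, orderOf_one] at hy₁
    exact hp.ne_one hy₁.symm
  -- `M₂` lies in `H`
  have hM₂H : M₂ ≤ H := by
    intro m hm
    refine inv_mem_iff.mp (StrongEmb.mem_of_common hse hcyc hcyc1 (zpowers_le.mpr (hS hy₁S)) ?_)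
    intro q hq
    rw [inv_inv]
    have hqM : q ∈ M := zpowers_le.mpr hy₁M hq
    have h1 : m * q * m⁻¹ * q⁻¹ ∈ M ⊓ M₂ := by
      refine ⟨mul_mem (hMn.conj_mem _ hqM m) (M.inv_mem hqM), ?_⟩
      have := mul_mem hm (hM₂n.conj_mem _ (M₂.inv_mem hm) q)
      simpa [mul_assoc] using this
    have := mul_mem (hKH h1) ((zpowers_le.mpr (hS hy₁S)) hq)
    simpa [mul_assoc] using this
  exact hH (StrongEmb.eq_top_of_normal hse hM₂p hM₂H)

end least

variable {G : Type*} [Group G] {p : ℕ}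

/-- `N` has a subgroup that is strongly `p`-embedded modulo `E`. -/
def HasWitness (p : ℕ) (E : Subgroup G) : Prop :=
  ∃ L : Subgroup G, E ≤ L ∧ L ≤ normalizer (E : Set G) ∧ L ≠ normalizer (E : Set G) ∧
    p ∣ E.relIndex L ∧
    ∀ g ∈ normalizer (E : Set G), ∀ z ∈ L, z ^ p ∈ E → z ∉ E → g⁻¹ * z * g ∈ L → g ∈ L

/-- Nothing normal in `N(H)` lets us replace `H` by a larger subgroup of `P`. -/
def NoEnlarge (P H : Subgroup G) : Prop :=
  ∀ W : Subgroup G, H ≤ W → W ≤ normalizer (H : Set G) →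
    normalizer (H : Set G) ≤ normalizer (W : Set G) →
    (∀ w ∈ W, ∃ c ∈ centralizer (H : Set G), c⁻¹ * w ∈ P) → P ⊓ W ≤ H

/-- `X/H` is the least normal subgroup of `N(H)/H` of order divisible by `p`. -/
def IsLeastX (p : ℕ) (H X : Subgroup G) : Prop :=
  H ≤ X ∧ X ≤ normalizer (H : Set G) ∧ normalizer (H : Set G) ≤ normalizer (X : Set G) ∧
    p ∣ H.relIndex X ∧
    ∀ Y : Subgroup G, H ≤ Y → Y ≤ normalizer (H : Set G) →
      normalizer (H : Set G) ≤ normalizer (Y : Set G) → p ∣ H.relIndex Y → X ≤ Y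

/-- An admissible step. -/
def IsStep (p : ℕ) (P H : Subgroup G) (u : G) : Prop :=
  H ≤ P ∧ u ∈ normalizer (H : Set G) ∧
    ¬ p ∣ (P ⊓ normalizer (H : Set G)).relIndex (normalizer (H : Set G)) ∧
    NoEnlarge P H ∧ HasWitness p H ∧
    ∃ X : Subgroup G, IsLeastX p H X ∧ u ∈ closure {g : G | g ∈ X ∧ (orderOf g).Coprime p}

section transport

variable (φ : G ≃* G)

theorem map_normalizer (H : Subgroup G) :
    normalizer ((H.map φ.toMonoidHom : Subgroup G) : Set G) =
      (normalizer (H : Set G)).map φ.toMonoidHom :=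
  (map_equiv_normalizer_eq H φ).symm

theorem relIndex_map (A B : Subgroup G) :
    (A.map φ.toMonoidHom).relIndex (B.map φ.toMonoidHom) = A.relIndex B :=
  relIndex_map_map_of_injective _ _ φ.injective

theorem mem_centralizer_map {H : Subgroup G} {c : G} (hc : c ∈ centralizer (H : Set G)) :
    φ c ∈ centralizer ((H.map φ.toMonoidHom : Subgroup G) : Set G) := by
  rw [mem_centralizer_iff] at hc ⊢
  rintro _ ⟨x, hx, rfl⟩
  show φ x * φ c = φ c * φ x
  rw [← map_mul, ← map_mul, hc x hx]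

theorem IsStep.map {P H : Subgroup G} {u : G} (h : IsStep p P H u)
    (hP : P.map φ.toMonoidHom = P) : IsStep p P (H.map φ.toMonoidHom) (φ u) := by
  obtain ⟨hHP, hu, hsyl, hno, ⟨L, hEL, hLN, hLne, hLp, hL⟩, X, ⟨hHX, hXN, hXn, hXp, hXl⟩, huX⟩ := h
  have hN := map_normalizer φ H
  have hback : ∀ {A : Subgroup G} {x : G}, φ x ∈ A.map φ.toMonoidHom ↔ x ∈ A := fun {A x} =>
    Subgroup.mem_map_iff_mem (f := φ.toMonoidHom) φ.injective
  have hcomap : ∀ A : Subgroup G, (A.comap φ.toMonoidHom).map φ.toMonoidHom = A := fun A =>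
    map_comap_eq_self_of_surjective φ.surjective A
  have hnc : ∀ A : Subgroup G, normalizer (H.map φ.toMonoidHom : Set G) ≤ normalizer (A : Set G) →
      normalizer (H : Set G) ≤ normalizer ((A.comap φ.toMonoidHom : Subgroup G) : Set G) := by
    intro A hA x hx
    have h1 : φ x ∈ normalizer (A : Set G) := hA (hN ▸ mem_map_of_mem _ hx)
    rw [mem_normalizer_iff] at h1 ⊢
    intro y
    simpa using h1 (φ y)
  refine ⟨hP ▸ map_mono hHP, hN ▸ mem_map_of_mem _ hu, ?_, ?_, ?_, ?_⟩
  · rw [hN]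
    conv => arg 1; arg 2; arg 1; arg 1; rw [← hP]
    rw [← map_inf _ _ _ φ.injective, relIndex_map]
    exact hsyl
  · intro W hHW hWN hWn hW
    have h1 := hno (W.comap φ.toMonoidHom) (map_le_iff_le_comap.mp hHW)
      (fun x hx => hback.mp (hN ▸ hWN hx)) (hnc W hWn) (fun w hw => by
        obtain ⟨c, hc, hcw⟩ := hW (φ w) hw
        refine ⟨φ.symm c, ?_, ?_⟩
        · rw [mem_centralizer_iff] at hc ⊢
          intro x hx
          apply φ.injective
          simpa using hc (φ x) (mem_map_of_mem _ hx)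
        · rw [← hP] at hcw
          have : φ (φ.symm c)⁻¹ * φ w ∈ P.map φ.toMonoidHom := by simpa using hcw
          rw [← map_mul] at this
          exact hback.mp this)
    rintro x ⟨hxP, hxW⟩
    obtain ⟨y, rfl⟩ := φ.surjective x
    rw [← hP] at hxP
    exact mem_map_of_mem _ (h1 ⟨hback.mp hxP, hxW⟩)
  · refine ⟨L.map φ.toMonoidHom, map_mono hEL, hN ▸ map_mono hLN,
      fun he => hLne (map_injective φ.injective (he.trans hN)), by rwa [relIndex_map], ?_⟩
    intro g hg z hz hzp hzE hgz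
    obtain ⟨g, rfl⟩ := φ.surjective g
    obtain ⟨z, rfl⟩ := φ.surjective z
    rw [← map_pow] at hzp
    rw [← map_inv, ← map_mul, ← map_mul] at hgz
    exact mem_map_of_mem _ (hL g (hback.mp (hN ▸ hg)) z (hback.mp hz) (hback.mp hzp)
      (fun hh => hzE (mem_map_of_mem _ hh)) (hback.mp hgz))
  · refine ⟨X.map φ.toMonoidHom, ⟨map_mono hHX, hN ▸ map_mono hXN, ?_, by rwa [relIndex_map],
      fun Y hY hYN hYn hYp => ?_⟩, ?_⟩
    · rw [hN, map_normalizer]
      exact map_mono hXn
    · have h1 := hXl (Y.comap φ.toMonoidHom) (map_le_iff_le_comap.mp hY)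
        (fun x hx => hback.mp (hN ▸ hYN hx)) (hnc Y hYn)
        (by rw [← relIndex_map φ, hcomap]; exact hYp)
      exact map_le_iff_le_comap.mpr h1
    · refine Subgroup.closure_mono ?_
        ((MonoidHom.map_closure φ.toMonoidHom _).le (mem_map_of_mem φ.toMonoidHom huX))
      rintro _ ⟨g, ⟨hgX, hgo⟩, rfl⟩
      refine ⟨mem_map_of_mem _ hgX, ?_⟩
      rwa [orderOf_injective φ.toMonoidHom φ.injective g]

end transport

/-- The conjugate set. -/
def cimg (g : G) (A : Set G) : Set G := (fun a => g⁻¹ * a * g) '' A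

theorem cimg_one (A : Set G) : cimg 1 A = A := by simp [cimg]

theorem cimg_mul (g h : G) (A : Set G) : cimg (g * h) A = cimg h (cimg g A) := by
  rw [cimg, cimg, cimg, Set.image_image]
  exact Set.image_congr fun a _ => by group

/-- A chain of admissible steps. -/
inductive SChain (p : ℕ) (P : Subgroup G) : Set G → G → Prop
  | one (A : Set G) : SChain p P A 1
  | step {A : Set G} {H : Subgroup G} {u g : G} (hs : IsStep p P H u) (hA : A ⊆ (H : Set G))
      (h : SChain p P (cimg u A) g) : SChain p P A (u * g)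

namespace SChain

variable {P : Subgroup G}

theorem mono {A : Set G} {g : G} (h : SChain p P A g) : ∀ {B : Set G}, B ⊆ A → SChain p P B g := by
  induction h with
  | one A => intro B _; exact .one B
  | step hs hA _ ih => intro B hB; exact .step hs (hB.trans hA) (ih (Set.image_mono hB))

theorem trans {A : Set G} {g : G} (h : SChain p P A g) :
    ∀ {k : G}, SChain p P (cimg g A) k → SChain p P A (g * k) := by
  induction h with
  | one A => intro k hk; rw [one_mul]; rwa [cimg_one] at hk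
  | step hs hA _ ih =>
    intro k hk
    rw [cimg_mul] at hk
    rw [mul_assoc]
    exact .step hs hA (ih hk)

/-- Conjugation by `y ∈ N(P)`. -/
theorem conj {A : Set G} {g : G} (h : SChain p P A g) {y : G}
    (hy : y ∈ normalizer (P : Set G)) : SChain p P (cimg y A) (y⁻¹ * g * y) := by
  induction h with
  | one A => simpa using SChain.one (p := p) (P := P) (cimg y A)
  | @step A H u g hs hA _ ih =>
    have hP : P.map (MulAut.conj y⁻¹).toMonoidHom = P := by
      ext x
      rw [mem_map_equiv, MulAut.conj_symm_apply, inv_inv]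
      exact (mem_normalizer_iff.mp hy x).symm
    have h1 := hs.map (MulAut.conj y⁻¹) hP
    rw [MulAut.conj_apply, inv_inv] at h1
    have h2 : y⁻¹ * (u * g) * y = (y⁻¹ * u * y) * (y⁻¹ * g * y) := by group
    rw [h2]
    refine .step h1 ?_ ?_
    · rintro _ ⟨a, ha, rfl⟩
      exact ⟨a, hA ha, by simp⟩
    · rw [← cimg_mul] at ih ⊢
      rwa [show y * (y⁻¹ * u * y) = u * y by group]

end SChain

/-- Fusion by `c · chain · y`. -/
def Rel (p : ℕ) (P : Subgroup G) (A : Set G) (g : G) : Prop :=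
  ∃ c h y, c ∈ centralizer A ∧ y ∈ normalizer (P : Set G) ∧ SChain p P A h ∧ g = c * h * y

namespace Rel

variable {P : Subgroup G}

theorem mono {A B : Set G} {g : G} (h : Rel p P A g) (hB : B ⊆ A) : Rel p P B g := by
  obtain ⟨c, h, y, hc, hy, hch, rfl⟩ := h
  exact ⟨c, h, y, centralizer_le hB hc, hy, hch.mono hB, rfl⟩

theorem of_centralizer {A : Set G} {c : G} (hc : c ∈ centralizer A) : Rel p P A c :=
  ⟨c, 1, 1, hc, one_mem _, .one A, by group⟩

theorem of_normalizer {A : Set G} {y : G} (hy : y ∈ normalizer (P : Set G)) : Rel p P A y :=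
  ⟨1, 1, y, one_mem _, hy, .one A, by group⟩

theorem cimg_centralizer {A : Set G} {c : G} (hc : c ∈ centralizer A) : cimg c A = A := by
  refine (Set.image_congr fun a ha => ?_).trans (Set.image_id _)
  rw [mul_assoc, mem_centralizer_iff.mp hc a ha, inv_mul_cancel_left, id]

theorem trans {A : Set G} {g k : G} (hg : Rel p P A g) (hk : Rel p P (cimg g A) k) :
    Rel p P A (g * k) := by
  obtain ⟨c, h, y, hc, hy, hch, rfl⟩ := hg
  obtain ⟨c', h', y', hc', hy', hch', rfl⟩ := hk
  have himg : cimg (c * h * y) A = cimg (h * y) A := by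
    rw [mul_assoc, cimg_mul c, cimg_centralizer hc]
  rw [himg] at hc' hch'
  refine ⟨c * ((h * y) * c' * (h * y)⁻¹), h * (y * h' * y⁻¹), y * y', mul_mem hc ?_,
    mul_mem hy hy', hch.trans ?_, by group⟩
  · rw [mem_centralizer_iff]
    intro a ha
    have h1 := mem_centralizer_iff.mp hc' ((h * y)⁻¹ * a * (h * y)) ⟨a, ha, rfl⟩
    generalize h * y = m at h1 ⊢
    calc a * (m * c' * m⁻¹) = m * ((m⁻¹ * a * m) * c') * m⁻¹ := by group
      _ = m * (c' * (m⁻¹ * a * m)) * m⁻¹ := by rw [h1]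
      _ = m * c' * m⁻¹ * a := by group
  · have h2 := hch'.conj (inv_mem hy)
    rw [← cimg_mul, mul_inv_cancel_right, inv_inv] at h2
    exact h2

end Rel

variable [Finite G] [Fact p.Prime]

/-- A `p`-subgroup of `L` can be moved into a Sylow subgroup `S ≤ L` by an element of `L`. -/
theorem exists_conj_into {S L R : Subgroup G} (hS : IsPGroup p S) (hSL : S ≤ L)
    (hidx : ¬ p ∣ S.relIndex L) (hR : IsPGroup p R) (hRL : R ≤ L) :
    ∃ n ∈ L, ∀ r ∈ R, n⁻¹ * r * n ∈ S := by
  set T : Sylow p L := (hS.comap_subtype (K := L)).toSylow hidx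
  obtain ⟨U, hU⟩ := (hR.comap_subtype (K := L)).exists_le_sylow
  obtain ⟨n, hn⟩ := MulAction.exists_smul_eq L T U
  refine ⟨n, n.2, fun r hr => ?_⟩
  have h1 : (⟨r, hRL hr⟩ : L) ∈ ((n • T : Sylow p L) : Subgroup L) := hn ▸ hU hr
  exact StrongEmb.mem_smul_sylow_iff.mp h1

theorem not_dvd_relIndex_inf {P : Sylow p G} {N W : Subgroup G} (hWN : W ≤ N)
    (hN : N ≤ normalizer (W : Set G)) (hidx : ¬ p ∣ ((P : Subgroup G) ⊓ N).relIndex N) :
    ¬ p ∣ ((P : Subgroup G) ⊓ W).relIndex W := by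
  set S : Sylow p N := ((P.2.to_le inf_le_left).comap_subtype (K := N)).toSylow hidx
  haveI : (W.subgroupOf N).Normal := (normal_subgroupOf_iff_le_normalizer hWN).mpr hN
  have h := not_dvd_index_subgroupOf_of_normal S (W.subgroupOf N)
  have e : ((P : Subgroup G) ⊓ W).relIndex W =
      ((S : Subgroup N).subgroupOf (W.subgroupOf N)).index := by
    show _ = (((P : Subgroup G) ⊓ N).subgroupOf N).relIndex (W.subgroupOf N)
    rw [relIndex_subgroupOf hWN, inf_relIndex_right, ← inf_relIndex_right ((P : Subgroup G) ⊓ N) W,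
      inf_assoc, inf_eq_right.mpr hWN, inf_relIndex_right]
  rwa [e]

theorem frattini_decomp {P : Sylow p G} {N W : Subgroup G} (hWN : W ≤ N)
    (hN : N ≤ normalizer (W : Set G)) (hidx : ¬ p ∣ ((P : Subgroup G) ⊓ N).relIndex N)
    {x : G} (hx : x ∈ N) :
    ∃ m ∈ W, ∃ r ∈ N, r ∈ normalizer (((P : Subgroup G) ⊓ W : Subgroup G) : Set G) ∧ x = m * r := by
  set S : Sylow p N := ((P.2.to_le inf_le_left).comap_subtype (K := N)).toSylow hidx
  haveI : (W.subgroupOf N).Normal := (normal_subgroupOf_iff_le_normalizer hWN).mpr hN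
  obtain ⟨m, hm, y, hy, hmy⟩ := mem_sup_of_normal_left.mp
    (sup_normalizer_inf_eq_top S (W.subgroupOf N) ▸ mem_top (⟨x, hx⟩ : N))
  refine ⟨m, hm, y, y.2, ?_, (congrArg Subtype.val hmy).symm⟩
  have e : ((S : Subgroup N) ⊓ W.subgroupOf N).map N.subtype = (P : Subgroup G) ⊓ W := by
    ext g
    constructor
    · rintro ⟨z, hz, rfl⟩
      exact ⟨hz.1.1, hz.2⟩
    · rintro ⟨hgP, hgW⟩
      exact ⟨⟨g, hWN hgW⟩, ⟨⟨hgP, hWN hgW⟩, hgW⟩, rfl⟩
  have := le_normalizer_map N.subtype ⟨y, hy, rfl⟩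
  rwa [e] at this

/-- Every conjugate pair in `P` has a fully normalised common conjugate, reached by maps
extending to normalisers in `P`. -/
theorem exists_fully (P : Sylow p G) {D : Subgroup G} (hDP : D ≤ (P : Subgroup G)) :
    ∃ h : G, D.map (MulAut.conj h⁻¹).toMonoidHom ≤ (P : Subgroup G) ∧
      ¬ p ∣ ((P : Subgroup G) ⊓
          normalizer ((D.map (MulAut.conj h⁻¹).toMonoidHom : Subgroup G) : Set G)).relIndex
        (normalizer ((D.map (MulAut.conj h⁻¹).toMonoidHom : Subgroup G) : Set G)) ∧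
      ∀ r ∈ (P : Subgroup G) ⊓ normalizer (D : Set G), h⁻¹ * r * h ∈ (P : Subgroup G) := by
  set N := normalizer (D : Set G) with hN
  obtain ⟨T, hT⟩ := ((P.2.to_le (inf_le_left (b := N))).comap_subtype (K := N)).exists_le_sylow
  obtain ⟨Q, hQ⟩ := ((T.2).map N.subtype).exists_le_sylow
  obtain ⟨h, hh⟩ := MulAction.exists_smul_eq G P Q
  have hQP : ∀ q : G, q ∈ (Q : Subgroup G) ↔ h⁻¹ * q * h ∈ (P : Subgroup G) := fun q => by
    rw [← hh]; exact StrongEmb.mem_smul_sylow_iff
  have hPT : ∀ r ∈ (P : Subgroup G) ⊓ N, r ∈ (T : Subgroup N).map N.subtype := fun r hr =>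
    ⟨⟨r, hr.2⟩, hT hr, rfl⟩
  set φ := MulAut.conj h⁻¹
  have hφ : ∀ q : G, φ q = h⁻¹ * q * h := fun q => by simp [φ]
  refine ⟨h, ?_, ?_, fun r hr => (hQP r).mp (hQ (hPT r hr))⟩
  · rintro _ ⟨d, hd, rfl⟩
    show φ d ∈ (P : Subgroup G)
    rw [hφ]
    exact (hQP d).mp (hQ (hPT d ⟨hDP hd, le_normalizer hd⟩))
  · rw [map_normalizer φ D, ← hN]
    have e : (P : Subgroup G) ⊓ N.map φ.toMonoidHom =
        ((Q : Subgroup G) ⊓ N).map φ.toMonoidHom := by
      rw [map_inf _ _ _ φ.injective]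
      congr 1
      ext x
      rw [mem_map_equiv]
      have : φ.symm x = h * x * h⁻¹ := by simp [φ]
      rw [this, hQP]
      simp [mul_assoc]
    rw [e, relIndex_map, inf_relIndex_right]
    intro hd
    apply T.not_dvd_index
    refine hd.trans ?_
    have h1 : ((T : Subgroup N).map N.subtype).relIndex N = (T : Subgroup N).index := by
      rw [relIndex, ← comap_subtype]
      rw [comap_map_eq_self_of_injective N.subtype_injective]
    exact h1 ▸ relIndex_dvd_of_le_left N hQ

theorem lt_normalizerIn {P : Sylow p G} {E : Subgroup G} (hEP : E ≤ (P : Subgroup G))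
    (hne : E ≠ (P : Subgroup G)) : E < (P : Subgroup G) ⊓ normalizer (E : Set G) := by
  refine lt_of_le_of_ne (le_inf hEP le_normalizer) fun he => ?_
  have h1 : E.subgroupOf (P : Subgroup G) ≠ ⊤ := fun h =>
    hne (le_antisymm hEP (subgroupOf_eq_top.mp h))
  obtain ⟨g, hg, hgE⟩ := SetLike.exists_of_lt (PGroup.lt_normalizer P.2 h1)
  apply hgE
  rw [mem_subgroupOf, he]
  refine ⟨g.2, ?_⟩
  rw [← subgroupOf_normalizer_eq hEP] at hg
  exact hg

theorem dvd_relIndex_of_lt {P : Sylow p G} {E R : Subgroup G} (hR : R ≤ (P : Subgroup G))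
    (hER : E < R) : p ∣ E.relIndex R := by
  obtain ⟨k, hk⟩ := (P.2.to_le hR).exists_card_eq
  have hd : E.relIndex R ∣ p ^ k := hk ▸ index_dvd_card _
  obtain ⟨j, -, hj⟩ := (Nat.dvd_prime_pow Fact.out).mp hd
  rw [hj]
  refine dvd_pow_self p fun h0 => hER.not_ge (relIndex_eq_one.mp ?_)
  rw [hj, h0, pow_zero]

/-- The decomposition at a fully normalised subgroup. -/
theorem rel_of_fully (P : Sylow p G) {E : Subgroup G} (hEP : E ≤ (P : Subgroup G))
    (hne : E ≠ (P : Subgroup G))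
    (hsyl : ¬ p ∣ ((P : Subgroup G) ⊓ normalizer (E : Set G)).relIndex (normalizer (E : Set G)))
    (IH : ∀ R : Subgroup G, E < R → R ≤ (P : Subgroup G) → ∀ g : G,
      (∀ r ∈ R, g⁻¹ * r * g ∈ (P : Subgroup G)) → Rel p (P : Subgroup G) (R : Set G) g) :
    ∀ x ∈ normalizer (E : Set G), Rel p (P : Subgroup G) (E : Set G) x := by
  classical
  have hp : p.Prime := Fact.out
  set N := normalizer (E : Set G) with hN
  have hES : E ≤ (P : Subgroup G) ⊓ N := le_inf hEP le_normalizer
  have himgN : ∀ x ∈ N, cimg x (E : Set G) = (E : Set G) := by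
    intro x hx
    ext z
    constructor
    · rintro ⟨a, ha, rfl⟩
      exact (mem_normalizer_iff''.mp hx a).mp ha
    · intro hz
      exact ⟨x * z * x⁻¹, (mem_normalizer_iff.mp hx z).mp hz, by group⟩
  -- the subgroup of elements with the property
  let M : Submonoid G :=
    { carrier := {x | x ∈ N ∧ Rel p (P : Subgroup G) (E : Set G) x}
      one_mem' := ⟨one_mem _, Rel.of_centralizer (one_mem _)⟩
      mul_mem' := fun {a b} ha hb =>
        ⟨mul_mem ha.1 hb.1, ha.2.trans ((himgN a ha.1).symm ▸ hb.2)⟩ }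
  let K : Subgroup G :=
    { M with
      inv_mem' := fun {x} hx => by
        have : x⁻¹ = x ^ (orderOf x - 1) := by
          rw [inv_eq_iff_mul_eq_one, ← pow_succ', Nat.sub_add_cancel (orderOf_pos x),
            pow_orderOf_eq_one]
        show x⁻¹ ∈ M
        rw [this]
        exact pow_mem hx _ }
  have hKmem : ∀ x, x ∈ K ↔ x ∈ N ∧ Rel p (P : Subgroup G) (E : Set G) x := fun x => Iff.rfl
  suffices hK : N ≤ K from fun x hx => ((hKmem x).mp (hK hx)).2
  -- elements moving some larger subgroup of `N_P(E)` into `P`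
  have hext : ∀ R : Subgroup G, E < R → R ≤ (P : Subgroup G) → ∀ x ∈ N,
      (∀ r ∈ R, x⁻¹ * r * x ∈ (P : Subgroup G)) → x ∈ K := fun R hER hRP x hx hxR =>
    (hKmem x).mpr ⟨hx, (IH R hER hRP x hxR).mono (SetLike.coe_subset_coe.mpr hER.le)⟩
  have hnorm : ∀ R : Subgroup G, E < R → R ≤ (P : Subgroup G) → ∀ x ∈ N,
      x ∈ normalizer (R : Set G) → x ∈ K := fun R hER hRP x hx hxR =>
    hext R hER hRP x hx fun r hr => hRP ((mem_normalizer_iff''.mp hxR r).mp hr)
  have hCK : centralizer (E : Set G) ≤ K := fun c hc =>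
    (hKmem c).mpr ⟨centralizer_le_normalizer _ hc, Rel.of_centralizer hc⟩
  by_cases hno : NoEnlarge (P : Subgroup G) E
  swap
  · obtain ⟨W, hEW, hWN, hWn, hW, hnle⟩ :
        ∃ W : Subgroup G, E ≤ W ∧ W ≤ N ∧ N ≤ normalizer (W : Set G) ∧
          (∀ w ∈ W, ∃ c ∈ centralizer (E : Set G), c⁻¹ * w ∈ (P : Subgroup G)) ∧
          ¬ (P : Subgroup G) ⊓ W ≤ E := by
      simpa [NoEnlarge] using hno
    have hR : E < (P : Subgroup G) ⊓ W :=
      lt_of_le_of_ne (le_inf hEP hEW) fun he => hnle he.ge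
    intro x hx
    obtain ⟨m, hm, r, hrN, hr, rfl⟩ := frattini_decomp hWN hWn hsyl hx
    obtain ⟨c, hc, hcm⟩ := hW m hm
    have hcmW : c⁻¹ * m ∈ (P : Subgroup G) ⊓ N :=
      ⟨hcm, mul_mem (N.inv_mem (centralizer_le_normalizer _ hc)) (hWN hm)⟩
    have hlt : E < (P : Subgroup G) ⊓ N := lt_normalizerIn hEP hne
    have h1 : c⁻¹ * m ∈ K := hnorm _ hlt inf_le_left _ hcmW.2 (le_normalizer hcmW)
    have h2 : m ∈ K := by simpa using mul_mem (hCK hc) h1
    exact mul_mem h2 (hnorm _ hR inf_le_left r hrN hr)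
  by_contra hKN
  have hKle : K ≤ N := fun x hx => ((hKmem x).mp hx).1
  have hlt : E < (P : Subgroup G) ⊓ N := lt_normalizerIn hEP hne
  have hSK : (P : Subgroup G) ⊓ N ≤ K := fun x hx =>
    hnorm _ hlt inf_le_left x hx.2 (le_normalizer hx)
  have hEK : E ≤ K := hES.trans hSK
  have hpK : p ∣ E.relIndex K := (dvd_relIndex_of_lt inf_le_left hlt).trans
    (Dvd.intro _ (relIndex_mul_relIndex E _ K hES hSK))
  have hSKidx : ¬ p ∣ ((P : Subgroup G) ⊓ N).relIndex K := fun h =>
    hsyl (h.trans (Dvd.intro _ (relIndex_mul_relIndex ((P : Subgroup G) ⊓ N) K N hSK hKle)))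
  have hwit : ∀ g ∈ N, ∀ z ∈ K, z ^ p ∈ E → z ∉ E → g⁻¹ * z * g ∈ K → g ∈ K := by
    intro g hg z hz hzp hzE hgz
    have hzN : zpowers z ≤ N := zpowers_le.mpr (hKle hz)
    set R := E ⊔ zpowers z with hR_def
    have hRK : R ≤ K := sup_le hEK (zpowers_le.mpr hz)
    have hRp : IsPGroup p R := by
      refine IsPGroup.to_sup_of_normal_left' (P.2.to_le hEP) ?_ hzN
      obtain ⟨a, ha⟩ := IsPGroup.iff_orderOf.mp (P.2.to_le hEP) ⟨z ^ p, hzp⟩
      rw [Subgroup.orderOf_mk] at ha
      have hd : orderOf z ∣ p ^ (a + 1) := orderOf_dvd_of_pow_eq_one (by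
        rw [pow_succ', pow_mul, ← ha, pow_orderOf_eq_one])
      obtain ⟨b, -, hb⟩ := (Nat.dvd_prime_pow hp).mp hd
      exact IsPGroup.of_card (n := b) (by rw [Nat.card_zpowers, hb])
    set R' := R.map (MulAut.conj g⁻¹).toMonoidHom with hR'
    have hR'K : R' ≤ K := by
      rw [hR', Subgroup.map_sup, sup_le_iff]
      refine ⟨?_, ?_⟩
      · rintro _ ⟨e, he, rfl⟩
        refine hEK ?_
        simpa using (mem_normalizer_iff''.mp hg e).mp he
      · rw [MonoidHom.map_zpowers, zpowers_le]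
        simpa using hgz
    obtain ⟨k₁, hk₁, hk₁R⟩ := exists_conj_into (P.2.to_le inf_le_left) hSK hSKidx hRp hRK
    obtain ⟨k₂, hk₂, hk₂R⟩ :=
      exists_conj_into (P.2.to_le inf_le_left) hSK hSKidx (hRp.map _) hR'K
    set R₁ := R.map (MulAut.conj k₁⁻¹).toMonoidHom
    have hR₁P : R₁ ≤ (P : Subgroup G) := by
      rintro _ ⟨r, hr, rfl⟩
      simp only [MulEquiv.coe_toMonoidHom, MulAut.conj_apply, inv_inv]
      exact (hk₁R r hr).1
    have hER₁ : E < R₁ := by
      refine lt_of_le_of_ne (fun e he => ⟨k₁ * e * k₁⁻¹, ?_, by simp [mul_assoc]⟩) fun he => ?_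
      · exact mem_sup_left ((mem_normalizer_iff.mp (hKle hk₁) e).mp he)
      · have h1 : k₁⁻¹ * z * k₁ ∈ E := by
          rw [he]
          exact ⟨z, mem_sup_right (mem_zpowers z), by simp⟩
        exact hzE ((mem_normalizer_iff''.mp (hKle hk₁) z).mpr h1)
    have h3 : k₁⁻¹ * g * k₂ ∈ K := by
      refine hext R₁ hER₁ hR₁P _
        (mul_mem (mul_mem (inv_mem (hKle hk₁)) hg) (hKle hk₂)) ?_
      rintro _ ⟨r, hr, rfl⟩
      simp only [MulEquiv.coe_toMonoidHom, MulAut.conj_apply, inv_inv]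
      convert (hk₂R (g⁻¹ * r * g) ⟨r, hr, by simp⟩).1 using 1
      group
      rfl
    have := mul_mem (mul_mem hk₁ h3) (inv_mem hk₂)
    simpa [mul_assoc] using this
  -- the least normal subgroup
  haveI : (E.subgroupOf N).Normal := normal_in_normalizer
  set f := QuotientGroup.mk' (E.subgroupOf N)
  have hker : f.ker = E.subgroupOf N := QuotientGroup.ker_mk' _
  set Kb := (K.subgroupOf N).map f
  have hKb : Kb.comap f = K.subgroupOf N :=
    comap_map_eq_self (by rw [hker]; exact fun x hx => hEK hx)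
  have hrel : ∀ Y : Subgroup G, E ≤ Y → Y ≤ N →
      E.relIndex Y = Nat.card ((Y.subgroupOf N).map f) := fun Y _ hYN => by
    rw [← PCore.relIndex_eq_card_map_mk', relIndex_subgroupOf hYN]
  have hKbne : Kb ≠ ⊤ := fun h => hKN fun x hx => by
    have : (⟨x, hx⟩ : N) ∈ Kb.comap f := by rw [h]; trivial
    rw [hKb] at this
    exact this
  have hKbp : p ∣ Nat.card Kb := hrel K hEK hKle ▸ hpK
  have hKbse : StrongEmb.MeetsPrime p Kb := by
    intro g hg hdvd
    obtain ⟨g, rfl⟩ := QuotientGroup.mk'_surjective _ g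
    obtain ⟨⟨w, hwK, hwg⟩, hw⟩ := exists_prime_orderOf_dvd_card' p hdvd
    rw [← Subgroup.orderOf_coe] at hw
    change orderOf w = p at hw
    obtain ⟨z, rfl⟩ := QuotientGroup.mk'_surjective _ w
    obtain ⟨v, hv, hvz⟩ := hwg
    obtain ⟨v', rfl⟩ := QuotientGroup.mk'_surjective _ v
    have hzK : (z : G) ∈ K := by
      have : z ∈ Kb.comap f := hwK
      rwa [hKb] at this
    have hvK : (v' : G) ∈ K := by
      have : v' ∈ Kb.comap f := hv
      rwa [hKb] at this
    have hzp : (z : G) ^ p ∈ E := by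
      have : f (z ^ p) = 1 := by rw [map_pow, ← hw, pow_orderOf_eq_one]
      rw [← MonoidHom.mem_ker, hker] at this
      simpa [mem_subgroupOf] using this
    have hzE : (z : G) ∉ E := fun h => by
      have : f z = 1 := by rw [← MonoidHom.mem_ker, hker]; exact h
      rw [this, orderOf_one] at hw
      exact hp.ne_one hw.symm
    have h1 : f (g⁻¹ * z * g) = f v' := by
      rw [map_mul, map_mul, map_inv, ← hvz]
      simp [mul_assoc, f]
    have h2 : g⁻¹ * z * g ∈ Kb.comap f := by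
      show f (g⁻¹ * z * g) ∈ Kb
      rw [h1]
      exact hv
    rw [hKb] at h2
    exact hg (mem_map_of_mem f (show g ∈ K.subgroupOf N from
      hwit g g.2 z hzK hzp hzE (by simpa [mem_subgroupOf] using h2)))
  obtain ⟨Xb, hXbn, hXbp, hXbl⟩ := exists_least_normal hKbne hKbp hKbse
  set X := (Xb.comap f).map N.subtype with hX
  have hXN : X ≤ N := map_subtype_le _
  have hXsub : X.subgroupOf N = Xb.comap f := comap_map_eq_self_of_injective N.subtype_injective _
  have hEX : E ≤ X := fun e he => ⟨⟨e, le_normalizer he⟩, by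
    have : f ⟨e, le_normalizer he⟩ = 1 := by rw [← MonoidHom.mem_ker, hker]; exact he
    show f _ ∈ Xb
    rw [this]
    exact one_mem _, rfl⟩
  have hXn : N ≤ normalizer (X : Set G) :=
    (normal_subgroupOf_iff_le_normalizer hXN).mp (hXsub ▸ hXbn.comap f)
  have hXp : p ∣ E.relIndex X := by
    rw [hrel X hEX hXN, hXsub, map_comap_eq_self_of_surjective (QuotientGroup.mk'_surjective _)]
    exact hXbp
  have hleast : IsLeastX p E X := by
    refine ⟨hEX, hXN, hXn, hXp, fun Y hEY hYN hYn hYp => ?_⟩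
    have hn : ((Y.subgroupOf N).map f).Normal :=
      ((normal_subgroupOf_iff_le_normalizer hYN).mpr hYn).map f (QuotientGroup.mk'_surjective _)
    have h1 := comap_mono (f := f) (hXbl _ hn (hrel Y hEY hYN ▸ hYp))
    rw [comap_map_eq_self (by rw [hker]; exact fun x hx => hEY hx)] at h1
    rw [hX, map_le_iff_le_comap]
    exact h1
  have hstep : ∀ u ∈ N, u ∈ closure {g : G | g ∈ X ∧ (orderOf g).Coprime p} →
      IsStep p (P : Subgroup G) E u := fun u hu huX =>
    ⟨hEP, hu, hsyl, hno, ⟨K, hEK, hKle, fun h => hKN h.ge, hpK, hwit⟩, X, hleast, huX⟩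
  -- `N ≤ K`
  have hidxX := not_dvd_relIndex_inf hXN hXn hsyl
  have hR : E < (P : Subgroup G) ⊓ X := by
    refine lt_of_le_of_ne (le_inf hEP hEX) fun he => hidxX ?_
    rwa [← he]
  refine hKN fun x hx => ?_
  obtain ⟨m, hm, r, hrN, hr, rfl⟩ := frattini_decomp hXN hXn hsyl hx
  refine mul_mem ?_ (hnorm _ hR inf_le_left r hrN hr)
  set T : Sylow p X := ((P.2.to_le inf_le_left).comap_subtype (K := X)).toSylow hidxX
  haveI : (Cfsg.pResidual p X).Normal := Transfer.pResidual_normal p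
  obtain ⟨u, hu, s, hs, hus⟩ := mem_sup_of_normal_left.mp
    ((sup_comm (T : Subgroup X) (Cfsg.pResidual p X) ▸ Transfer.sylow_sup_pResidual_eq_top T :
      Cfsg.pResidual p X ⊔ (T : Subgroup X) = ⊤) ▸ mem_top (⟨m, hm⟩ : X))
  have he : (u : G) * (s : G) = m := congrArg Subtype.val hus
  rw [← he]
  refine mul_mem ?_ (hSK ⟨hs.1, hXN s.2⟩)
  have huX : (u : G) ∈ closure {g : G | g ∈ X ∧ (orderOf g).Coprime p} := by
    refine Subgroup.closure_mono ?_ ((MonoidHom.map_closure X.subtype _).le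
      (mem_map_of_mem X.subtype hu))
    rintro _ ⟨g, hg, rfl⟩
    exact ⟨g.2, by simpa using hg⟩
  refine (hKmem _).mpr ⟨hXN u.2, 1, u, 1, one_mem _, one_mem _, ?_, by group⟩
  simpa using SChain.step (hstep u (hXN u.2) huX) subset_rfl (SChain.one _)

/-- All fusion in `P` has the form `c · x₁ ⋯ xₙ · y`. -/
theorem rel_all (P : Sylow p G) : ∀ D : Subgroup G, D ≤ (P : Subgroup G) → ∀ g : G,
    (∀ d ∈ D, g⁻¹ * d * g ∈ (P : Subgroup G)) → Rel p (P : Subgroup G) (D : Set G) g := by
  suffices h : ∀ k, ∀ D : Subgroup G, D ≤ (P : Subgroup G) →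
      Nat.card (P : Subgroup G) - Nat.card D = k → ∀ g : G,
      (∀ d ∈ D, g⁻¹ * d * g ∈ (P : Subgroup G)) → Rel p (P : Subgroup G) (D : Set G) g from
    fun D hD => h _ D hD rfl
  intro k
  induction k using Nat.strong_induction_on with
  | _ k IH =>
  intro D hDP hk g hg
  have hlt_card : ∀ {A B : Subgroup G}, A < B → Nat.card A < Nat.card B := fun {A B} h => by
    by_contra hle
    exact h.ne (eq_of_le_of_card_ge h.le (not_lt.mp hle))
  rcases eq_or_ne D (P : Subgroup G) with rfl | hne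
  · refine Rel.of_normalizer (mem_normalizer_iff''.mpr fun d => ⟨hg d, fun hd => ?_⟩)
    have he : (P : Subgroup G).map (MulAut.conj g⁻¹).toMonoidHom = P := by
      refine eq_of_le_of_card_ge ?_ (by rw [card_map_of_injective (MulAut.conj g⁻¹).injective])
      rintro _ ⟨x, hx, rfl⟩
      simpa using hg x hx
    rw [← he] at hd
    obtain ⟨x, hx, hxd⟩ := hd
    simp only [MulEquiv.coe_toMonoidHom, MulAut.conj_apply, inv_inv] at hxd
    rwa [← (mul_left_cancel (mul_right_cancel hxd) : x = d)]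
  have IH' : ∀ R : Subgroup G, Nat.card D < Nat.card R → R ≤ (P : Subgroup G) → ∀ w : G,
      (∀ r ∈ R, w⁻¹ * r * w ∈ (P : Subgroup G)) → Rel p (P : Subgroup G) (R : Set G) w := by
    intro R hR hRP w hw
    refine IH _ ?_ R hRP rfl w hw
    have := card_le_of_le hRP
    omega
  obtain ⟨h, hEP, hsyl, hh⟩ := exists_fully P hDP
  set E := D.map (MulAut.conj h⁻¹).toMonoidHom with hE
  have hcardE : Nat.card E = Nat.card D := card_map_of_injective (MulAut.conj h⁻¹).injective
  have hcard_lt : Nat.card D < Nat.card (P : Subgroup G) :=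
    hlt_card (lt_of_le_of_ne hDP hne)
  have hEne : E ≠ (P : Subgroup G) := fun he => by rw [← hcardE, he] at hcard_lt; omega
  -- `D → E`
  have h1 : Rel p (P : Subgroup G) (D : Set G) h :=
    (IH' _ (hlt_card (lt_normalizerIn hDP hne)) inf_le_left h hh).mono
      (SetLike.coe_subset_coe.mpr (le_inf hDP le_normalizer))
  have himg : cimg h (D : Set G) = (E : Set G) := by
    ext x
    simp only [cimg, hE, coe_map, Set.mem_image, SetLike.mem_coe, MulEquiv.coe_toMonoidHom,
      MulAut.conj_apply, inv_inv]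
  -- `D' = D^g → E`
  set D' := D.map (MulAut.conj g⁻¹).toMonoidHom with hD'
  have hD'P : D' ≤ (P : Subgroup G) := by
    rintro _ ⟨d, hd, rfl⟩
    simpa using hg d hd
  have hcardD' : Nat.card D' = Nat.card D := card_map_of_injective (MulAut.conj g⁻¹).injective
  have hD'ne : D' ≠ (P : Subgroup G) := fun he => by rw [← hcardD', he] at hcard_lt; omega
  set S := (P : Subgroup G) ⊓ normalizer (E : Set G)
  set R := (P : Subgroup G) ⊓ normalizer (D' : Set G)
  set t := g⁻¹ * h with ht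
  have htE : D'.map (MulAut.conj t⁻¹).toMonoidHom = E := by
    rw [hD', hE, Subgroup.map_map]
    congr 1
    ext x
    simp [ht, mul_assoc]
  obtain ⟨n, hnN, hn⟩ := exists_conj_into (R := R.map (MulAut.conj t⁻¹).toMonoidHom)
    (P.2.to_le (inf_le_left (b := normalizer (E : Set G)))) inf_le_right hsyl
    ((P.2.to_le inf_le_left).map _) (by
      rw [← htE, map_normalizer]
      exact map_mono inf_le_right)
  have hw : ∀ r ∈ R, (t * n)⁻¹ * r * (t * n) ∈ S := fun r hr => by
    have := hn (t⁻¹ * r * t) ⟨r, hr, by simp⟩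
    have e : (t * n)⁻¹ * r * (t * n) = n⁻¹ * (t⁻¹ * r * t) * n := by group
    rw [e]
    exact this
  -- `E → D'` extends to the image of `R`
  set R₂ := R.map (MulAut.conj (t * n)⁻¹).toMonoidHom
  have hR₂card : Nat.card D < Nat.card R₂ := by
    rw [card_map_of_injective (MulAut.conj (t * n)⁻¹).injective, ← hcardD']
    exact hlt_card (lt_normalizerIn hD'P hD'ne)
  have hER₂ : (E : Set G) ⊆ (R₂ : Set G) := by
    intro e he
    have h' := (mem_normalizer_iff.mp hnN e).mp he
    rw [← htE] at h'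
    obtain ⟨d, hd, hde⟩ := h'
    simp only [MulEquiv.coe_toMonoidHom, MulAut.conj_apply, inv_inv] at hde
    refine ⟨d, ⟨hD'P hd, le_normalizer hd⟩, ?_⟩
    simp only [MulEquiv.coe_toMonoidHom, MulAut.conj_apply, inv_inv, mul_inv_rev]
    calc n⁻¹ * t⁻¹ * d * (t * n) = n⁻¹ * (t⁻¹ * d * t) * n := by group
      _ = e := by rw [hde]; group
  have h3 : Rel p (P : Subgroup G) (E : Set G) (t * n)⁻¹ := by
    refine (IH' R₂ hR₂card ?_ _ ?_).mono hER₂
    · rintro _ ⟨r, hr, rfl⟩
      simp only [MulEquiv.coe_toMonoidHom, MulAut.conj_apply, inv_inv]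
      exact (hw r hr).1
    · rintro _ ⟨r, hr, rfl⟩
      simp only [MulEquiv.coe_toMonoidHom, MulAut.conj_apply, inv_inv]
      convert hr.1 using 1
      group
      rfl
  -- the middle element
  have h2 : Rel p (P : Subgroup G) (E : Set G) n :=
    rel_of_fully P hEP hEne hsyl (fun R' hR' hR'P => IH' R' (hcardE ▸ hlt_card hR') hR'P) n hnN
  have himgn : cimg n (E : Set G) = (E : Set G) := by
    ext z
    constructor
    · rintro ⟨a, ha, rfl⟩
      exact (mem_normalizer_iff''.mp hnN a).mp ha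
    · intro hz
      exact ⟨n * z * n⁻¹, (mem_normalizer_iff.mp hnN z).mp hz, by group⟩
  have h4 := h1.trans (himg.symm ▸ h2.trans (himgn.symm ▸ h3))
  have e : h * (n * (t * n)⁻¹) = g := by rw [ht]; group
  rwa [e] at h4

omit [Finite G] [Fact p.Prime] in
/-- A chain as explicit sequences. -/
theorem SChain.exists_fin {P : Subgroup G} {A : Set G} {g : G} (h : SChain p P A g) :
    ∃ (n : ℕ) (H : Fin n → Subgroup G) (x : Fin n → G), (List.ofFn x).prod = g ∧
      ∀ i : Fin n, IsStep p P (H i) (x i) ∧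
        cimg ((List.ofFn x).take i.val).prod A ⊆ (H i : Set G) := by
  induction h with
  | one A => exact ⟨0, Fin.elim0, Fin.elim0, by simp, fun i => i.elim0⟩
  | @step A H u g hs hA _ ih =>
    obtain ⟨n, E, xs, hprod, hall⟩ := ih
    refine ⟨n + 1, Fin.cons H E, Fin.cons u xs, by simp [hprod], ?_⟩
    intro i
    induction i using Fin.cases with
    | zero => exact ⟨by simpa using hs, by simpa [cimg_one] using hA⟩
    | succ j =>
      obtain ⟨h1, h2⟩ := hall j
      rw [← cimg_mul] at h2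
      exact ⟨by simpa using h1, by simpa [List.ofFn_succ] using h2⟩

/-- The conditions of a step, in terms of the cores and the quotient. -/
theorem IsStep.facts {P : Sylow p G} {H : Subgroup G} {u : G}
    (h : IsStep p (P : Subgroup G) H u) :
    (P : Subgroup G) ⊓ centralizer (H : Set G) ≤ H ∧
      (pPrimePCore p ↥(normalizer (H : Set G))).map (normalizer (H : Set G)).subtype =
        H ⊔ centralizer (H : Set G) ∧
      ¬ IsSylowChainConnected p
        (↥(normalizer (H : Set G)) ⧸ H.subgroupOf (normalizer (H : Set G))) := by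
  have hp : p.Prime := Fact.out
  obtain ⟨hHP, -, hsyl, hno, ⟨L, hEL, hLN, hLne, hLp, hL⟩, -⟩ := h
  set N := normalizer (H : Set G) with hN
  set S : Sylow p N := ((P.2.to_le inf_le_left).comap_subtype (K := N)).toSylow hsyl
  haveI : (H.subgroupOf N).Normal := normal_in_normalizer
  set C' := (centralizer (H : Set G)).subgroupOf N with hC'
  haveI hC'n : C'.Normal := by
    rw [hC', ← normalizerMonoidHom_ker]
    infer_instance
  have hcase : ∀ W' : Subgroup N, W'.Normal → H.subgroupOf N ≤ W' →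
      (∀ w ∈ W', ∃ c ∈ C', ∃ s : N, (s : G) ∈ (P : Subgroup G) ∧ w = c * s) →
      (S : Subgroup N) ⊓ W' ≤ H.subgroupOf N := by
    intro W' hW' hHW hW z hz
    have h1 := hno (W'.map N.subtype) (fun x hx => ⟨⟨x, le_normalizer hx⟩, hHW hx, rfl⟩)
      (map_subtype_le _) ((normal_subgroupOf_iff_le_normalizer (map_subtype_le _)).mp (by
        rw [subgroupOf, comap_map_eq_self_of_injective N.subtype_injective]; exact hW'))
      (by
        rintro _ ⟨w, hw, rfl⟩
        obtain ⟨c, hc, s, hs, rfl⟩ := hW w hw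
        exact ⟨c, hc, by simpa using hs⟩)
    exact h1 ⟨hz.1.1, z, hz.2, rfl⟩
  have hD'S : H.subgroupOf N ≤ (S : Subgroup N) := fun z hz => ⟨hHP hz, z.2⟩
  have hD'X : H.subgroupOf N ≤ pPrimePCore p N :=
    (PCore.le_pCore (N := H.subgroupOf N) ((P.2.to_le hHP).comap_subtype)).trans PCore.pCore_le_pPrimePCore
  have hcomm : ∀ c ∈ C', ∀ d ∈ H.subgroupOf N, c * d = d * c := fun c hc d hd =>
    Subtype.ext (mem_centralizer_iff.mp hc (d : G) hd).symm
  have hC := hcase (C' ⊔ H.subgroupOf N) inferInstance le_sup_right (fun w hw => by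
    obtain ⟨c, hc, s, hs, rfl⟩ := mem_sup_of_normal_left.mp hw
    exact ⟨c, hc, s, hHP hs, rfl⟩)
  set O := pPrimeCore p N
  have hOC : O ≤ C' := by
    intro k hk
    show (k : G) ∈ centralizer (H : Set G)
    rw [mem_centralizer_iff]
    intro d hd
    exact congrArg Subtype.val (PCore.commute_of_mem_cores
      (PCore.le_pCore (N := H.subgroupOf N) ((P.2.to_le hHP).comap_subtype)
        (show (⟨d, le_normalizer hd⟩ : N) ∈ H.subgroupOf N from hd)) hk)
  have hX := hcase (pPrimePCore p N) inferInstance hD'X (fun w hw => by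
    obtain ⟨c, hc, s, hs, rfl⟩ := mem_sup_of_normal_left.mp (pPrimePCore_le_sup S hw)
    exact ⟨c, hOC hc, s, hs.1.1, rfl⟩)
  refine ⟨?_, ?_, ?_⟩
  · rintro x ⟨hxP, hxC⟩
    have hxN : x ∈ N := centralizer_le_normalizer _ hxC
    exact hC (show (⟨x, hxN⟩ : N) ∈ (S : Subgroup N) ⊓ (C' ⊔ H.subgroupOf N) from
      ⟨⟨hxP, hxN⟩, mem_sup_left hxC⟩)
  · have hXeq : pPrimePCore p N = C' ⊔ H.subgroupOf N := by
      refine le_antisymm ?_ (sup_le ?_ hD'X)
      · exact (pPrimePCore_le_sup S).trans (sup_le_sup hOC hX)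
      · exact (le_pPrimeCore_sup_of_inf_le S C' (H.subgroupOf N) hcomm
          ((inf_le_inf_left _ le_sup_left).trans hC)).trans
          (sup_le PCore.pPrimeCore_le_pPrimePCore hD'X)
    rw [hXeq, Subgroup.map_sup, hC', map_subgroupOf_eq_of_le (centralizer_le_normalizer _),
      map_subgroupOf_eq_of_le le_normalizer, sup_comm]
  · set f := QuotientGroup.mk' (H.subgroupOf N)
    have hker : f.ker = H.subgroupOf N := QuotientGroup.ker_mk' _
    have hLb : ((L.subgroupOf N).map f).comap f = L.subgroupOf N :=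
      comap_map_eq_self (by rw [hker]; exact fun x hx => hEL hx)
    refine StrongEmb.not_connected_of_meetsPrime (H := (L.subgroupOf N).map f) ?_ ?_ ?_
    · intro h
      refine hLne (le_antisymm hLN fun x hx => ?_)
      have : (⟨x, hx⟩ : N) ∈ ((L.subgroupOf N).map f).comap f := by rw [h]; trivial
      rw [hLb] at this
      exact this
    · rw [← PCore.relIndex_eq_card_map_mk', relIndex_subgroupOf hLN]
      exact hLp
    · intro g hg hdvd
      obtain ⟨g, rfl⟩ := QuotientGroup.mk'_surjective _ g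
      obtain ⟨⟨w, hwL, v, hv, hvw⟩, hw⟩ := exists_prime_orderOf_dvd_card' p hdvd
      rw [← Subgroup.orderOf_coe] at hw
      change orderOf w = p at hw
      obtain ⟨z, rfl⟩ := QuotientGroup.mk'_surjective _ w
      obtain ⟨v', rfl⟩ := QuotientGroup.mk'_surjective _ v
      have hzp : (z : G) ^ p ∈ H := by
        have : f (z ^ p) = 1 := by rw [map_pow, ← hw, pow_orderOf_eq_one]
        rw [← MonoidHom.mem_ker, hker] at this
        simpa [mem_subgroupOf] using this
      have hzE : (z : G) ∉ H := fun h => by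
        have : f z = 1 := by rw [← MonoidHom.mem_ker, hker]; exact h
        rw [this, orderOf_one] at hw
        exact hp.ne_one hw.symm
      have hzL : z ∈ L.subgroupOf N := hLb ▸ hwL
      have h2 : g⁻¹ * z * g ∈ ((L.subgroupOf N).map f).comap f := by
        show f (g⁻¹ * z * g) ∈ (L.subgroupOf N).map f
        have : f (g⁻¹ * z * g) = f v' := by
          have e : f z = f g * f v' * (f g)⁻¹ := hvw.symm
          rw [map_mul, map_mul, map_inv, e]
          group
        rw [this]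
        exact hv
      rw [hLb] at h2
      exact hg (mem_map_of_mem f (show g ∈ L.subgroupOf N from
        hL g g.2 z hzL hzp hzE (by simpa [mem_subgroupOf] using h2)))

end Cfsg.Agent.Transfer.Strong
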