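import Mathlib
import Cfsg.Agent.Lib.Transfer.Fusion
import Cfsg.Agent.Lib.PGroup.Frattini
import Cfsg.Agent.Lib.Coprime.Basic

/-!
# The Wielandt–Yoshida transfer argument

`exists_step`: if `θ : N → ZMod p` is additive on `N = N_G(W)`, `W` weakly closed in `S`, and `θ` does
not vanish on `S ∩ G'`, then there are `T₀ < T ≤ S` of index `p`, with `W ≤ T`, an additive map `χ`
on `T₀`, elements `z ∈ W ∖ T₀`, `y ∈ T₀` with `∑ i < p, χ (z^-i y z^i) ≠ 0`.
`Step.chi_bracket`: in that situation `χ ([y,z; p-1]) ≠ 0`.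
-/

set_option autoImplicit false

namespace Cfsg.Agent.Transfer.Yoshida

open Subgroup MulAction

variable {G : Type*} [Group G] {p : ℕ}

/-- `θ` is additive on `N`. -/
def AddOn (N : Subgroup G) (θ : G → ZMod p) : Prop :=
  ∀ a ∈ N, ∀ b ∈ N, θ (a * b) = θ a + θ b

theorem AddOn.map_one {N : Subgroup G} {θ : G → ZMod p} (h : AddOn N θ) : θ 1 = 0 := by
  have h1 := h 1 N.one_mem 1 N.one_mem
  rw [mul_one] at h1
  exact left_eq_add.1 h1

theorem AddOn.map_inv {N : Subgroup G} {θ : G → ZMod p} (h : AddOn N θ) {a : G} (ha : a ∈ N) :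
    θ a⁻¹ = -θ a := by
  have h1 := h a ha a⁻¹ (inv_mem ha)
  rw [mul_inv_cancel, h.map_one] at h1
  exact eq_neg_of_add_eq_zero_right h1.symm

theorem AddOn.map_conj {N : Subgroup G} {θ : G → ZMod p} (h : AddOn N θ) {a n : G} (ha : a ∈ N)
    (hn : n ∈ N) : θ (n⁻¹ * a * n) = θ a := by
  rw [h _ (mul_mem (inv_mem hn) ha) _ hn, h _ (inv_mem hn) _ ha, h.map_inv hn]
  abel

/-- The transfer cocycle of `θ`. -/
noncomputable def cocycle (N : Subgroup G) (θ : G → ZMod p) (g : G) (c : G ⧸ N) : ZMod p :=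
  θ ((g • c).out⁻¹ * g * c.out)

theorem cocycle_mem (N : Subgroup G) (g : G) (c : G ⧸ N) : (g • c).out⁻¹ * g * c.out ∈ N := by
  rw [mul_assoc, ← QuotientGroup.eq, QuotientGroup.out_eq']
  conv_lhs => rw [← QuotientGroup.out_eq' c]
  rfl

theorem cocycle_mul {N : Subgroup G} {θ : G → ZMod p} (hθ : AddOn N θ) (g g' : G) (c : G ⧸ N) :
    cocycle N θ (g * g') c = cocycle N θ g (g' • c) + cocycle N θ g' c := by
  rw [cocycle, cocycle, cocycle, ← hθ _ (cocycle_mem N g _) _ (cocycle_mem N g' c), mul_smul]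
  congr 1
  group

open Classical in
/-- The contribution of a fixed coset. -/
noncomputable def fixedValue (N : Subgroup G) (θ : G → ZMod p) (g : G) (c : G ⧸ N) : ZMod p :=
  if g • c = c then θ (c.out⁻¹ * g * c.out) else 0

/-- The transfer restricted to an invariant set of cosets. -/
noncomputable def partTransfer (N : Subgroup G) (θ : G → ZMod p) (Ω : Finset (G ⧸ N)) (g : G) :
    ZMod p :=
  ∑ c ∈ Ω, cocycle N θ g c

theorem partTransfer_addOn {N : Subgroup G} {θ : G → ZMod p} (hθ : AddOn N θ) (H : Subgroup G)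
    (Ω : Finset (G ⧸ N)) (hΩ : ∀ h ∈ H, ∀ c ∈ Ω, h • c ∈ Ω) : AddOn H (partTransfer N θ Ω) := by
  intro a _ b hb
  simp only [partTransfer, cocycle_mul hθ, Finset.sum_add_distrib, add_left_inj]
  refine Finset.sum_nbij' (fun c => b • c) (fun c => b⁻¹ • c) (fun c hc => hΩ b hb c hc)
    (fun c hc => hΩ _ (inv_mem hb) c hc) (fun c _ => inv_smul_smul b c) (fun c _ => smul_inv_smul b c)
    (fun c _ => rfl)

theorem partTransfer_eq [Finite G] {N : Subgroup G} {θ : G → ZMod p} (hθ : AddOn N θ) {x : G}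
    (h0 : ∀ c : G ⧸ N, x • c ≠ c → θ (c.out⁻¹ * x ^ period x c * c.out) = 0)
    (Ω : Finset (G ⧸ N)) (hΩ : ∀ c ∈ Ω, x • c ∈ Ω) :
    partTransfer N θ Ω x = ∑ c ∈ Ω, fixedValue N θ x c := by
  classical
  induction hn : Ω.card using Nat.strong_induction_on generalizing Ω with
  | _ n ih =>
  by_cases hall : ∀ c ∈ Ω, x • c = c
  · exact Finset.sum_congr rfl fun c hc => by rw [fixedValue, if_pos (hall c hc), cocycle, hall c hc]
  push Not at hall
  obtain ⟨c, hc, hxc⟩ := hall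
  set r := period x c with hr
  have hr0 : 0 < r := period_pos_of_orderOf_pos (orderOf_pos x) c
  have htel : ∀ k : ℕ, ∑ j ∈ Finset.range k, cocycle N θ x (x ^ j • c) =
      θ ((x ^ k • c).out⁻¹ * x ^ k * c.out) := by
    intro k
    induction k with
    | zero => simp [hθ.map_one]
    | succ k ih =>
      rw [Finset.sum_range_succ, ih, cocycle, add_comm,
        ← hθ _ (cocycle_mem N x _) _ (cocycle_mem N (x ^ k) c), smul_smul, ← pow_succ']
      congr 1
      rw [pow_succ' x k]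
      group
  set O := (Finset.range r).image fun j => x ^ j • c with hO
  have hinj : Set.InjOn (fun j => x ^ j • c) (Finset.range r : Set ℕ) := by
    intro i hi j hj hij
    simp only [Finset.coe_range, Set.mem_Iio] at hi hj
    have key : ∀ i j, i ≤ j → j < r → x ^ i • c = x ^ j • c → i = j := by
      intro i j hle hj he
      obtain ⟨d, rfl⟩ := Nat.exists_eq_add_of_le hle
      rw [pow_add, mul_smul, smul_left_cancel_iff, eq_comm, pow_smul_eq_iff_period_dvd] at he
      have := Nat.eq_zero_of_dvd_of_lt he (by omega)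
      omega
    rcases le_total i j with h | h
    · exact key i j h hj hij
    · exact (key j i h hi hij.symm).symm
  have hOΩ : O ⊆ Ω := by
    intro d hd
    obtain ⟨j, -, rfl⟩ := Finset.mem_image.1 hd
    induction j with
    | zero => simpa using hc
    | succ j ih =>
      rw [pow_succ', mul_smul]
      exact hΩ _ (ih (Finset.mem_image.2 ⟨j % r, Finset.mem_range.2 (Nat.mod_lt _ hr0),
        pow_mod_period_smul j⟩))
  have hmemO : ∀ j : ℕ, x ^ j • c ∈ O := fun j => Finset.mem_image.2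
    ⟨j % r, Finset.mem_range.2 (Nat.mod_lt _ hr0), pow_mod_period_smul j⟩
  have hOx : ∀ d, x • d ∈ O → d ∈ O := by
    intro d hd
    obtain ⟨j, -, hj⟩ := Finset.mem_image.1 hd
    have : d = x ^ (j + (r - 1)) • c := by
      rw [eq_comm, ← smul_left_cancel_iff x, smul_smul, ← pow_succ', add_assoc,
        Nat.sub_add_cancel hr0, pow_add, mul_smul, pow_period_smul, hj]
    exact this ▸ hmemO _
  rw [partTransfer, ← Finset.sum_sdiff hOΩ, ← Finset.sum_sdiff hOΩ]
  congr 1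
  · refine ih _ ?_ (Ω \ O) ?_ rfl
    · rw [← hn]
      exact Finset.card_lt_card (Finset.sdiff_ssubset hOΩ ⟨c, by simpa using hmemO 0⟩)
    · intro d hd
      rw [Finset.mem_sdiff] at hd ⊢
      exact ⟨hΩ d hd.1, fun h => hd.2 (hOx d h)⟩
  · rw [hO, Finset.sum_image hinj, Finset.sum_image hinj, htel]
    have h1 := h0 c hxc
    rw [← hr] at h1
    rw [hr, pow_period_smul, ← hr, h1, eq_comm]
    refine Finset.sum_eq_zero fun j _ => ?_
    rw [fixedValue, if_neg]
    intro h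
    rw [smul_smul, ← pow_succ', pow_succ, mul_smul, smul_left_cancel_iff] at h
    exact hxc h

/-- A subgroup of `p`-power order of `N ≥ S` is conjugate in `N` into `S`. -/
theorem exists_conj_le_sylow [Finite G] [Fact p.Prime] (S : Sylow p G) {N : Subgroup G}
    (hSN : (S : Subgroup G) ≤ N) {U : Subgroup G} (hUN : U ≤ N) (hU : IsPGroup p U) :
    ∃ n ∈ N, ∀ u ∈ U, n * u * n⁻¹ ∈ (S : Subgroup G) := by
  have hU' : IsPGroup p (U.subgroupOf N) := hU.of_equiv (subgroupOfEquivOfLe hUN).symm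
  obtain ⟨P, hP⟩ := hU'.exists_le_sylow
  obtain ⟨n, hn⟩ := MulAction.exists_smul_eq N P (S.subtype hSN)
  refine ⟨n, n.2, fun u hu => ?_⟩
  have h1 : n * (⟨u, hUN hu⟩ : N) * n⁻¹ ∈ ((S.subtype hSN : Sylow p N) : Subgroup N) := by
    rw [← hn, Sylow.coe_subgroup_smul]
    exact ⟨_, hP hu, rfl⟩
  exact h1

/-- The configuration produced by `exists_step`. -/
structure Step (S : Subgroup G) (W : Subgroup G) (p : ℕ) where
  /-- the big subgroup -/
  T : Subgroup G
  /-- the index `p` subgroup -/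
  T₀ : Subgroup G
  /-- the additive map -/
  χ : G → ZMod p
  /-- the acting element -/
  z : G
  /-- the element -/
  y : G
  le_T : T₀ ≤ T
  T_le : T ≤ S
  W_le : W ≤ T
  relIndex_eq : T₀.relIndex T = p
  le_normalizer : T ≤ Subgroup.normalizer (T₀ : Set G)
  z_mem : z ∈ W
  z_not_mem : z ∉ T₀
  y_mem : y ∈ T₀
  addOn : AddOn T₀ χ
  sum_ne : ∑ i ∈ Finset.range p, χ ((z ^ i)⁻¹ * y * z ^ i) ≠ 0

/-- The Wielandt–Yoshida step. -/
theorem exists_step [Finite G] [hp : Fact p.Prime] (S : Sylow p G) {W : Subgroup G}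
    (hW : Cfsg.IsWeaklyClosed W (S : Subgroup G)) {θ : G → ZMod p}
    (hθ : AddOn (normalizer (W : Set G)) θ)
    (hx : ∃ x ∈ (S : Subgroup G), x ∈ _root_.commutator G ∧ θ x ≠ 0) :
    Nonempty (Step (S : Subgroup G) W p) := by
  classical
  let _ : Fintype G := Fintype.ofFinite G
  set N := normalizer (W : Set G) with hNdef
  have hWS : W ≤ (S : Subgroup G) := hW.1
  have hSN : (S : Subgroup G) ≤ N := fun s hs =>
    mem_normalizer_of_weaklyClosed hW fun w hw => mul_mem (mul_mem hs (hWS hw)) (inv_mem hs)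
  have hWN : W ≤ N := hWS.trans hSN
  let _ : Fintype (G ⧸ N) := Fintype.ofFinite _
  -- an element of least order
  have hex : ∃ n, ∃ x ∈ (S : Subgroup G), x ∈ _root_.commutator G ∧ θ x ≠ 0 ∧ orderOf x = n := by
    obtain ⟨x, h1, h2, h3⟩ := hx
    exact ⟨_, x, h1, h2, h3, rfl⟩
  obtain ⟨x, hxS, hxG, hxθ, hxn⟩ := Nat.find_spec hex
  have hsmall : ∀ u ∈ N, u ∈ _root_.commutator G → (∃ k : ℕ, u ^ p ^ k = 1) →
      orderOf u < orderOf x → θ u = 0 := by
    intro u hu huG ⟨k, hk⟩ hlt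
    have hU : IsPGroup p (zpowers u) := by
      intro ⟨a, ha⟩
      obtain ⟨i, rfl⟩ := mem_zpowers_iff.1 ha
      refine ⟨k, Subtype.ext ?_⟩
      show (u ^ i) ^ p ^ k = 1
      rw [← zpow_natCast, ← zpow_mul, mul_comm, zpow_mul, zpow_natCast, hk, one_zpow]
    obtain ⟨n, hn, hnu⟩ := exists_conj_le_sylow S hSN (zpowers_le.2 hu) hU
    have h1 := hnu u (mem_zpowers u)
    by_contra hne
    refine Nat.find_min hex (hxn ▸ hlt) ⟨n * u * n⁻¹, h1, Normal.conj_mem inferInstance u huG n, ?_, ?_⟩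
    · have h2 := hθ.map_conj hu (inv_mem hn)
      rw [inv_inv] at h2
      rw [h2]; exact hne
    · exact orderOf_injective (MulAut.conj n).toMonoidHom (MulAut.conj n).injective u
  obtain ⟨j, hj⟩ := IsPGroup.iff_orderOf.1 S.2 ⟨x, hxS⟩
  rw [orderOf_mk] at hj
  have hxp : x ^ p ^ j = 1 := hj ▸ pow_orderOf_eq_one x
  -- the vanishing hypothesis of `partTransfer_eq` for conjugates of `x`
  have hvan : ∀ (g : G) (c : G ⧸ N), (g⁻¹ * x * g) • c ≠ c →
      θ (c.out⁻¹ * (g⁻¹ * x * g) ^ period (g⁻¹ * x * g) c * c.out) = 0 := by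
    intro g c hc
    set x' := g⁻¹ * x * g with hx'
    have ho : orderOf x' = orderOf x := by
      rw [hx', ← orderOf_injective (MulAut.conj g⁻¹).toMonoidHom (MulAut.conj g⁻¹).injective x]
      simp
    set r := period x' c with hr
    have hrd : r ∣ p ^ j := hj ▸ ho ▸ period_dvd_orderOf x' c
    have hr1 : r ≠ 1 := fun h => hc (period_eq_one_iff.1 (hr.symm.trans h))
    have hmem : c.out⁻¹ * x' ^ r * c.out ∈ N := by
      have h1 := cocycle_mem N (x' ^ r) c
      rwa [hr, pow_period_smul] at h1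
    have hconj : c.out⁻¹ * x' ^ r * c.out = (MulAut.conj c.out⁻¹).toMonoidHom (x' ^ r) := by simp
    refine hsmall _ hmem ?_ ⟨j, ?_⟩ ?_
    · have h1 : x' ∈ _root_.commutator G := by
        have := Normal.conj_mem (inferInstance : (_root_.commutator G).Normal) x hxG g⁻¹
        rwa [inv_inv] at this
      have h2 := Normal.conj_mem (inferInstance : (_root_.commutator G).Normal) _ (pow_mem h1 r) c.out⁻¹
      rwa [inv_inv] at h2
    · rw [hconj, ← map_pow, ← pow_mul, mul_comm, pow_mul, ← hj, ← ho, pow_orderOf_eq_one, one_pow,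
        map_one]
    · rw [hconj, orderOf_injective _ (MulAut.conj c.out⁻¹).injective, orderOf_pow, ho]
      have hx1 : x ≠ 1 := fun h => hxθ (h ▸ hθ.map_one)
      refine Nat.div_lt_self (orderOf_pos x) ?_
      obtain ⟨i, -, hi⟩ := (Nat.dvd_prime_pow hp.out).1 hrd
      have hi0 : i ≠ 0 := by rintro rfl; exact hr1 (hi.trans (pow_zero p))
      have hj0 : j ≠ 0 := by rintro rfl; exact hx1 (orderOf_eq_one_iff.1 (hj.trans (pow_zero p)))
      have hdvd : p ∣ Nat.gcd (orderOf x) r := Nat.dvd_gcd (hj ▸ dvd_pow_self p hj0) (hi ▸ dvd_pow_self p hi0)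
      exact lt_of_lt_of_le hp.out.one_lt (Nat.le_of_dvd (Nat.gcd_pos_of_pos_left _ (orderOf_pos x)) hdvd)
  -- the full transfer kills `x`
  have hV : AddOn ⊤ (partTransfer N θ Finset.univ) :=
    partTransfer_addOn hθ ⊤ _ fun _ _ _ _ => Finset.mem_univ _
  let Vhom : G →* Multiplicative (ZMod p) :=
    { toFun := fun g => Multiplicative.ofAdd (partTransfer N θ Finset.univ g)
      map_one' := by rw [hV.map_one]; rfl
      map_mul' := fun a b => by rw [hV a (mem_top a) b (mem_top b)]; rfl }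
  have hVx : partTransfer N θ Finset.univ x = 0 :=
    Multiplicative.ofAdd.injective (Abelianization.commutator_subset_ker Vhom hxG)
  rw [partTransfer_eq hθ (fun c hc => by
    have h1 := hvan 1 c (by simpa using hc)
    simpa using h1) _ fun _ _ => Finset.mem_univ _] at hVx
  -- split along the orbits of `W`
  let _ : Fintype (Quotient (orbitRel W (G ⧸ N))) := Fintype.ofFinite _
  rw [← Finset.sum_fiberwise (g := fun c : G ⧸ N => (Quotient.mk'' c : Quotient (orbitRel W (G ⧸ N))))] at hVx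
  set e : G ⧸ N := ((1 : G) : G ⧸ N) with he
  have hfix_e : ∀ g ∈ N, g • e = e := fun g hg => QuotientGroup.eq.2 (by simpa using hg)
  have he_val : fixedValue N θ x e = θ x := by
    rw [fixedValue, if_pos (hfix_e x (hSN hxS))]
    have hout : e.out ∈ N := by
      have h1 : ((e.out : G) : G ⧸ N) = ((1 : G) : G ⧸ N) := QuotientGroup.out_eq' e
      simpa using inv_mem (QuotientGroup.eq.1 h1)
    exact hθ.map_conj (hSN hxS) hout
  have he_fib : (Finset.univ.filter fun c : G ⧸ N =>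
      (Quotient.mk'' c : Quotient (orbitRel W (G ⧸ N))) = Quotient.mk'' e) = {e} := by
    ext c
    simp only [Finset.mem_filter, Finset.mem_univ, true_and, Finset.mem_singleton]
    refine ⟨fun h => ?_, fun h => by rw [h]⟩
    obtain ⟨w, hw⟩ := (orbitRel_apply.1 (Quotient.exact' h) : c ∈ orbit W e)
    rw [← hw]
    exact hfix_e w (hWN w.2)
  obtain ⟨O, hOe, hOsum⟩ : ∃ O : Quotient (orbitRel W (G ⧸ N)), O ≠ Quotient.mk'' e ∧
      ∑ c ∈ Finset.univ.filter (fun c : G ⧸ N => (Quotient.mk'' c : Quotient (orbitRel W (G ⧸ N))) = O),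
        fixedValue N θ x c ≠ 0 := by
    by_contra hcon
    push Not at hcon
    rw [Finset.sum_eq_single (Quotient.mk'' e) (fun O _ h => hcon O h)
      (fun h => absurd (Finset.mem_univ _) h), he_fib, Finset.sum_singleton, he_val] at hVx
    exact hxθ hVx
  obtain ⟨c₀, hc₀, hc₀v⟩ := Finset.exists_ne_zero_of_sum_ne_zero hOsum
  have hc₀O : (Quotient.mk'' c₀ : Quotient (orbitRel W (G ⧸ N))) = O := (Finset.mem_filter.1 hc₀).2
  have hxc₀ : x • c₀ = c₀ := by
    by_contra h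
    exact hc₀v (by rw [fixedValue, if_neg h])
  -- the stabiliser
  set R : Subgroup G := (S : Subgroup G) ⊓ MulAction.stabilizer G c₀ with hR
  have hWR : ¬ W ≤ R := by
    intro hle
    set t := c₀.out with ht
    have htW : ∀ w ∈ W, t⁻¹ * w * t ∈ N := by
      intro w hw
      have h1 := cocycle_mem N w c₀
      rwa [show w • c₀ = c₀ from (mem_inf.1 (hle hw)).2, ← ht] at h1
    have hWp : IsPGroup p (W.map (MulAut.conj t⁻¹).toMonoidHom) := (S.2.to_le hWS).map _
    obtain ⟨n, hn, hnW⟩ := exists_conj_le_sylow S hSN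
      (U := W.map (MulAut.conj t⁻¹).toMonoidHom) (by
        rintro _ ⟨w, hw, rfl⟩
        simpa using htW w hw) hWp
    have hmem : n * t⁻¹ ∈ N := mem_normalizer_of_weaklyClosed hW fun w hw => by
      have h1 := hnW _ ⟨w, hw, rfl⟩
      simpa [mul_assoc] using h1
    have htN : t⁻¹ ∈ N := (N.mul_mem_cancel_left hn).1 hmem
    apply hOe
    rw [← hc₀O]
    congr 1
    rw [← QuotientGroup.out_eq' c₀, he]
    exact QuotientGroup.eq.2 (by simpa using htN)
  have hWn : ∀ g ∈ (S : Subgroup G), ∀ w ∈ W, g * w * g⁻¹ ∈ W := fun g hg w hw =>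
    ((mem_normalizer_iff.1 (hSN hg)) w).1 hw
  set T : Subgroup G := R ⊔ W with hT
  have hTS : T ≤ (S : Subgroup G) := sup_le inf_le_left hWS
  have hRlt : R.subgroupOf T ≠ ⊤ := fun h => hWR (le_sup_right.trans (subgroupOf_eq_top.1 h))
  obtain ⟨M, hM, hRM⟩ := (eq_top_or_exists_le_coatom (R.subgroupOf T)).resolve_left hRlt
  have hTp : IsPGroup p T := S.2.to_le hTS
  have hMn : M.Normal := PGroup.normal_of_isCoatom hTp hM
  have hMi : M.index = p := PGroup.index_of_isCoatom hTp hM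
  set T₀ : Subgroup G := M.map T.subtype with hT₀
  have hT₀T : T₀ ≤ T := map_subtype_le M
  have hRT₀ : R ≤ T₀ := fun r hr => ⟨⟨r, mem_sup_left hr⟩, hRM hr, rfl⟩
  have hsubT₀ : T₀.subgroupOf T = M := by
    rw [hT₀, Subgroup.subgroupOf, comap_map_eq_self_of_injective T.subtype_injective]
  obtain ⟨z, hzW, hzT₀⟩ : ∃ z ∈ W, z ∉ T₀ := by
    by_contra hc
    push Not at hc
    have hle : T ≤ T₀ := sup_le hRT₀ hc
    have : M = ⊤ := by rw [← hsubT₀, subgroupOf_eq_top]; exact hle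
    exact hM.1 this
  have hzT : z ∈ T := mem_sup_right hzW
  have hnormT : T ≤ normalizer (T₀ : Set G) := by
    intro t ht
    refine mem_normalizer_of_conj_mem fun w hw => ?_
    obtain ⟨m, hm, rfl⟩ := hw
    exact ⟨⟨t, ht⟩ * m * ⟨t, ht⟩⁻¹, hMn.conj_mem m hm _, rfl⟩
  have hzpow : ∀ k : ℕ, z ^ k ∈ T₀ → p ∣ k := by
    intro k hk
    by_contra hd
    apply hzT₀
    have h1 : z ^ p ∈ T₀ := by
      refine ⟨⟨z, hzT⟩ ^ p, ?_, rfl⟩
      exact PGroup.pow_mem_of_index_eq M hMi _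
    obtain ⟨m, hm⟩ := Nat.exists_mul_mod_eq_one_of_coprime ((hp.out.coprime_iff_not_dvd.2 hd).symm) hp.out.one_lt
    have h2 : (z ^ k) ^ m ∈ T₀ := pow_mem hk m
    rw [← pow_mul, ← Nat.mod_add_div (k * m) p, hm.2, pow_add, pow_one, pow_mul] at h2
    exact (T₀.mul_mem_cancel_right (pow_mem h1 _)).1 h2
  have hTdec : ∀ t ∈ T, ∃ i < p, (z ^ i)⁻¹ * t ∈ T₀ := by
    intro t ht
    have hne : (QuotientGroup.mk (⟨z, hzT⟩ : T) : T ⧸ M) ≠ 1 := by
      rw [Ne, QuotientGroup.eq_one_iff, ← hsubT₀]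
      exact hzT₀
    have hcard : Nat.card (T ⧸ M) = p := by rw [← index_eq_card, hMi]
    obtain ⟨i, (hi : _ ^ i = _)⟩ := mem_powers_iff_mem_zpowers.2 (mem_zpowers_of_prime_card hcard hne
      (g' := (QuotientGroup.mk (⟨t, ht⟩ : T) : T ⧸ M)))
    refine ⟨i % p, Nat.mod_lt _ hp.out.pos, ?_⟩
    have hgp : (QuotientGroup.mk (⟨z, hzT⟩ : T) : T ⧸ M) ^ p = 1 := hcard ▸ pow_card_eq_one'
    rw [pow_eq_pow_mod i hgp, ← QuotientGroup.mk_pow, QuotientGroup.eq] at hi
    exact ⟨_, hi, rfl⟩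
  -- the orbit pieces
  set Ω : Finset (G ⧸ N) := Finset.univ.filter fun d => ∃ u ∈ T₀, u • c₀ = d with hΩ
  have hΩinv : ∀ u ∈ T₀, ∀ d ∈ Ω, u • d ∈ Ω := by
    intro u hu d hd
    obtain ⟨v, hv, rfl⟩ := (Finset.mem_filter.1 hd).2
    exact Finset.mem_filter.2 ⟨Finset.mem_univ _, u * v, mul_mem hu hv, mul_smul u v c₀⟩
  have hTorb : ∀ t ∈ T, ∃ w ∈ W, w • c₀ = t • c₀ := by
    intro t ht
    have hRN : R ≤ normalizer (W : Set G) := (inf_le_left : R ≤ _).trans hSN
    obtain ⟨w, hw, r, hr, rfl⟩ := (Cfsg.Agent.Coprime.mem_sup_iff_of_le_normalizer' hRN).1 (show t ∈ R ⊔ W from ht)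
    exact ⟨w, hw, by rw [mul_smul, show r • c₀ = c₀ from (mem_inf.1 hr).2]⟩
  have hbij : ∑ c ∈ Finset.univ.filter (fun c : G ⧸ N => (Quotient.mk'' c : Quotient (orbitRel W (G ⧸ N))) = O),
      fixedValue N θ x c = ∑ i ∈ Finset.range p, ∑ d ∈ Ω, fixedValue N θ x (z ^ i • d) := by
    rw [← Finset.sum_product', eq_comm]
    refine Finset.sum_bij (fun q _ => z ^ q.1 • q.2) ?_ ?_ ?_ (fun _ _ => rfl)
    · rintro ⟨i, d⟩ hq
      obtain ⟨u, hu, rfl⟩ := (Finset.mem_filter.1 (Finset.mem_product.1 hq).2).2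
      refine Finset.mem_filter.2 ⟨Finset.mem_univ _, ?_⟩
      rw [← hc₀O, smul_smul]
      obtain ⟨w, hw, hwc⟩ := hTorb (z ^ i * u) (mul_mem (pow_mem hzT i) (hT₀T hu))
      rw [← hwc]
      exact Quotient.sound' (orbitRel_apply.2 ⟨⟨w, hw⟩, rfl⟩)
    · rintro ⟨i, d⟩ hq ⟨i', d'⟩ hq' he
      rw [Finset.mem_product, Finset.mem_range] at hq hq'
      obtain ⟨u, hu, rfl⟩ := (Finset.mem_filter.1 hq.2).2
      obtain ⟨u', hu', rfl⟩ := (Finset.mem_filter.1 hq'.2).2
      have key : ∀ i i' u u', i ≤ i' → i' < p → u ∈ T₀ → u' ∈ T₀ →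
          z ^ i • u • c₀ = z ^ i' • u' • c₀ → i = i' := by
        intro i i' u u' hle hlt hu hu' he
        obtain ⟨k, rfl⟩ := Nat.exists_eq_add_of_le hle
        rw [pow_add, mul_smul, smul_left_cancel_iff, smul_smul] at he
        have h1 : u⁻¹ * (z ^ k * u') ∈ R := by
          refine mem_inf.2 ⟨hTS (mul_mem (inv_mem (hT₀T hu)) (mul_mem (pow_mem hzT k) (hT₀T hu'))), ?_⟩
          rw [MulAction.mem_stabilizer_iff, mul_smul, ← he, inv_smul_smul]
        have h2 := hzpow k (by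
          have h3 := mul_mem (mul_mem hu (hRT₀ h1)) (inv_mem hu')
          simpa [mul_assoc] using h3)
        have := Nat.eq_zero_of_dvd_of_lt h2 (by omega)
        omega
      have hii : i = i' := by
        rcases le_total i i' with h | h
        · exact key i i' u u' h hq'.1 hu hu' he
        · exact (key i' i u' u h hq.1 hu' hu he.symm).symm
      subst hii
      exact Prod.ext rfl (smul_left_cancel _ he)
    · intro c hc
      obtain ⟨w, hw⟩ := (orbitRel_apply.1 (Quotient.exact' ((Finset.mem_filter.1 hc).2.trans hc₀O.symm)) :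
        c ∈ orbit W c₀)
      obtain ⟨i, hi, hiw⟩ := hTdec w (mem_sup_right w.2)
      refine ⟨(i, ((z ^ i)⁻¹ * w) • c₀), Finset.mem_product.2 ⟨Finset.mem_range.2 hi,
        Finset.mem_filter.2 ⟨Finset.mem_univ _, _, hiw, rfl⟩⟩, ?_⟩
      show z ^ i • ((z ^ i)⁻¹ * (w : G)) • c₀ = c
      rw [smul_smul, mul_inv_cancel_left, ← hw]
      rfl
  have hxR : x ∈ R := mem_inf.2 ⟨hxS, hxc₀⟩
  have hconjT₀ : ∀ t ∈ T, ∀ u ∈ T₀, t⁻¹ * u * t ∈ T₀ := fun t ht u hu => by
    simpa using ((mem_normalizer_iff.1 (hnormT (inv_mem ht))) u).1 hu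
  have hshift : ∀ i d, fixedValue N θ x (z ^ i • d) = fixedValue N θ ((z ^ i)⁻¹ * x * z ^ i) d := by
    intro i d
    have hiff : x • z ^ i • d = z ^ i • d ↔ ((z ^ i)⁻¹ * x * z ^ i) • d = d := by
      rw [mul_smul, mul_smul, inv_smul_eq_iff]
    by_cases h : x • z ^ i • d = z ^ i • d
    · rw [fixedValue, fixedValue, if_pos h, if_pos (hiff.1 h)]
      have h1 := cocycle_mem N ((z ^ i)⁻¹ * x * z ^ i) d
      rw [hiff.1 h] at h1
      have h2 := cocycle_mem N (z ^ i) d
      rw [← hθ.map_conj h1 (inv_mem h2)]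
      congr 1
      group
    · rw [fixedValue, fixedValue, if_neg h, if_neg (fun h' => h (hiff.2 h'))]
  refine ⟨⟨T, T₀, partTransfer N θ Ω, z, x, hT₀T, hTS, le_sup_right,
    (by rw [relIndex, hsubT₀, hMi]), hnormT, hzW, hzT₀, hRT₀ hxR, partTransfer_addOn hθ T₀ Ω hΩinv, ?_⟩⟩
  rw [hbij] at hOsum
  refine fun h => hOsum (Eq.trans (Finset.sum_congr rfl fun i _ => ?_) h)
  rw [partTransfer_eq hθ (hvan (z ^ i)) Ω
    (fun d hd => hΩinv _ (hconjT₀ _ (pow_mem hzT i) _ (hRT₀ hxR)) d hd)]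
  exact Finset.sum_congr rfl fun d _ => hshift i d

section Bracket

variable {S W : Subgroup G} [hp : Fact p.Prime] (st : Step S W p)

/-- `u ↦ [u, z]` for the element `z` of the configuration. -/
def Step.D (u : G) : G := u⁻¹ * st.z⁻¹ * u * st.z

/-- The values of `χ` on the conjugates of `y`. -/
def Step.a (i : ℕ) : ZMod p := st.χ ((st.z ^ i)⁻¹ * st.y * st.z ^ i)

omit hp in
theorem Step.z_mem_T : st.z ∈ st.T := st.W_le st.z_mem

omit hp in
theorem Step.conj_mem {t u : G} (ht : t ∈ st.T) (hu : u ∈ st.T₀) : t⁻¹ * u * t ∈ st.T₀ := by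
  simpa using ((mem_normalizer_iff.1 (st.le_normalizer (inv_mem ht))) u).1 hu

omit hp in
theorem Step.z_pow_mem : st.z ^ p ∈ st.T₀ := by
  have : (st.T₀.subgroupOf st.T).Normal :=
    (normal_subgroupOf_iff_le_normalizer st.le_T).2 st.le_normalizer
  exact PGroup.pow_mem_of_index_eq (st.T₀.subgroupOf st.T) st.relIndex_eq ⟨st.z, st.z_mem_T⟩

omit hp in
theorem Step.D_mem {u : G} (hu : u ∈ st.T₀) : st.D u ∈ st.T₀ := by
  rw [Step.D, show u⁻¹ * st.z⁻¹ * u * st.z = u⁻¹ * (st.z⁻¹ * u * st.z) by group]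
  exact mul_mem (inv_mem hu) (st.conj_mem st.z_mem_T hu)

omit hp in
theorem Step.iterate_D_mem : ∀ k, st.D^[k] st.y ∈ st.T₀
  | 0 => st.y_mem
  | k + 1 => by
    rw [Function.iterate_succ_apply']
    exact st.D_mem (Step.iterate_D_mem k)

/-- `χ ((z^i)⁻¹ (D^k y) z^i)` is the iterated difference of the values `χ ((z^i)⁻¹ y z^i)`. -/
theorem Step.chi_iterate (k i : ℕ) : st.χ ((st.z ^ i)⁻¹ * st.D^[k] st.y * st.z ^ i) =
    (fwdDiff 1)^[k] st.a i := by
  induction k generalizing i with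
  | zero => rfl
  | succ k ih =>
    have hu := st.iterate_D_mem k
    have h1 := st.conj_mem (pow_mem st.z_mem_T i) hu
    have h2 := st.conj_mem (pow_mem st.z_mem_T (i + 1)) hu
    rw [Function.iterate_succ_apply', Function.iterate_succ_apply', fwdDiff, ← ih i,
      ← ih (i + 1), Step.D]
    rw [show (st.z ^ i)⁻¹ * ((st.D^[k] st.y)⁻¹ * st.z⁻¹ * st.D^[k] st.y * st.z) * st.z ^ i =
      ((st.z ^ i)⁻¹ * st.D^[k] st.y * st.z ^ i)⁻¹ *
        ((st.z ^ (i + 1))⁻¹ * st.D^[k] st.y * st.z ^ (i + 1)) by rw [pow_succ']; group,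
      st.addOn _ (inv_mem h1) _ h2, st.addOn.map_inv h1]
    abel

theorem Step.a_periodic (i : ℕ) : st.a (i + p) = st.a i := by
  rw [Step.a, Step.a, show (st.z ^ (i + p))⁻¹ * st.y * st.z ^ (i + p) =
    (st.z ^ p)⁻¹ * ((st.z ^ i)⁻¹ * st.y * st.z ^ i) * st.z ^ p by rw [pow_add]; group]
  exact st.addOn.map_conj (st.conj_mem (pow_mem st.z_mem_T i) st.y_mem) st.z_pow_mem

theorem choose_pred_sign (k : ℕ) (hk : k < p) :
    (((-1 : ℤ) ^ (p - 1 - k) * ((p - 1).choose k : ℤ) : ℤ) : ZMod p) = 1 := by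
  have hc : ∀ k, k < p → ((p - 1).choose k : ZMod p) = (-1) ^ k := by
    intro k
    induction k with
    | zero => intro _; simp
    | succ k ih =>
      intro hk
      have h1 : p.choose (k + 1) = (p - 1).choose k + (p - 1).choose (k + 1) := by
        conv_lhs => rw [← Nat.sub_add_cancel hp.out.one_le]
        rw [Nat.choose_succ_succ']
      have h2 : (p.choose (k + 1) : ZMod p) = 0 :=
        (CharP.cast_eq_zero_iff (ZMod p) p _).2 (hp.out.dvd_choose_self k.succ_ne_zero hk)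
      rw [h1, Nat.cast_add, ih (by omega)] at h2
      rw [eq_neg_of_add_eq_zero_right h2, pow_succ]
      ring
  push_cast
  rw [hc k hk, ← pow_add, Nat.sub_add_cancel (by omega)]
  exact ZMod.pow_card_sub_one_eq_one (neg_ne_zero.2 one_ne_zero)

theorem Step.diff_top (i : ℕ) :
    (fwdDiff 1)^[p - 1] st.a i = ∑ k ∈ Finset.range p, st.a (i + k) := by
  rw [fwdDiff_iter_eq_sum_shift, Nat.sub_add_cancel hp.out.one_le]
  refine Finset.sum_congr rfl fun k hk => ?_
  rw [zsmul_eq_mul, choose_pred_sign k (Finset.mem_range.1 hk), one_mul, smul_eq_mul, mul_one]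

/-- `χ ([y, z; p-1]) ≠ 0`. -/
theorem Step.chi_bracket : st.χ (st.D^[p - 1] st.y) ≠ 0 := by
  have h1 := st.chi_iterate (p - 1) 0
  simp only [pow_zero, inv_one, one_mul, mul_one] at h1
  rw [h1, st.diff_top]
  simpa [Step.a] using st.sum_ne

theorem Step.diff_vanish (i : ℕ) : (fwdDiff 1)^[p] st.a i = 0 := by
  obtain ⟨r, hr⟩ : ∃ r, p = r + 1 := ⟨p - 1, (Nat.sub_add_cancel hp.out.one_le).symm⟩
  have e : (fwdDiff (1 : ℕ))^[p] st.a = (fwdDiff 1)^[r + 1] st.a := congrArg (fun n => (fwdDiff 1)^[n] st.a) hr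
  rw [e, show r = p - 1 by omega, Function.iterate_succ_apply', fwdDiff, st.diff_top, st.diff_top, sub_eq_zero]
  have h1 : ∑ k ∈ Finset.range (p + 1), st.a (i + k) =
      ∑ k ∈ Finset.range p, st.a (i + 1 + k) + st.a i := by
    rw [Finset.sum_range_succ', add_zero]
    congr 1
    exact Finset.sum_congr rfl fun k _ => by rw [add_assoc, add_comm 1 k]
  rw [Finset.sum_range_succ, st.a_periodic] at h1
  exact (add_right_cancel h1).symm

end Bracket

end Cfsg.Agent.Transfer.Yoshida
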